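import Cfsg.Agent.H37.FkKit
import Cfsg.Agent.S5165
import Cfsg.Agent.S5166
import Cfsg.Agent.S5167
import Cfsg.Agent.S5168
import Cfsg.Agent.S5169
import Cfsg.Agent.S5170
import Cfsg.Agent.S5321
import Cfsg.Agent.S5322
import Cfsg.Agent.S5323
import Cfsg.Agent.S5324
import Cfsg.Agent.H39.ReeInst
import Cfsg.Agent.H39.ReeBasic
import Cfsg.Agent.H46.J1

/-!
# S5161, items ALT and OLD
-/

set_option autoImplicit false

namespace Cfsg.Agent.H51.FkAlt

open Cfsg Subgroup Cfsg.Agent.H37.FK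

universe u

/-- a group whose 2-elements are involutions has abelian Sylow subgroups -/
theorem fsc_of_sq (con : ConStmt.{u}) {G : Type u} [Group G] [Finite G] {K : Type*} [Group K]
    (e : G ≃* K) (h : ∀ x : K, Two x → x * x = 1) : FSC G := by
  obtain ⟨S⟩ : Nonempty (Sylow 2 G) := inferInstance
  have sq : ∀ x ∈ (S : Subgroup G), x * x = 1 := fun x hx => e.injective (by
    rw [map_mul, map_one]
    exact h _ ((Two.of_mem S.isPGroup' hx).map e.toMonoidHom))
  refine con.1 G S fun a ha b hb => ?_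
  have h1 := sq _ (mul_mem ha hb)
  calc a * b = a * (a * b * (a * b)) * b := by
        rw [h1, mul_one]
    _ = (a * a) * (b * a) * (b * b) := by group
    _ = b * a := by rw [sq a ha, sq b hb, one_mul, mul_one]

theorem alt (con : ConStmt.{u}) : AltStmt.{u} := by
  rintro G _ _ ⟨n, hn, ⟨e⟩⟩
  rcases hn.eq_or_lt with rfl | hn
  · obtain ⟨S⟩ : Nonempty (Sylow 2 G) := inferInstance
    have hG : Nat.card G = 2 ^ 2 * 15 := by
      rw [Nat.card_congr e.toEquiv, nat_card_alternatingGroup]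
      simp [Nat.factorial]
    have hS : Nat.card S = 2 ^ 2 := by
      rw [S.card_eq_multiplicity, hG, Nat.factorization_mul (by norm_num) (by norm_num),
        Nat.Prime.factorization_pow Nat.prime_two, Finsupp.add_apply,
        Nat.factorization_eq_zero_of_not_dvd (by norm_num)]
      simp
    refine con.1 G S fun a ha b hb => ?_
    exact congrArg Subtype.val
      (IsPGroup.commutative_of_card_eq_prime_sq hS (⟨a, ha⟩ : S) ⟨b, hb⟩)
  · exact con.2.2 G _ e fun S => Or.inl (S5165.result n 2 hn (by omega) (by omega) S)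

theorem old (con : ConStmt.{u}) : OldStmt.{u} := by
  rintro G _ _ (⟨⟨e⟩⟩ | ⟨⟨e⟩⟩ | ⟨⟨e⟩⟩ | ⟨⟨e⟩⟩ | ⟨⟨e⟩⟩ | ⟨⟨e⟩⟩ | h | h | h | h |
    ⟨K, _, _, m, -, hK, ⟨e⟩⟩)
  · exact con.2.2 G _ e fun S => Or.inl (S5166.result S)
  · exact con.2.2 G _ e fun S => Or.inl (S5167.result S)
  · exact con.2.2 G _ e fun S => Or.inl (S5168.result S)
  · exact con.2.2 G _ e fun S => Or.inl (S5169.result S)
  · exact con.2.2 G _ e fun S => Or.inl (S5170.result S)
  · refine fsc_of_sq con e fun x ⟨k, hk⟩ => ?_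
    by_cases h1 : x = 1
    · rw [h1, one_mul]
    obtain ⟨c, hc⟩ := H46.J1.conj_t (g := x) hk h1
    have h2 : H46.J1.t * H46.J1.t = 1 := by rw [← sq, ← H46.J1.ord_t, pow_orderOf_eq_one]
    rw [← hc, conj_mul, h2, mul_one, mul_inv_cancel]
  · exact fun S => Or.inl (S5321.result h S)
  · exact fun S => Or.inl (S5322.result h S)
  · exact fun S => Or.inl (S5323.result h S)
  · exact fun S => Or.inl (S5324.result h S)
  · refine fsc_of_sq con e fun x hx => ?_
    obtain ⟨S, -, -, -⟩ := H39.exists_ree hK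
    have := H39.reeCard_of_card hK
    obtain ⟨P, hP⟩ := hx.zpowers.exists_le_sylow
    exact S.mul_self_of_mem_sylow P (hP (mem_zpowers x))

end Cfsg.Agent.H51.FkAlt
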