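import Cfsg.Agent.H46.J1Defs
import Cfsg.Agent.H87.Transfer

/-!
# `T⟨t⟩` is not a Sylow subgroup when `T` is abelian of order at least 32
-/

set_option autoImplicit false
open scoped Pointwise
open Subgroup

namespace Cfsg.Agent.H51.S94JAb
open Cfsg.Agent.H46.S94 Cfsg.Agent.H8

universe u

local notation "C[" A "]" => Subgroup.centralizer (SetLike.coe A)
local notation "N[" A "]" => Subgroup.normalizer (SetLike.coe A)

section
variable {G : Type u} [Group G]

theorem memS {T : Subgroup G} {t : G} (tt : t * t = 1) (tN : t ∈ N[T]) {x : G}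
    (hx : x ∈ St1 T t) : x ∈ T ∨ x * t ∈ T := by
  have ti : t⁻¹ = t := inv_eq_of_mul_eq_one_right tt
  have cj : ∀ y ∈ T, t * y * t ∈ T := fun y hy => by
    simpa [ti] using (mem_normalizer_iff.1 tN y).1 hy
  let S : Subgroup G :=
    { carrier := {x | x ∈ T ∨ x * t ∈ T}
      one_mem' := Or.inl T.one_mem
      mul_mem' := by
        rintro a b (ha | ha) (hb | hb)
        · exact Or.inl (T.mul_mem ha hb)
        · exact Or.inr (by simpa [mul_assoc] using T.mul_mem ha hb)
        · refine Or.inr ?_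
          have e : a * b * t = a * t * (t * b * t) := by
            calc a * b * t = a * (t * t) * b * t := by rw [tt, mul_one]
              _ = _ := by group
          rw [e]
          exact T.mul_mem ha (cj b hb)
        · refine Or.inl ?_
          have e : a * b = a * t * (t * (b * t) * t) := by
            calc a * b = a * (t * t) * b * (t * t) := by rw [tt, mul_one, mul_one]
              _ = _ := by group
          rw [e]
          exact T.mul_mem ha (cj _ hb)
      inv_mem' := by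
        rintro a (ha | ha)
        · exact Or.inl (T.inv_mem ha)
        · refine Or.inr ?_
          have e : a⁻¹ * t = t * (a * t)⁻¹ * t := by
            rw [mul_inv_rev, ti, ← mul_assoc, tt, one_mul]
          rw [e]
          exact cj _ (T.inv_mem ha) }
  have : St1 T t ≤ S :=
    sup_le (fun y hy => Or.inl hy) (zpowers_le.2 (Or.inr (by rw [tt]; exact T.one_mem)))
  exact this hx

theorem relS {T : Subgroup G} {t : G} (tt : t * t = 1) (tN : t ∈ N[T]) (tT : t ∉ T) :
    T.relIndex (St1 T t) = 2 := by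
  refine index_eq_two_iff.2 ⟨⟨t, mem_sup_right (mem_zpowers t)⟩, fun b => ?_⟩
  simp only [mem_subgroupOf, coe_mul]
  rcases memS tt tN b.2 with h | h
  · exact Or.inr ⟨h, fun k => tT ((T.mul_mem_cancel_left h).1 k)⟩
  · exact Or.inl ⟨h, fun k => tT ((T.mul_mem_cancel_left k).1 h)⟩

theorem le_of_index_two [Finite G] {F K : Subgroup G} (hF : AS F) [K.Normal] (hK : K.index = 2) :
    F ≤ K := by
  have := hF.simple
  rcases (inferInstance : (K.subgroupOf F).Normal).eq_bot_or_eq_top with e | e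
  · refine absurd ⟨⟨fun a b => ?_⟩⟩ hF.nc
    have m : ((a * b * a⁻¹ * b⁻¹ : F) : G) ∈ K := by
      simp only [coe_mul, coe_inv, mul_mem_iff_of_index_two hK, inv_mem_iff]
      tauto
    have : a * b * a⁻¹ * b⁻¹ ∈ K.subgroupOf F := m
    rw [e, mem_bot] at this
    exact commutatorElement_eq_one_iff_mul_comm.1 this
  · exact subgroupOf_eq_top.1 e

theorem small {X : Type*} [Group X] [Finite X] (hX : IsPGroup 2 X)
    (h : Nat.card X ∣ 175560) : Nat.card X ≤ 8 := by
  have : Fact (Nat.Prime 2) := ⟨Nat.prime_two⟩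
  obtain ⟨n, hn⟩ := IsPGroup.iff_card.1 hX
  rw [hn] at h ⊢
  have h2 : n ≤ 3 := by
    by_contra h3
    exact absurd ((pow_dvd_pow 2 (by omega : 4 ≤ n)).trans h) (by norm_num)
  exact Nat.pow_le_pow_right two_pos h2

end

section
variable {Γ : Type} [Group Γ] {G : Type u} [Group G] {φ : Γ →* G} {t : G} {O : Subgroup G}
  {z σ ρ : Γ} {V L : Subgroup Γ} (jf : J1F z σ ρ V L) (h : Cx φ t O)
include jf h

theorem dec {c : G} (hc : c * t = t * c) {n : ℕ} (h2 : c ^ 2 ^ n = 1) :
    ∃ a, c = φ a ∨ c = t * φ a := by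
  obtain ⟨α, hα⟩ := h.aut hc
  obtain ⟨a, e⟩ := jf.inn α
  obtain ⟨o, ho, rfl | rfl⟩ := h.split' hc hα e
  · rw [h.o_one_of jf.base ho (h.oA ho a) (m := 0) ⟨a, by simp⟩ h2]
    exact ⟨a, Or.inl (mul_one _)⟩
  · rw [h.o_one_of jf.base ho (x := φ a * t)
      (by rw [mul_assoc, ← h.Ot o ho, ← mul_assoc, h.oA ho, mul_assoc]) (m := 1)
      ⟨a * a, by rw [pow_one, sq, mul_assoc, ← mul_assoc t, ← h.AC, mul_assoc, h.tt, mul_one,
        map_mul]⟩ h2]
    exact ⟨a, Or.inr (by rw [mul_one, h.AC])⟩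

theorem card_le [Finite G] {Q : Subgroup G} (hQ : IsPGroup 2 Q) (tQ : t ∈ Q)
    (hc : ∀ x ∈ Q, x * t = t * x) : Nat.card Q ≤ 16 := by
  have := jf.base.fin
  have pW : IsPGroup 2 (Q.comap φ) := hQ.comap_of_injective φ h.inj
  have cW : ((Q.comap φ : Subgroup Γ) : Set Γ).ncard ≤ 8 :=
    small pW (jf.card ▸ card_subgroup_dvd_card _)
  have sub : (Q : Set G) ⊆ φ '' (Q.comap φ : Subgroup Γ) ∪
      (fun a => t * φ a) '' (Q.comap φ : Subgroup Γ) := fun x hx => by
    obtain ⟨n, hn⟩ := hQ ⟨x, hx⟩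
    obtain ⟨a, rfl | rfl⟩ := dec jf h (hc x hx) (n := n) (by simpa using congrArg Subtype.val hn)
    · exact Or.inl ⟨a, hx, rfl⟩
    · exact Or.inr ⟨a, (Q.mul_mem_cancel_left tQ).1 hx, rfl⟩
  have h1 := Set.ncard_le_ncard sub (Set.toFinite _)
  have h2 := Set.ncard_union_le (φ '' (Q.comap φ : Subgroup Γ))
    ((fun a => t * φ a) '' (Q.comap φ : Subgroup Γ))
  have h3 := Set.ncard_image_le (f := φ) (s := ((Q.comap φ : Subgroup Γ) : Set Γ)) (Set.toFinite _)
  have h4 := Set.ncard_image_le (f := fun a => t * φ a) (s := ((Q.comap φ : Subgroup Γ) : Set Γ))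
    (Set.toFinite _)
  have h5 : Nat.card Q = (Q : Set G).ncard := rfl
  omega

omit h in
theorem fpfV {a : Γ} (ha : a ∈ V) (e : σ * a = a * σ) : a = 1 := by
  have := jf.base.fin
  by_contra a1
  have c : Commute σ a := e
  obtain ⟨i, hi⟩ := jf.tr a ha a1
  have ez : z = a := by
    calc z = (σ ^ i)⁻¹ * (σ ^ i * z * (σ ^ i)⁻¹) * σ ^ i := by group
      _ = a := by rw [hi, mul_assoc, ← (c.pow_left i).eq]; group
  have sub : (V : Set Γ) ⊆ {1, a} := fun v hv => by
    by_cases v1 : v = 1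
    · exact Or.inl v1
    obtain ⟨j, hj⟩ := jf.tr v hv v1
    refine Or.inr ?_
    rw [← hj, ez, (c.pow_left j).eq]
    simp
  have h1 := Set.ncard_le_ncard sub (Set.toFinite _)
  have h2 := Set.ncard_insert_le 1 ({a} : Set Γ)
  have h3 : (V : Set Γ).ncard = 8 := jf.cV
  rw [Set.ncard_singleton] at h2
  omega

variable {T : Subgroup G} (tf : TF t (φ σ) (φ ρ) O (V.map φ) T)
include tf

theorem cT {x : G} (hx : x ∈ T) (hc : x * t = t * x) : ∃ a ∈ V, x = φ a := by
  obtain ⟨n, hn⟩ := tf.two ⟨x, hx⟩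
  have k : ∀ a, (∀ v ∈ V, φ v * φ a = φ a * φ v) → a ∈ V := fun a e =>
    jf.CV fun v hv => h.inj (by rw [map_mul, map_mul, e v hv])
  obtain ⟨a, rfl | rfl⟩ := dec jf h hc (n := n) (by simpa using congrArg Subtype.val hn)
  · exact ⟨a, k a fun v hv => tf.ab _ (tf.VT ⟨v, hv, rfl⟩) _ hx, rfl⟩
  · have m : a ∈ V := k a fun v hv => by
      have := tf.ab _ (tf.VT ⟨v, hv, rfl⟩) _ hx
      rw [← mul_assoc, h.AC, mul_assoc, mul_assoc] at this
      exact mul_left_cancel this
    exact absurd ((T.mul_mem_cancel_right (tf.VT ⟨a, m, rfl⟩)).1 hx) tf.tT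

theorem fpf {x : G} (hx : x ∈ T) (e : φ σ * x = x * φ σ) : x = 1 := by
  have k : ∀ y ∈ T, φ σ * y = y * φ σ → y * t = t * y → y = 1 := fun y hy e1 e2 => by
    obtain ⟨a, ha, rfl⟩ := cT jf h tf hy e2
    rw [fpfV jf ha (h.inj (by rw [map_mul, map_mul, e1])), map_one]
  have k2 : ∀ y ∈ T, φ σ * y = y * φ σ → y * y = 1 → y = 1 := fun y hy e1 e2 => by
    have m : t * y * t⁻¹ ∈ T := (mem_normalizer_iff.1 tf.tN y).1 hy
    have c1 : Commute (φ σ) t := h.AC σ
    have c2 : Commute (φ σ) y := e1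
    have e3 := k _ (T.mul_mem hy m) (c2.mul_right ((c1.mul_right c2).mul_right c1.inv_right)) (by
      calc y * (t * y * t⁻¹) * t = y * t * y := by group
        _ = t * (t * y * t⁻¹ * y) := by
          rw [h.tinv, ← mul_assoc, ← mul_assoc, ← mul_assoc, h.tt, one_mul]
        _ = _ := by rw [← tf.ab y hy _ m])
    refine k y hy e1 ?_
    have e4 : t * y * t⁻¹ = y := by
      rw [← mul_right_inj y, e3, e2]
    calc y * t = t * y * t⁻¹ * t := by rw [e4]
      _ = t * y := by group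
  obtain ⟨n, hn⟩ := tf.two ⟨x, hx⟩
  have hn' : x ^ 2 ^ n = 1 := by simpa using congrArg Subtype.val hn
  clear hn
  induction n with
  | zero => simpa using hn'
  | succ n ih =>
    refine ih (k2 _ (T.pow_mem hx _) ((show Commute (φ σ) x from e).pow_right _) ?_)
    rw [← hn', pow_succ, pow_mul, sq]

theorem le_F [Finite G] {F : Subgroup G} [hF : F.Normal] (sF : φ σ ∈ F) : T ≤ F := by
  let f : T → T := fun a => ⟨(a : G)⁻¹ * (φ σ * a * (φ σ)⁻¹),
    mul_mem (inv_mem a.2) ((mem_normalizer_iff.1 tf.sN _).1 a.2)⟩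
  have inj : Function.Injective f := fun a b e => by
    have e1 : (a : G)⁻¹ * (φ σ * a * (φ σ)⁻¹) = (b : G)⁻¹ * (φ σ * b * (φ σ)⁻¹) :=
      congrArg Subtype.val e
    have := fpf jf h tf (T.mul_mem b.2 (T.inv_mem a.2)) (by
      calc φ σ * (b * (a : G)⁻¹) = b * ((b : G)⁻¹ * (φ σ * b * (φ σ)⁻¹)) * φ σ * (a : G)⁻¹ := by
            group
        _ = _ := by
          rw [← e1]
          group)
    exact Subtype.ext (mul_inv_eq_one.1 this).symm
  intro x hx
  obtain ⟨a, e⟩ := Finite.injective_iff_surjective.1 inj ⟨x, hx⟩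
  have e1 : (a : G)⁻¹ * (φ σ * a * (φ σ)⁻¹) = x := congrArg Subtype.val e
  rw [← e1]
  have := mul_mem (hF.conj_mem _ sF (a : G)⁻¹) (inv_mem sF)
  simpa [mul_assoc] using this

end

theorem jAb (hA : AbSStmt.{u}) : JAbStmt.{u} := by
  intro Γ _ G _ _ φ F t O T z σ ρ V L c tf h32 hS
  have : Fact (Nat.Prime 2) := ⟨Nat.prime_two⟩
  have jf := c.jf
  have h := c.cx
  have := jf.base.fin
  have := c.as.normal
  have nc : ∀ g : G, g * t * g⁻¹ ∉ T := fun g hg => by
    have := card_le jf h (isPGroup_conj_smul tf.two g⁻¹) (mem_conj_smul.2 (by simpa using hg))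
      fun x hx => by
        have e := tf.ab _ (mem_conj_smul.1 hx) _ hg
        calc x * t = g⁻¹ * (g⁻¹⁻¹ * x * g⁻¹ * (g * t * g⁻¹)) * g := by group
          _ = _ := by rw [e]; group
    rw [card_conj_smul] at this
    omega
  obtain ⟨K, hK, k2, tK⟩ := H87.thompson_transfer_involution (H := St1 T t) (M := T)
    (H87.odd_index_sylow hS.toSylowTop) (relS h.tt tf.tN tf.tT) (by rw [sq, h.tt]) nc
  have tF : t ∉ F := fun m => tK (le_of_index_two c.as k2 m)
  have TF : T ≤ F := le_F jf h tf (c.AF ⟨σ, rfl⟩)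
  have e : St1 T t ⊓ F = T := le_antisymm (fun x hx => (memS h.tt tf.tN hx.1).resolve_right
    fun m => tF ((F.mul_mem_cancel_left hx.2).1 (TF m))) (le_inf le_sup_left TF)
  have syl : IsSylowIn 2 T F := by
    have := isSylowIn_inf_normal hS.toSylowTop F
    rwa [hS.coe_toSylowTop, e] at this
  have dv : 175560 ∣ Nat.card F := by
    rw [← jf.card, Nat.card_congr (MonoidHom.ofInjective h.inj).toEquiv]
    exact card_dvd_of_le c.AF
  have : Fact (Nat.Prime 5) := ⟨by norm_num⟩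
  obtain ⟨i⟩ := jf.iso
  obtain ⟨a, ha⟩ := exists_prime_orderOf_dvd_card' (G := L) 5 (by
    rw [Nat.card_congr i.toEquiv, Nat.card_eq_fintype_card, card_alternatingGroup]
    decide)
  have cF := hA G F T (φ z) (φ a) c.as.simple syl tf.ab dv (c.AF ⟨z, rfl⟩) (c.AF ⟨a, rfl⟩)
    (by rw [orderOf_injective φ h.inj]
        exact orderOf_eq_prime (by rw [sq, jf.el z jf.zV]) jf.z1)
    (by rw [orderOf_injective φ h.inj, orderOf_coe, ha])
    (by rw [← map_mul, ← map_mul, mem_Cz.1 (jf.Lz a.2)])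
  have := small tf.two (cF ▸ card_dvd_of_le TF)
  omega

end Cfsg.Agent.H51.S94JAb
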