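import Mathlib
import Cfsg.Agent.H7.StrongClosed
import Cfsg.Agent.H51.Constraint

/-!
# Top powers of the centre of a Sylow 2-subgroup control fusion; the Camina–Herzog theorem
-/

set_option autoImplicit false

namespace Cfsg.Agent.H51

open Subgroup H8
open scoped Pointwise

universe u

section mho

variable {G : Type*} [Group G]

/-- The `k`-th powers of the elements of `Z(H)`. -/
def mhoZ (k : ℕ) (H : Subgroup G) : Subgroup G where
  carrier := {x | ∃ z ∈ H ⊓ centralizer (H : Set G), z ^ k = x}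
  one_mem' := ⟨1, one_mem _, one_pow k⟩
  mul_mem' := by
    rintro _ _ ⟨a, ha, rfl⟩ ⟨b, hb, rfl⟩
    exact ⟨a * b, mul_mem ha hb, Commute.mul_pow (hb.2 a ha.1) k⟩
  inv_mem' := by
    rintro _ ⟨a, ha, rfl⟩
    exact ⟨a⁻¹, inv_mem ha, inv_pow a k⟩

theorem mem_mhoZ {k : ℕ} {H : Subgroup G} {x : G} :
    x ∈ mhoZ k H ↔ ∃ z ∈ H ⊓ centralizer (H : Set G), z ^ k = x := Iff.rfl

theorem mhoZ_le (k : ℕ) (H : Subgroup G) : mhoZ k H ≤ H ⊓ centralizer (H : Set G) := by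
  rintro _ ⟨z, hz, rfl⟩; exact pow_mem hz k

theorem normalizer_le_normalizer_mhoZ [Finite G] (k : ℕ) (H : Subgroup G) :
    normalizer (H : Set G) ≤ normalizer (mhoZ k H : Set G) := by
  rw [le_normalizer_iff]
  rintro g hg _ ⟨z, hz, rfl⟩
  refine ⟨g * z * g⁻¹, ?_, by rw [conj_pow]⟩
  exact (mem_normalizer_iff.mp (normalizer_le_normalizer_inf_centralizer H hg) z).mp hz

theorem exists_not_mem_sq_mem [Finite G] {H T : Subgroup G} (hT : IsPGroup 2 T) (h : H < T) :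
    ∃ a ∈ T, a ∉ H ∧ a ^ 2 ∈ H := by
  classical
  obtain ⟨a, haT, haH⟩ := SetLike.exists_of_lt h
  obtain ⟨k, hk⟩ := hT ⟨a, haT⟩
  have hk' : a ^ 2 ^ k = 1 := by simpa using congrArg Subtype.val hk
  have hex : ∃ j, a ^ 2 ^ j ∈ H := ⟨k, by rw [hk']; exact one_mem _⟩
  have h0 : Nat.find hex ≠ 0 := by
    intro h0; have := Nat.find_spec hex; rw [h0] at this; exact haH (by simpa using this)
  obtain ⟨j, hj⟩ := Nat.exists_eq_succ_of_ne_zero h0
  refine ⟨a ^ 2 ^ j, pow_mem haT _, Nat.find_min hex (by omega), ?_⟩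
  have := Nat.find_spec hex
  rwa [hj, pow_succ, pow_mul] at this

/-- If `S` has exponent dividing `2 ^ (e + 1)` then `N(℧^e(Z(S)))` controls fusion in `S`. -/
theorem controls_fusion_mhoZ [Finite G] (S : Sylow 2 G) {e : ℕ}
    (he : ∀ s ∈ (S : Subgroup G), s ^ 2 ^ (e + 1) = 1) {A : Set G} (hA : A ⊆ (S : Set G)) {g : G}
    (hg : (fun a => g⁻¹ * a * g) '' A ⊆ (S : Set G)) :
    ∃ k ∈ normalizer (mhoZ (2 ^ e) (S : Subgroup G) : Set G), ∀ a ∈ A,
      k⁻¹ * a * k = g⁻¹ * a * g := by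
  refine H7.controls_fusion_of_ess S _
    (fun y hy => ⟨y, normalizer_le_normalizer_mhoZ _ _ hy, fun _ _ => rfl⟩) ?_ hA hg
  intro H x hx
  refine ⟨x, ?_, fun _ _ => rfl⟩
  have hE := hx.1
  set U := mhoZ (2 ^ e) H with hU
  set Y := normalizer (H : Set G) ⊓ centralizer (U : Set G) with hY
  have hHY : H ≤ Y := le_inf le_normalizer fun h hh u hu => ((mhoZ_le _ _ hu).2 h hh).symm
  have hNY : normalizer (H : Set G) ≤ normalizer (Y : Set G) :=
    H83.le_norm_inf le_normalizer (H83.le_norm_cent (normalizer_le_normalizer_mhoZ _ _))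
  obtain ⟨a, ha, haH, ha2⟩ := exists_not_mem_sq_mem (S.2.to_inf_left) (hE.lt_inf_normalizer S.2)
  have haY : a ∈ Y := by
    refine ⟨ha.2, ?_⟩
    rintro _ ⟨v, hv, rfl⟩
    have hva : a⁻¹ * v * a ∈ H ⊓ centralizer (H : Set G) := by
      have := (mem_normalizer_iff.mp
        (normalizer_le_normalizer_inf_centralizer H (inv_mem ha.2)) v).mp hv
      simpa using this
    have h1 : (a * v) ^ 2 = a ^ 2 * ((a⁻¹ * v * a) * v) := by rw [pow_two, pow_two]; group
    have h2 : (a * v) ^ 2 ^ (e + 1) = 1 := he _ (mul_mem ha.1 (hE.le hv.1))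
    have h3 : a ^ 2 ^ (e + 1) = 1 := he _ ha.1
    have h4 : v ^ 2 ^ (e + 1) = 1 := he _ (hE.le hv.1)
    rw [pow_succ', pow_mul] at h2 h3
    have c1 : Commute (a ^ 2) ((a⁻¹ * v * a) * v) := (mul_mem hva hv).2 _ ha2
    have c2 : Commute (a⁻¹ * v * a) v := hv.2 _ hva.1
    rw [h1, c1.mul_pow, h3, one_mul, c2.mul_pow] at h2
    have h5 : (a⁻¹ * v * a) ^ 2 ^ e = a⁻¹ * v ^ 2 ^ e * a := by
      have := conj_pow (a := a⁻¹) (b := v) (i := 2 ^ e)
      simpa using this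
    rw [h5] at h2
    rw [pow_succ, pow_mul, pow_two] at h4
    have h6 : a⁻¹ * v ^ 2 ^ e * a = v ^ 2 ^ e := by
      rw [eq_inv_of_mul_eq_one_left h2, eq_inv_of_mul_eq_one_left h4, inv_inv]
      exact eq_inv_of_mul_eq_one_left h4
    calc v ^ 2 ^ e * a = a * (a⁻¹ * v ^ 2 ^ e * a) := by group
      _ = a * v ^ 2 ^ e := by rw [h6]
  have hdvd : 2 ∣ H.relIndex Y := by
    rw [← H7.lt_inf_iff_dvd_relIndex hE.syl inf_le_left hNY
      (le_inf hE.le le_normalizer) hHY]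
    exact lt_of_le_of_ne (le_inf (le_inf hE.le le_normalizer) hHY)
      fun h => haH (h.ge ⟨ha, haY⟩)
  have hxY : x ∈ Y := map_subtype_le _ (hx.2 Y hHY inf_le_left hNY hdvd)
  have hWU : mhoZ (2 ^ e) (S : Subgroup G) ≤ U := by
    rintro _ ⟨z, hz, rfl⟩
    have hzc : z ∈ centralizer (H : Set G) := fun h hh => hz.2 h (hE.le hh)
    exact ⟨z, ⟨hE.cent ⟨hz.1, hzc⟩, hzc⟩, rfl⟩
  exact centralizer_le_normalizer _ (fun w hw => hxY.2 w (hWU hw))

end mho

/-- Every 2-element of `G` centralizes a Sylow 2-subgroup. -/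
def TwoCentral (G : Type*) [Group G] : Prop :=
  ∀ x : G, (∃ k : ℕ, x ^ 2 ^ k = 1) → ∃ Q : Sylow 2 G, (Q : Subgroup G) ≤ centralizer ({x} : Set G)

theorem TwoCentral.exists_conj {G : Type*} [Group G] [Finite G] (h : TwoCentral G) (S : Sylow 2 G)
    {x : G} (hx : ∃ k : ℕ, x ^ 2 ^ k = 1) :
    ∃ g : G, g⁻¹ * x * g ∈ (S : Subgroup G) ⊓ centralizer ((S : Subgroup G) : Set G) := by
  obtain ⟨Q, hQ⟩ := h x hx
  obtain ⟨g, rfl⟩ := MulAction.exists_smul_eq G S Q
  have hc : g⁻¹ * x * g ∈ centralizer ((S : Subgroup G) : Set G) := by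
    intro s hs
    have h1 : g * s * g⁻¹ ∈ ((g • S : Sylow 2 G) : Subgroup G) := by
      rw [Sylow.coe_subgroup_smul]; exact conj_mem_conj_smul.2 hs
    have h2 := hQ h1 x rfl
    calc s * (g⁻¹ * x * g) = g⁻¹ * (g * s * g⁻¹ * x) * g := by group
      _ = g⁻¹ * (x * (g * s * g⁻¹)) * g := by rw [h2]
      _ = g⁻¹ * x * g * s := by group
  refine ⟨g, ?_, hc⟩
  obtain ⟨k, hk⟩ := hx
  have hp : IsPGroup 2 (zpowers (g⁻¹ * x * g)) := by
    rintro ⟨_, n, rfl⟩
    refine ⟨k, Subtype.ext ?_⟩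
    have h1 : (g⁻¹ * x * g) ^ 2 ^ k = 1 := by
      have := conj_pow (a := g⁻¹) (b := x) (i := 2 ^ k)
      rw [inv_inv, hk] at this; simpa using this
    simp only [SubmonoidClass.coe_pow, OneMemClass.coe_one]
    rw [← zpow_natCast, ← zpow_mul, mul_comm, zpow_mul, zpow_natCast, h1, one_zpow]
  have h2 : IsPGroup 2 ((S : Subgroup G) ⊔ zpowers (g⁻¹ * x * g) : Subgroup G) :=
    IsPGroup.to_sup_of_normal_left' S.2 hp
      ((zpowers_le.2 hc).trans (centralizer_le_normalizer _))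
  have h3 := S.3 h2 le_sup_left
  exact h3.le (mem_sup_right (mem_zpowers _))

theorem TwoCentral.quotient {G : Type*} [Group G] [Finite G] (h : TwoCentral G) (N : Subgroup G)
    [N.Normal] : TwoCentral (G ⧸ N) := by
  rintro y ⟨k, hk⟩
  obtain ⟨a, rfl⟩ := QuotientGroup.mk'_surjective N y
  obtain ⟨b, -, hb, hj⟩ := exists_pelt_lift (p := 2) (QuotientGroup.mk' N) a hk
  obtain ⟨Q, hQ⟩ := h b hj
  refine ⟨Q.mapSurjective (QuotientGroup.mk'_surjective N), ?_⟩
  rintro _ ⟨q, hq, rfl⟩ _ rfl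
  rw [← hb, ← map_mul, ← map_mul, hQ hq b rfl]

theorem TwoCentral.of_controls {G : Type*} [Group G] [Finite G] (h : TwoCentral G) (S : Sylow 2 G)
    {K : Subgroup G} (hSK : (S : Subgroup G) ≤ K)
    (hK : ∀ a ∈ (S : Subgroup G), ∀ g : G, g⁻¹ * a * g ∈ (S : Subgroup G) →
      ∃ k ∈ K, k⁻¹ * a * k = g⁻¹ * a * g) : TwoCentral K := by
  rintro x ⟨j, hj⟩
  have hS := isSylowIn_of_le S hSK
  have hj' : (x : G) ^ 2 ^ j = 1 := by simpa using congrArg Subtype.val hj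
  have hp : IsPGroup 2 (zpowers (x : G)) := by
    rintro ⟨_, n, rfl⟩
    refine ⟨j, Subtype.ext ?_⟩
    simp only [SubmonoidClass.coe_pow, OneMemClass.coe_one]
    rw [← zpow_natCast, ← zpow_mul, mul_comm, zpow_mul, zpow_natCast, hj', one_zpow]
  obtain ⟨c, hc, hcx⟩ := hS.exists_conj_le hp (zpowers_le.2 x.2)
  have h1 : c * x * c⁻¹ ∈ (S : Subgroup G) := hcx (conj_mem_conj_smul.2 (mem_zpowers _))
  obtain ⟨g, hg⟩ := h.exists_conj S (x := c * x * c⁻¹) ⟨j, by rw [conj_pow, hj']; simp⟩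
  obtain ⟨k, hk, hk'⟩ := hK _ h1 g hg.1
  rw [← hk'] at hg
  let m : K := ⟨c⁻¹ * k, mul_mem (inv_mem hc) hk⟩
  refine ⟨m • hS.toSylow, ?_⟩
  intro q hq _ hx
  rw [Set.mem_singleton_iff.1 hx]
  rw [Sylow.coe_subgroup_smul, mem_conj_smul] at hq
  have hq' : (c⁻¹ * k)⁻¹ * q * (c⁻¹ * k) ∈ (S : Subgroup G) := hq
  have h2 := hg.2 _ hq'
  apply Subtype.ext
  simp only [coe_mul]
  calc (x : G) * q = (c⁻¹ * k) * (k⁻¹ * (c * x * c⁻¹) * k * ((c⁻¹ * k)⁻¹ * q * (c⁻¹ * k))) *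
        (c⁻¹ * k)⁻¹ := by group
    _ = (c⁻¹ * k) * ((c⁻¹ * k)⁻¹ * q * (c⁻¹ * k) * (k⁻¹ * (c * x * c⁻¹) * k)) * (c⁻¹ * k)⁻¹ := by
      rw [← h2]
    _ = q * x := by group

theorem sylow_comm_of_twoCentral_aux (n : ℕ) : ∀ (G : Type u) [Group G] [Finite G],
    Nat.card G = n → TwoCentral G → ∀ S : Sylow 2 G, IsMulCommutative (S : Subgroup G) := by
  induction n using Nat.strong_induction_on with
  | _ n ih =>
  intro G _ _ hn h S
  classical
  by_cases hbot : (S : Subgroup G) = ⊥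
  · rw [hbot]; infer_instance
  have hex : ∃ e, ∀ s ∈ (S : Subgroup G), s ^ 2 ^ e = 1 := by
    obtain ⟨e, he⟩ := IsPGroup.iff_card.1 S.2
    refine ⟨e, fun s hs => ?_⟩
    have := pow_card_eq_one' (G := (S : Subgroup G)) (x := ⟨s, hs⟩)
    rw [he] at this; simpa using congrArg Subtype.val this
  have h0 : Nat.find hex ≠ 0 := by
    intro h0; have := Nat.find_spec hex; rw [h0] at this
    exact hbot (eq_bot_iff.2 fun s hs => by simpa using this s hs)
  obtain ⟨e, he⟩ := Nat.exists_eq_succ_of_ne_zero h0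
  have he1 : ∀ s ∈ (S : Subgroup G), s ^ 2 ^ (e + 1) = 1 := by
    have := Nat.find_spec hex; rwa [he] at this
  have he2 := Nat.find_min hex (m := e) (by omega)
  push Not at he2
  obtain ⟨x, hxS, hx⟩ := he2
  set W := mhoZ (2 ^ e) (S : Subgroup G) with hW
  have hWne : W ≠ ⊥ := by
    obtain ⟨g, hg⟩ := h.exists_conj S (x := x) ⟨_, he1 x hxS⟩
    intro hb
    have h1 : (g⁻¹ * x * g) ^ 2 ^ e ∈ W := ⟨_, hg, rfl⟩
    rw [hb, mem_bot] at h1
    have := conj_pow (a := g⁻¹) (b := x) (i := 2 ^ e)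
    rw [inv_inv, h1] at this
    apply hx
    calc x ^ 2 ^ e = g * (g⁻¹ * x ^ 2 ^ e * g) * g⁻¹ := by group
      _ = 1 := by rw [← this]; simp
  set K := normalizer (W : Set G) with hK
  have hSK : (S : Subgroup G) ≤ K := le_normalizer.trans (normalizer_le_normalizer_mhoZ _ _)
  by_cases hKt : K = ⊤
  · have : W.Normal := normalizer_eq_top_iff.1 hKt
    have hlt : Nat.card (G ⧸ W) < n := by
      rw [← hn, card_eq_card_quotient_mul_card_subgroup W]
      exact lt_mul_of_one_lt_right Nat.card_pos (one_lt_card_iff_ne_bot _ |>.2 hWne)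
    have := ih _ hlt (G ⧸ W) rfl (h.quotient W) (S.mapSurjective (QuotientGroup.mk'_surjective W))
    rw [isMulCommutative_iff_le_centralizer]
    intro y hy
    obtain ⟨g, hg⟩ := h.exists_conj S (x := y) ⟨_, he1 y hy⟩
    set z := g⁻¹ * y * g with hz
    obtain ⟨m, hm, hm'⟩ := (S.mapSurjective (QuotientGroup.mk'_surjective W)
      ).conj_eq_normalizer_conj_of_mem (QuotientGroup.mk' W z) (QuotientGroup.mk' W g⁻¹)
      ⟨z, hg.1, rfl⟩ ⟨y, hy, by rw [← map_inv, ← map_mul, ← map_mul, hz]; congr 1; group⟩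
    obtain ⟨m, rfl⟩ := QuotientGroup.mk'_surjective W m
    have hWS : W ≤ (S : Subgroup G) := (mhoZ_le _ _).trans inf_le_left
    have hmN : m ∈ normalizer ((S : Subgroup G) : Set G) := by
      apply mem_normalizer_of_conj_smul_le
      intro s hs
      rw [mem_conj_smul] at hs
      have h1 := (mem_normalizer_iff.1 hm (QuotientGroup.mk' W (m⁻¹ * s * m))).1 ⟨_, hs, rfl⟩
      rw [← map_inv, ← map_mul, ← map_mul] at h1
      obtain ⟨t, ht, ht'⟩ := h1
      obtain ⟨w, hw, hw'⟩ := (QuotientGroup.mk'_eq_mk' W).1 ht'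
      have : s = t * w := by rw [hw']; group
      rw [this]; exact mul_mem ht (hWS hw)
    rw [← map_inv, ← map_inv, ← map_mul, ← map_mul, ← map_mul, ← map_mul] at hm'
    obtain ⟨w, hw, hw'⟩ := (QuotientGroup.mk'_eq_mk' W).1 hm'.symm
    have h2 : m⁻¹ * z * m ∈ (S : Subgroup G) ⊓ centralizer ((S : Subgroup G) : Set G) := by
      have := (mem_normalizer_iff.mp
        (normalizer_le_normalizer_inf_centralizer (S : Subgroup G) (inv_mem hmN)) z).mp hg
      simpa using this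
    have h3 : y = m⁻¹ * z * m * w := by rw [hw', hz]; group
    rw [h3]
    exact mul_mem h2.2 (mhoZ_le _ _ hw).2
  · have hlt : Nat.card K < n := by
      rw [← hn, ← K.card_mul_index]
      exact lt_mul_of_one_lt_right Nat.card_pos (one_lt_index_of_ne_top hKt)
    have hK' : TwoCentral K := h.of_controls S hSK fun a ha g hg => by
      obtain ⟨k, hk, hk'⟩ := controls_fusion_mhoZ S he1 (A := {a}) (Set.singleton_subset_iff.2 ha) (g := g)
        (by rw [Set.image_singleton]; exact Set.singleton_subset_iff.2 hg)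
      exact ⟨k, hk, hk' a rfl⟩
    have := ih _ hlt K rfl hK' (isSylowIn_of_le S hSK).toSylow
    rw [← (isSylowIn_of_le S hSK).map_toSylow]
    exact isMulCommutative_map this _

/-- **Camina–Herzog**: if every 2-element is 2-central, Sylow 2-subgroups are abelian. -/
theorem sylow_comm_of_twoCentral {G : Type*} [Group G] [Finite G] (h : TwoCentral G)
    (S : Sylow 2 G) : IsMulCommutative (S : Subgroup G) :=
  sylow_comm_of_twoCentral_aux _ G rfl h S

end Cfsg.Agent.H51
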