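import Mathlib
import Cfsg.Agent.H51.FP3
import Cfsg.Agent.S0713
import Cfsg.Agent.S3620

/-! Actions in which an element of order `p` is a single cycle. -/

set_option autoImplicit false
set_option linter.unusedSectionVars false

namespace Cfsg.Agent.H51.FP

open Subgroup Equiv
open scoped Pointwise

universe u

variable {G : Type u} [Group G] [Finite G] {p : ℕ} [hp : Fact p.Prime]
variable {W : Type*} [MulAction G W] [Finite W]

/-- the permutation representation on an invariant set -/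
def act {K : Subgroup G} {S : Set W} (hS : Inv K S) : K →* Perm S where
  toFun k := ⟨fun a => ⟨k.1 • a.1, hS _ k.2 _ a.2⟩,
    fun a => ⟨k.1⁻¹ • a.1, hS _ (K.inv_mem k.2) _ a.2⟩,
    fun _ => Subtype.ext (inv_smul_smul _ _), fun _ => Subtype.ext (smul_inv_smul _ _)⟩
  map_one' := Equiv.ext fun _ => Subtype.ext (one_smul _ _)
  map_mul' _ _ := Equiv.ext fun _ => Subtype.ext (mul_smul _ _ _)

theorem act_apply {K : Subgroup G} {S : Set W} (hS : Inv K S) (k : K) (a : S) :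
    (act hS k a : W) = k.1 • a.1 := rfl

theorem act_eq_one {K : Subgroup G} {S : Set W} (hS : Inv K S) (k : K) :
    act hS k = 1 ↔ k.1 ∈ kr K S := by
  rw [mem_kr]
  exact ⟨fun h => ⟨k.2, fun w hw => congrArg Subtype.val (Equiv.congr_fun h ⟨w, hw⟩)⟩,
    fun h => Equiv.ext fun a => Subtype.ext (h.2 a.1 a.2)⟩

/-- `K` induces every even permutation of `S` -/
def AltOn (K : Subgroup G) (S : Set W) : Prop :=
  ∀ [Fintype S] [DecidableEq S] (σ : Perm S), Perm.sign σ = 1 → ∃ k ∈ K, ∀ a : S, k • (a : W) = σ a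

theorem sign_act (hp2 : p ≠ 2) {K : Subgroup G} (hK : PE p K = K) {S : Set W} (hS : Inv K S)
    [Fintype S] [DecidableEq S] (k : K) : Perm.sign (act hS k) = 1 := by
  have h : PE p K ≤ ((Perm.sign.comp (act hS)).ker).map K.subtype := by
    refine PE_le_of fun g hg j hj => ⟨⟨g, hg⟩, ?_, rfl⟩
    have h1 : (Perm.sign.comp (act hS)) ⟨g, hg⟩ ^ p ^ j = 1 := by
      rw [← map_pow, show (⟨g, hg⟩ : K) ^ p ^ j = 1 from Subtype.ext hj, map_one]
    have hodd : Odd (p ^ j) := (hp.out.odd_of_ne_two hp2).pow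
    rcases Int.units_eq_one_or ((Perm.sign.comp (act hS)) ⟨g, hg⟩) with h2 | h2
    · exact h2
    · rw [h2, hodd.neg_one_pow] at h1
      exact absurd h1 (by decide)
  obtain ⟨k', h1, h2⟩ := h (hK.ge k.2)
  rw [show k' = k from Subtype.ext h2] at h1
  exact h1

theorem single_orb {y : G} (hy : y ^ p = 1) {S : Set W} (hS : Inv (zpowers y) S)
    (hn : S.ncard ≤ (S ∩ Fx {y} W).ncard + p) {a b : W} (ha : a ∈ S) (hb : b ∈ S)
    (hya : y • a ≠ a) (hyb : y • b ≠ b) : b ∈ orb (zpowers y) a := by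
  have s0 : orb (zpowers y) a ⊆ S \ (S ∩ Fx {y} W) := fun u hu =>
    ⟨hS.orb_sub ha hu, fun h => orb_zp_moved hya hu (mem_Fx1.1 h.2)⟩
  have c4 := Set.ncard_diff_add_ncard_of_subset
    (Set.inter_subset_left (s := S) (t := Fx {y} W)) (Set.toFinite _)
  rw [Set.eq_of_subset_of_ncard_le s0 (by rw [card_orb_zp hy hya]; omega) (Set.toFinite _)]
  exact ⟨hb, fun h => hyb (mem_Fx1.1 h.2)⟩

theorem mem_of_zpow_mem {M : Type*} [Group M] {H : Subgroup M} {y : M} (hy : y ^ p = 1) {i : ℤ}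
    (hi : y ^ i ∈ H) (h1 : y ^ i ≠ 1) : y ∈ H := by
  have hnd : ¬ (p : ℤ) ∣ i := by
    rintro ⟨j, rfl⟩
    exact h1 (by rw [zpow_mul, zpow_natCast, hy, one_zpow])
  obtain ⟨a, b, hab⟩ := ((Nat.prime_iff_prime_int.1 hp.out).irreducible.coprime_iff_not_dvd.2 hnd)
  have : y = (y ^ (p : ℤ)) ^ a * (y ^ i) ^ b := by
    rw [← zpow_mul, ← zpow_mul, ← zpow_add, mul_comm (p : ℤ), mul_comm i, hab, zpow_one]
  rw [this, zpow_natCast, hy, one_zpow, one_mul]
  exact zpow_mem hi b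

theorem jordan (hp2 : p ≠ 2) (hG : ¬ p ^ 2 ∣ Nat.card G) {x : G} (hx : orderOf x = p)
    {L : Subgroup G} (hL : PE p L = L) (hxL : x ∈ L) {S : Set W} (hS : Inv L S)
    (hn : S.ncard = (S ∩ Fx {x} W).ncard + p) (hfix : ∀ w ∈ S, st L w ≠ L)
    (hJ : 3 ≤ (S ∩ Fx {x} W).ncard ∨ p = 3) : AltOn L S := by
  intro _ _ σ hσ
  have hp3 : 3 ≤ p := by have := hp.out.two_le; omega
  have hmov : ∀ w ∈ S, ∃ v ∈ orb L w, x • v ≠ v := fun w hw => by
    obtain ⟨v, h1, h2⟩ := exists_moved (syl hG hx) (zpowers_le.2 hxL) hL (hfix w hw)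
    rw [Fx_zp, mem_Fx1] at h2
    exact ⟨v, h1, h2⟩
  have hzx := hS.mono (zpowers_le.2 hxL)
  have htr : ∀ a ∈ S, ∀ b ∈ S, ∃ k ∈ L, k • a = b := fun a ha b hb => by
    obtain ⟨a', h1, h2⟩ := hmov a ha
    obtain ⟨b', h3, h4⟩ := hmov b hb
    have h5 := single_orb (xp hx) hzx hn.le (hS.orb_sub ha h1) (hS.orb_sub hb h3) h2 h4
    have h6 : b' ∈ orb L a := ((inv_orb L a).mono (zpowers_le.2 hxL)).orb_sub h1 h5
    have h7 : b ∈ orb L a := by
      rw [← orb_eq_of_mem h6, orb_eq_of_mem h3]; exact mem_orb_self L b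
    exact h7
  have hpre : MulAction.IsPretransitive (act hS).range S := ⟨fun a b => by
    obtain ⟨k, hk, h⟩ := htr a.1 a.2 b.1 b.2
    exact ⟨⟨act hS ⟨k, hk⟩, ⟨_, rfl⟩⟩, Subtype.ext h⟩⟩
  have hprim : MulAction.IsPreprimitive (act hS).range S := ⟨fun {B} hB => by
    rcases B.subsingleton_or_nontrivial with h | ⟨a, ha, b, hb, hab⟩
    · exact Or.inl h
    right
    have h1 : L ≤ ((MulAction.stabilizer (act hS).range B).comap (act hS).rangeRestrict).map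
        L.subtype := by
      refine hL.ge.trans (PE_le1 hG fun y hyL hy => ⟨⟨y, hyL⟩, ?_, rfl⟩)
      by_contra hne
      have hy1 : y ≠ 1 := by rintro rfl; exact hne (one_mem _)
      have hd := (hB.smul_eq_or_disjoint ((act hS).rangeRestrict ⟨y, hyL⟩)).resolve_left hne
      have hm : ∀ c ∈ B, y • c.1 ≠ c.1 := fun c hc h =>
        Set.disjoint_left.1 hd ⟨c, hc, Subtype.ext h⟩ hc
      have hnf := nf_conj hG hx hxL hyL (ord_of hy hy1) hS
      obtain ⟨_, ⟨i, rfl⟩, hi⟩ := single_orb hy (hS.mono (zpowers_le.2 hyL)) (by omega) a.2 b.2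
        (hm a ha) (hm b hb)
      have h2 : (⟨y, hyL⟩ : L) ^ i ∈
          (MulAction.stabilizer (act hS).range B).comap (act hS).rangeRestrict := by
        refine hB.smul_eq_of_mem ha ?_
        have : (act hS).rangeRestrict (⟨y, hyL⟩ ^ i) • a = b := Subtype.ext hi
        rw [this]; exact hb
      refine hne (mem_of_zpow_mem (p := p) (Subtype.ext hy) h2 fun h => hab (Subtype.ext ?_))
      have h3 : y ^ i = 1 := congrArg Subtype.val h
      rw [← hi]; simp [h3]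
    refine Set.eq_univ_of_forall fun c => ?_
    obtain ⟨k, hk, h⟩ := htr a.1 a.2 c.1 c.2
    obtain ⟨k', h2, h3⟩ := h1 hk
    have h4 : (act hS).rangeRestrict k' • B = B := h2
    rw [← h4]
    refine ⟨a, ha, Subtype.ext ?_⟩
    rw [← h, ← h3]; rfl⟩
  have hne : S.Nonempty := (Set.ncard_pos (Set.toFinite _)).1 (by omega)
  obtain ⟨w, hw⟩ := hne
  obtain ⟨v, hv1, hv2⟩ := hmov w hw
  have hvS := hS.orb_sub hw hv1
  have hcyc : (act hS ⟨x, hxL⟩).IsCycle := by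
    refine ⟨⟨v, hvS⟩, fun h => hv2 (congrArg Subtype.val h), fun b hb => ?_⟩
    obtain ⟨_, ⟨i, rfl⟩, hi⟩ := single_orb (xp hx) hzx hn.le hvS b.2 hv2
      fun h => hb (Subtype.ext h)
    exact ⟨i, by rw [← map_zpow]; exact Subtype.ext hi⟩
  have hsupp : (act hS ⟨x, hxL⟩).support.card = p := by
    rw [← hcyc.orderOf]
    refine orderOf_eq_prime ?_ hcyc.ne_one
    rw [← map_pow, show (⟨x, hxL⟩ : L) ^ p = 1 from Subtype.ext (xp hx), map_one]
  have hcard : Fintype.card S = S.ncard := by rw [← Nat.card_eq_fintype_card, Nat.card_coe_set_eq]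
  have halt : alternatingGroup S ≤ (act hS).range := by
    rcases hJ with h3 | h3
    · exact Cfsg.Agent.S0713.result _ hprim hp.out (by omega) (by omega) hcyc hsupp ⟨_, rfl⟩
    · exact Perm.alternatingGroup_le_of_isPreprimitive_of_isThreeCycle_mem hprim
        (card_support_eq_three_iff.1 (hsupp.trans h3)) ⟨_, rfl⟩
  obtain ⟨k, hk⟩ := halt (Perm.mem_alternatingGroup.2 hσ)
  exact ⟨k.1, k.2, fun a => by rw [← hk]; rfl⟩

theorem AltOn.emb {K : Subgroup G} {S : Set W} (h : AltOn K S) {k : ℕ} (hk : k + 2 ≤ S.ncard)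
    (u v : Fin k → W) (hu : Function.Injective u) (hv : Function.Injective v) (hu' : ∀ i, u i ∈ S)
    (hv' : ∀ i, v i ∈ S) : ∃ g ∈ K, ∀ i, g • u i = v i := by
  classical
  haveI := Fintype.ofFinite S
  have hc : Nat.card S = S.ncard := Nat.card_coe_set_eq S
  haveI := alternatingGroup.isMultiplyPretransitive S
  have h1 : MulAction.IsMultiplyPretransitive (alternatingGroup S) S k :=
    MulAction.isMultiplyPretransitive_of_le (n := Nat.card S - 2) (by omega) (by omega)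
  obtain ⟨σ, hσ⟩ := MulAction.isMultiplyPretransitive_iff.1 h1
    ⟨fun i => ⟨u i, hu' i⟩, fun _ _ h => hu (congrArg Subtype.val h)⟩
    ⟨fun i => ⟨v i, hv' i⟩, fun _ _ h => hv (congrArg Subtype.val h)⟩
  obtain ⟨g, hg, h2⟩ := h σ.1 (Perm.mem_alternatingGroup.1 σ.2)
  refine ⟨g, hg, fun i => ?_⟩
  have h3 := congrArg Subtype.val (DFunLike.congr_fun hσ i)
  exact (h2 ⟨u i, hu' i⟩).trans h3

theorem inj3 {a b c : W} (hab : a ≠ b) (hac : a ≠ c) (hbc : b ≠ c) :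
    Function.Injective ![a, b, c] := by
  intro i j h
  fin_cases i <;> fin_cases j <;> simp_all [eq_comm]

theorem AltOn.tri {K : Subgroup G} {S : Set W} (h : AltOn K S) (hk : 5 ≤ S.ncard) {a b c a' b' c' : W}
    (ha : a ∈ S) (hb : b ∈ S) (hc : c ∈ S) (ha' : a' ∈ S) (hb' : b' ∈ S) (hc' : c' ∈ S)
    (hab : a ≠ b) (hac : a ≠ c) (hbc : b ≠ c) (hab' : a' ≠ b') (hac' : a' ≠ c') (hbc' : b' ≠ c') :
    ∃ g ∈ K, g • a = a' ∧ g • b = b' ∧ g • c = c' := by
  obtain ⟨g, hg, h2⟩ := h.emb (k := 3) hk _ _ (inj3 hab hac hbc) (inj3 hab' hac' hbc')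
    (fun i => by fin_cases i <;> assumption) (fun i => by fin_cases i <;> assumption)
  exact ⟨g, hg, h2 0, h2 1, h2 2⟩

theorem AltOn.subs {K : Subgroup G} {S : Set W} (h : AltOn K S) {A B : Set W} (hA : A ⊆ S)
    (hB : B ⊆ S) (hAB : A.ncard = B.ncard) (hk : A.ncard + 2 ≤ S.ncard) : ∃ g ∈ K, g • A = B := by
  let eA := (Finite.equivFinOfCardEq (Nat.card_coe_set_eq A)).symm
  let eB := (Finite.equivFinOfCardEq ((Nat.card_coe_set_eq B).trans hAB.symm)).symm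
  obtain ⟨g, hg, h2⟩ := h.emb hk (fun i => (eA i).1) (fun i => (eB i).1)
    (fun _ _ h => eA.injective (Subtype.ext h)) (fun _ _ h => eB.injective (Subtype.ext h))
    (fun i => hA (eA i).2) (fun i => hB (eB i).2)
  refine ⟨g, hg, Set.Subset.antisymm ?_ fun b hb => ?_⟩
  · rintro _ ⟨a, ha, rfl⟩
    have := h2 (eA.symm ⟨a, ha⟩)
    simp only [Equiv.apply_symm_apply] at this
    change g • a ∈ B
    rw [this]; exact Subtype.prop _
  · refine ⟨_, (eA (eB.symm ⟨b, hb⟩)).2, ?_⟩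
    have := h2 (eB.symm ⟨b, hb⟩)
    simpa only [Equiv.apply_symm_apply] using this

theorem AltOn.cyc3 {K : Subgroup G} {S : Set W} (h : AltOn K S) {a b c : W} (ha : a ∈ S)
    (hb : b ∈ S) (hc : c ∈ S) (hab : a ≠ b) (hac : a ≠ c) (hbc : b ≠ c) :
    ∃ g ∈ K, g • a = b ∧ g • b = c ∧ g • c = a ∧ ∀ w ∈ S, w ≠ a → w ≠ b → w ≠ c → g • w = w := by
  classical
  haveI := Fintype.ofFinite S
  have h1 : (⟨a, ha⟩ : S) ≠ ⟨b, hb⟩ := fun h => hab (congrArg Subtype.val h)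
  have h2 : (⟨a, ha⟩ : S) ≠ ⟨c, hc⟩ := fun h => hac (congrArg Subtype.val h)
  have h3 : (⟨b, hb⟩ : S) ≠ ⟨c, hc⟩ := fun h => hbc (congrArg Subtype.val h)
  obtain ⟨g, hg, h4⟩ := h (swap ⟨a, ha⟩ ⟨b, hb⟩ * swap ⟨b, hb⟩ ⟨c, hc⟩) (by
    rw [Perm.sign_mul, Perm.sign_swap h1, Perm.sign_swap h3]; simp)
  refine ⟨g, hg, ?_, ?_, ?_, fun w hw w1 w2 w3 => ?_⟩
  · rw [h4 ⟨a, ha⟩, Perm.mul_apply, swap_apply_of_ne_of_ne h1 h2, swap_apply_left]
  · rw [h4 ⟨b, hb⟩, Perm.mul_apply, swap_apply_left, swap_apply_of_ne_of_ne h2.symm h3.symm]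
  · rw [h4 ⟨c, hc⟩, Perm.mul_apply, swap_apply_right, swap_apply_right]
  · have e1 : (⟨w, hw⟩ : S) ≠ ⟨a, ha⟩ := fun h => w1 (congrArg Subtype.val h)
    have e2 : (⟨w, hw⟩ : S) ≠ ⟨b, hb⟩ := fun h => w2 (congrArg Subtype.val h)
    have e3 : (⟨w, hw⟩ : S) ≠ ⟨c, hc⟩ := fun h => w3 (congrArg Subtype.val h)
    rw [h4 ⟨w, hw⟩, Perm.mul_apply, swap_apply_of_ne_of_ne e2 e3, swap_apply_of_ne_of_ne e1 e2]

theorem AltOn.five {K : Subgroup G} {S : Set W} (h : AltOn K S) (hS : Inv K S) (h5 : S.ncard = 5) :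
    ∃ z ∈ K, z ∉ kr K S ∧ z ^ 5 ∈ kr K S := by
  classical
  haveI := Fintype.ofFinite S
  have hc : Nat.card S = 5 := (Nat.card_coe_set_eq S).trans h5
  haveI : Nontrivial S := Finite.one_lt_card_iff_nontrivial.1 (by omega)
  haveI : Fact (Nat.Prime 5) := ⟨by norm_num⟩
  obtain ⟨σ, hσ⟩ := exists_prime_orderOf_dvd_card' (G := alternatingGroup S) 5 (by
    rw [nat_card_alternatingGroup, hc]; decide)
  obtain ⟨z, hz, h2⟩ := h σ.1 (Perm.mem_alternatingGroup.1 σ.2)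
  have h3 : act hS ⟨z, hz⟩ = σ.1 := Equiv.ext fun a => Subtype.ext (h2 a)
  refine ⟨z, hz, fun h4 => ?_, ?_⟩
  · have h6 := (act_eq_one hS ⟨z, hz⟩).2 h4
    rw [h3] at h6
    rw [show σ = 1 from Subtype.ext h6, orderOf_one] at hσ
    exact absurd hσ (by decide)
  · refine (act_eq_one hS (⟨z, hz⟩ ^ 5)).1 ?_
    rw [map_pow, h3, ← hσ]
    exact congrArg Subtype.val (pow_orderOf_eq_one σ)

theorem AltOn.cover (hp2 : p ≠ 2) {K L : Subgroup G} (hK : PE p K = K) {S : Set W} (hS : Inv K S)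
    (hLK : L ≤ K) (h : AltOn L S) {k : G} (hk : k ∈ K) : ∃ l ∈ L, l⁻¹ * k ∈ kr K S := by
  classical
  haveI := Fintype.ofFinite S
  obtain ⟨l, hl, h2⟩ := h _ (sign_act hp2 hK hS ⟨k, hk⟩)
  refine ⟨l, hl, mem_kr.2 ⟨K.mul_mem (K.inv_mem (hLK hl)) hk, fun w hw => ?_⟩⟩
  rw [mul_smul, inv_smul_eq_iff]
  exact (h2 ⟨w, hw⟩).symm

theorem AltOn.not_sq (hp2 : p ≠ 2) {K : Subgroup G} {S : Set W} (h : AltOn K S) (hS : Inv K S)
    (hn : 2 * p ≤ S.ncard) : p ^ 2 ∣ Nat.card G := by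
  classical
  haveI := Fintype.ofFinite S
  have hc : Nat.card S = S.ncard := Nat.card_coe_set_eq S
  have := hp.out.two_le
  haveI : Nontrivial S := Finite.one_lt_card_iff_nontrivial.1 (by omega)
  have h1 : alternatingGroup S ≤ (act hS).range := fun σ hσ => by
    obtain ⟨z, hz, h2⟩ := h σ (Perm.mem_alternatingGroup.1 hσ)
    exact ⟨⟨z, hz⟩, Equiv.ext fun a => Subtype.ext (h2 a)⟩
  have h2 : p ^ 2 ∣ 2 * Nat.card (alternatingGroup S) := by
    rw [two_mul_nat_card_alternatingGroup, Nat.card_perm, pow_two]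
    refine (mul_dvd_mul (Nat.dvd_factorial hp.out.pos le_rfl)
      (Nat.dvd_factorial hp.out.pos le_rfl)).trans
      ((Nat.factorial_mul_factorial_dvd_factorial_add p p).trans (Nat.factorial_dvd_factorial ?_))
    omega
  have h3 : p ^ 2 ∣ Nat.card (alternatingGroup S) :=
    (((Nat.coprime_primes hp.out Nat.prime_two).2 hp2).pow_left 2).dvd_of_dvd_mul_left h2
  exact h3.trans ((card_dvd_of_le h1).trans ((card_range_dvd _).trans (card_subgroup_dvd_card K)))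

/-- Marggraff's theorem in ambient form -/
theorem marggraff {K : Subgroup G} {v : W} (hv : st K v ⋖ K) {F : Set W} (hF : F ⊆ orb K v)
    (h1 : 1 < F.ncard) (h2 : 2 * F.ncard < (orb K v).ncard)
    (hJ : ∀ a ∈ F, ∀ b ∈ F, ∃ j ∈ kr K (orb K v \ F), j • a = b) : AltOn K (orb K v) := by
  intro _ _ σ hσ
  have hS := inv_orb K v
  have hc : (Subtype.val ⁻¹' F : Set (orb K v)).ncard = F.ncard := by
    rw [← Set.ncard_image_of_injective _ Subtype.val_injective, Set.image_preimage_eq_of_subset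
      (by rwa [Subtype.range_coe])]
  obtain ⟨g, hg⟩ := Cfsg.Agent.S3620.result (G := (act hS).range) (Ω := orb K v) (fun N hN hne => by
      rcases KT (O := (N.comap (act hS).rangeRestrict).map K.subtype) hv (map_subtype_le _) (by
        rintro k hk _ ⟨o, ho, rfl⟩
        exact ⟨⟨k, hk⟩ * o * ⟨k, hk⟩⁻¹, (hN.comap _).conj_mem o ho _, rfl⟩) with h | h
      · exfalso
        refine hne (eq_bot_iff.2 fun n hn => ?_)
        obtain ⟨k, rfl⟩ := (act hS).rangeRestrict_surjective n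
        exact Subtype.ext ((act_eq_one hS k).2 (h ⟨k, hn, rfl⟩))
      · refine ⟨fun a b => ?_⟩
        obtain ⟨_, ⟨o, ho, rfl⟩, h3⟩ := exists_smul_of_mem (h.ge a.2) (h.ge b.2)
        exact ⟨⟨_, ho⟩, Subtype.ext h3⟩)
    (Subtype.val ⁻¹' F) (by omega)
    (by rw [← Nat.card_eq_fintype_card, Nat.card_coe_set_eq]; omega) ⟨fun a b => by
      have ha : a.1.1 ∈ F := not_not.1 ((SubMulAction.mem_ofFixingSubgroup_iff _).1 a.2)
      have hb : b.1.1 ∈ F := not_not.1 ((SubMulAction.mem_ofFixingSubgroup_iff _).1 b.2)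
      obtain ⟨j, hj, h3⟩ := hJ _ ha _ hb
      refine ⟨⟨(act hS).rangeRestrict ⟨j, kr_le _ _ hj⟩, ?_⟩, Subtype.ext (Subtype.ext h3)⟩
      rw [mem_fixingSubgroup_iff]
      intro y hy
      exact Subtype.ext ((mem_kr.1 hj).2 y.1 ⟨y.2, hy⟩)⟩ σ hσ
  obtain ⟨k, hk⟩ := g.2
  refine ⟨k.1, k.2, fun a => ?_⟩
  rw [← hg]
  change _ = ((g.1 a : orb K v) : W)
  rw [← hk]; rfl

end Cfsg.Agent.H51.FP
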