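import Mathlib
import Cfsg.Agent.H51.FP4

/-! Comparing a primitive action with one in which `x` is a single cycle. -/

set_option autoImplicit false
set_option linter.unusedSectionVars false

namespace Cfsg.Agent.H51.FP

open Subgroup Equiv
open scoped Pointwise

universe u

variable {G : Type u} [Group G] [Finite G] {p : ℕ} [hp : Fact p.Prime]
variable {W : Type*} [MulAction G W] [Finite W] {V : Type*} [MulAction G V] [Finite V]

/-- standing hypotheses -/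
structure Ctx (p : ℕ) (x : G) (K : Subgroup G) : Prop where
  p2 : p ≠ 2
  hG : ¬ p ^ 2 ∣ Nat.card G
  hx : orderOf x = p
  hK : PE p K = K
  xK : x ∈ K

/-- number of fixed points of `x` in `S` -/
noncomputable abbrev nf (x : G) (S : Set W) : ℕ := (S ∩ Fx {x} W).ncard

/-- the functional `(p-1)|S| - (2p-1) fix` -/
noncomputable abbrev DD (p : ℕ) (x : G) (S : Set W) : ℤ := Phi (p - 1) (2 * p - 1) (Fx {x} W) S

variable {x : G} {K : Subgroup G}

theorem Ctx.p3 (c : Ctx p x K) : 3 ≤ p := by have := hp.out.two_le; have := c.p2; omega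

theorem Ctx.mov (c : Ctx p x K) {v : V} (hv : st K v ≠ K) : ∃ u ∈ orb K v, x • u ≠ u := by
  obtain ⟨u, h1, h2⟩ := exists_moved (syl c.hG c.hx) (zpowers_le.2 c.xK) c.hK hv
  rw [Fx_zp, mem_Fx1] at h2
  exact ⟨u, h1, h2⟩

theorem Ctx.cop (c : Ctx p x K) {v : V} (hv : st K v ≠ K) :
    (Nat.card (kr K (orb K v))).Coprime p := by
  obtain ⟨u, h1, h2⟩ := c.mov hv
  exact kr_cop c.hG c.hx c.xK (inv_orb K v) h1 h2

theorem Ctx.ndvd (c : Ctx p x K) {v a : V} (ha : a ∈ orb K v) (hF : x • a = a) :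
    ¬ p ∣ (orb K v).ncard :=
  not_dvd_orb (syl c.hG c.hx) (zpowers_le.2 c.xK) ha (by rw [Fx_zp]; exact mem_Fx1.2 hF)

theorem Ctx.pn (c : Ctx p x K) {N : Subgroup G} (hn : ∀ k ∈ K, ∀ o ∈ N, k * o * k⁻¹ ∈ N)
    (hcop : (Nat.card N).Coprime p) {v : V} (hv : st K v ≠ K) (h : orb N v = orb K v) :
    1 ≤ nf x (orb K v) ∧ (p + 1) * nf x (orb K v) ≤ (orb K v).ncard := by
  obtain ⟨u, h1, h2⟩ := c.mov hv
  have := PN (xp c.hx) (le_norm hn c.xK) hcop v (by rw [h]; exact inv_orb K v x c.xK) (h.ge h1) h2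
  rwa [h] at this

theorem Ctx.kerle (c : Ctx p x K) {w : W} (hw : st K w ⋖ K)
    (hn : (orb K w).ncard = nf x (orb K w) + p) (h2 : 2 ≤ nf x (orb K w)) {v : V}
    (hv : st K v ≠ K) : kr K (orb K v) ≤ kr K (orb K w) := by
  rcases KT hw (kr_le K (orb K v)) (kr_norm (inv_orb K v)) with h | h
  · exact h
  · have := (c.pn (kr_norm (inv_orb K v)) (c.cop hv) hw.ne h).2
    have := c.p3
    nlinarith

/-- elements acting on `S` like a power of `x` -/
def likeX (K : Subgroup G) {x : G} (hx : x ∈ K) {S : Set W} (hS : Inv K S) : Subgroup G where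
  carrier := {h | h ∈ K ∧ ∃ i : ℤ, ∀ w ∈ S, h • w = x ^ i • w}
  one_mem' := ⟨K.one_mem, 0, fun _ _ => by simp⟩
  mul_mem' := by
    rintro a b ⟨ha, i, hi⟩ ⟨hb, j, hj⟩
    refine ⟨K.mul_mem ha hb, i + j, fun w hw => ?_⟩
    rw [mul_smul, hj w hw, hi _ (hS _ (zpow_mem hx j) w hw), zpow_add, mul_smul]
  inv_mem' := by
    rintro a ⟨ha, i, hi⟩
    refine ⟨K.inv_mem ha, -i, fun w hw => ?_⟩
    rw [inv_smul_eq_iff, hi _ (hS _ (zpow_mem hx _) w hw), ← mul_smul, ← zpow_add]; simp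

theorem Ctx.T5 (c : Ctx p x K) (hp3 : p ≠ 3) {w : W} (hw : st K w ⋖ K)
    (hn : (orb K w).ncard = nf x (orb K w) + p) (h3 : 3 ≤ nf x (orb K w))
    (hA : AltOn K (orb K w)) {v : V} (hv : st K v ≠ K) (hf : nf x (orb K v) ≤ 2)
    (hnv : (orb K v).ncard ≤ nf x (orb K v) + 2 * p) : False := by
  obtain ⟨a, b, d, ha, hb, hd, hab, had, hbd⟩ := (Set.two_lt_ncard_iff (Set.toFinite _)).1 h3
  obtain ⟨g, hg, ga, gb, gd, go⟩ := hA.cyc3 ha.1 hb.1 hd.1 hab had hbd
  have xa := mem_Fx1.1 ha.2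
  have xb := mem_Fx1.1 hb.2
  have xd := mem_Fx1.1 hd.2
  have hS := inv_orb K w
  have hgx : ∀ u ∈ orb K w, g • x • u = x • g • u := fun u hu => by
    by_cases h1 : u = a
    · rw [h1, xa, ga, xb]
    by_cases h2 : u = b
    · rw [h2, xb, gb, xd]
    by_cases h4 : u = d
    · rw [h4, xd, gd, xa]
    rw [go u hu h1 h2 h4, go _ (hS _ c.xK u hu) (fun h => h1 (smul_left_cancel x (h.trans xa.symm)))
      (fun h => h2 (smul_left_cancel x (h.trans xb.symm)))
      (fun h => h4 (smul_left_cancel x (h.trans xd.symm)))]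
  have hxl : x ∈ likeX K c.xK hS := ⟨c.xK, 1, fun _ _ => by simp⟩
  have hgl : g * x * g⁻¹ ∈ likeX K c.xK hS :=
    ⟨K.mul_mem (K.mul_mem hg c.xK) (K.inv_mem hg), 1, fun u hu => by
      rw [mul_smul, mul_smul, hgx _ (hS _ (K.inv_mem hg) u hu), smul_inv_smul, zpow_one]⟩
  obtain ⟨h, ⟨hh, i, hi⟩, hN⟩ := witt (syl c.hG c.hx) (zpowers_le.2 hxl) (k := g) (by
    rintro _ ⟨_, ⟨j, rfl⟩, rfl⟩
    change MulAut.conj g (x ^ j) ∈ _
    rw [map_zpow]
    exact zpow_mem hgl j)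
  have hkK : h * g ∈ K := K.mul_mem hh hg
  have hkx : ∀ u ∈ orb K w, (h * g) • x • u = x • (h * g) • u := fun u hu => by
    rw [mul_smul, mul_smul, hgx u hu, hi _ (hS _ c.xK _ (hS _ hg u hu)), hi _ (hS _ hg u hu),
      ← mul_smul, ← mul_smul x, ((Commute.refl x).zpow_left i).eq]
  obtain ⟨e, he⟩ := (mem_normalizer_iff.1 hN x).1 (mem_zpowers x)
  obtain ⟨u, hu, hxu⟩ := c.mov hw.ne
  have hc : Commute (h * g) x := by
    have h1 : x ^ (e - 1) = 1 := by
      by_contra h1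
      refine hxu (mem_of_zpow_mem (H := MulAction.stabilizer G u) (xp c.hx) ?_ h1)
      have he' : x ^ e = h * g * x * (h * g)⁻¹ := he
      rw [MulAction.mem_stabilizer_iff, sub_eq_neg_add, zpow_add, mul_smul, he', mul_smul, mul_smul,
        hkx _ (hS _ (K.inv_mem hkK) u hu), smul_inv_smul]
      simp
    have he' : x ^ e = h * g * x * (h * g)⁻¹ := he
    rw [zpow_sub, zpow_one, mul_inv_eq_one, he', mul_inv_eq_iff_eq_mul] at h1
    exact h1
  have h4 : (h * g) ^ (2 * p) ∈ kr K (orb K v) := mem_kr.2 ⟨pow_mem hkK _, fun u hu =>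
    K2p (xp c.hx) hc (inv_orb K v _ hkK) ((inv_orb K v).mono (zpowers_le.2 c.xK)) hf hnv hu⟩
  have h5 := (mem_kr.1 (c.kerle hw hn (by omega) hv h4)).2 a ha.1
  have ka : (h * g) • a = b := by rw [mul_smul, ga, hi b hb.1, zpow_fix xb]
  have kb : (h * g) • b = d := by rw [mul_smul, gb, hi d hd.1, zpow_fix xd]
  have kd : (h * g) • d = a := by rw [mul_smul, gd, hi a ha.1, zpow_fix xa]
  have h6 : (h * g) ^ 3 • a = a := by
    rw [pow_succ, pow_two, mul_smul, mul_smul, ka, kb, kd]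
  have h7 := fix_of_coprime h6 h5 (Nat.Coprime.mul_right (by norm_num)
    ((Nat.coprime_primes Nat.prime_three hp.out).2 hp3.symm))
  exact hab (h7.symm.trans ka)

theorem mem_of_cop {M : Type*} [Group M] {H : Subgroup M} {y : M} {a b : ℕ} (h1 : y ^ a ∈ H)
    (h2 : y ^ b ∈ H) (hc : a.Coprime b) : y ∈ H := by
  have h3 : y ^ (Nat.gcd a b : ℤ) ∈ H := by
    rw [Nat.gcd_eq_gcd_ab, zpow_add, zpow_mul, zpow_mul, zpow_natCast, zpow_natCast]
    exact mul_mem (zpow_mem h1 _) (zpow_mem h2 _)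
  rw [hc] at h3
  simpa using h3

theorem Ctx.T3 (c : Ctx p x K) {w : W} (hw : st K w ⋖ K)
    (hn : (orb K w).ncard = nf x (orb K w) + p) (h2 : 2 ≤ nf x (orb K w))
    (h5 : (orb K w).ncard = 5) (hA : AltOn K (orb K w)) {v : V} (hv : st K v ≠ K)
    (h : (orb K v).ncard < 5 ∨ ((orb K v).ncard ≤ 8 ∧ (orb K v).ncard ≠ 6 ∧
      orb (kr K (orb K w)) v = orb K v)) : False := by
  obtain ⟨z, hz, hz1, hz5⟩ := hA.five (inv_orb K w) h5
  have hV := inv_orb K v
  haveI : Fact (Nat.Prime 5) := ⟨by norm_num⟩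
  let N : Subgroup (Perm (orb K v)) := ((kr K (orb K w)).subgroupOf K).map (act hV)
  have hzN : act hV ⟨z, hz⟩ ∉ N := by
    rintro ⟨o, ho, h1⟩
    have h3 : act hV (o⁻¹ * ⟨z, hz⟩) = 1 := by rw [map_mul, map_inv, h1, inv_mul_cancel]
    have h4 := c.kerle hw hn h2 hv ((act_eq_one hV _).1 h3)
    apply hz1
    simpa using mul_mem (mem_subgroupOf.1 ho) h4
  have hz5N : act hV ⟨z, hz⟩ ^ 5 ∈ N := ⟨⟨z, hz⟩ ^ 5, hz5, map_pow _ _ _⟩
  have hNn : ∀ k ∈ (act hV).range, ∀ o ∈ N, k * o * k⁻¹ ∈ N := by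
    rintro _ ⟨k, rfl⟩ _ ⟨o, ho, rfl⟩
    exact ⟨k * o * k⁻¹, kr_norm (inv_orb K w) _ k.2 _ ho, by simp⟩
  have hr : 5 ∣ orderOf (act hV ⟨z, hz⟩) := by
    by_contra h1
    exact hzN (mem_of_cop hz5N (by rw [pow_orderOf_eq_one]; exact N.one_mem)
      ((Nat.Prime.coprime_iff_not_dvd Fact.out).2 h1))
  have hcard : Nat.card (Perm (orb K v)) = (orb K v).ncard.factorial := by
    rw [Nat.card_perm, Nat.card_coe_set_eq]
  have hrd := orderOf_dvd_natCard (act hV ⟨z, hz⟩)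
  by_cases h4 : (orb K v).ncard < 5
  · have := (hr.trans hrd).trans (hcard ▸ Nat.factorial_dvd_factorial (show _ ≤ 4 by omega))
    revert this; decide
  obtain ⟨h8, h6, ho⟩ := h.resolve_left h4
  have h25 : ¬ 5 ^ 2 ∣ Nat.card (Perm (orb K v)) := fun h1 => by
    have := h1.trans (hcard ▸ Nat.factorial_dvd_factorial h8)
    revert this; decide
  obtain ⟨r, hr'⟩ := hr
  have hr0 : orderOf (act hV ⟨z, hz⟩) ≠ 0 := (orderOf_pos _).ne'
  have hy : orderOf (act hV ⟨z, hz⟩ ^ r) = 5 := by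
    have hr1 : r ≠ 0 := by rintro rfl; exact hr0 (by rw [hr'])
    rw [orderOf_pow' _ hr1, hr', Nat.gcd_mul_left_left,
      Nat.mul_div_cancel _ (Nat.pos_of_ne_zero hr1)]
  have hyN : act hV ⟨z, hz⟩ ^ r ∉ N := fun h1 => hzN (mem_of_cop hz5N h1
    ((Nat.Prime.coprime_iff_not_dvd Fact.out).2 fun h3 => h25
      ((by rw [hr', pow_two]; exact Nat.mul_dvd_mul_left 5 h3 : 5 ^ 2 ∣ _).trans hrd)))
  have hyR : act hV ⟨z, hz⟩ ^ r ∈ (act hV).range := pow_mem (MonoidHom.mem_range.2 ⟨_, rfl⟩) r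
  have hcop : (Nat.card N).Coprime 5 := by
    rw [Nat.coprime_comm, Nat.Prime.coprime_iff_not_dvd Fact.out]
    intro h1
    obtain ⟨u, hu⟩ := exists_prime_orderOf_dvd_card' 5 h1
    obtain ⟨e, he, h3⟩ := conjx h25 hy hyR (map_le_range _ _ u.2) (by simpa using hu)
    exact hyN ((zpowers_le.2 (hNn e he _ u.2)) (h3.ge (mem_zpowers _)))
  have huniv : orb N (⟨v, mem_orb_self K v⟩ : orb K v) = Set.univ :=
    Set.eq_univ_of_forall fun a => by
      obtain ⟨o, ho', h1⟩ := ho.ge a.2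
      exact ⟨act hV ⟨o, kr_le _ _ ho'⟩, ⟨_, ho', rfl⟩, Subtype.ext h1⟩
  have hmv : ∃ a : orb K v, (act hV ⟨z, hz⟩ ^ r) • a ≠ a := by
    by_contra h1
    push Not at h1
    exact hyN (by rw [show act hV ⟨z, hz⟩ ^ r = 1 from Equiv.ext h1]; exact N.one_mem)
  obtain ⟨a, ha⟩ := hmv
  have h9 := PN (xp hy) (le_norm hNn hyR) hcop (⟨v, mem_orb_self K v⟩ : orb K v)
    (by rw [huniv]; exact fun _ _ => trivial) (by rw [huniv]; trivial) ha
  obtain ⟨t, ht⟩ := cong1 (W := orb K v) (xp hy) (mem_top _) (S := Set.univ) fun _ _ _ _ => trivial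
  rw [huniv] at h9
  rw [Set.ncard_univ, Nat.card_coe_set_eq] at h9 ht
  have h10 : ∀ f : ℕ, 1 ≤ f ∧ (5 + 1) * f ≤ (orb K v).ncard → (orb K v).ncard = f + 5 * t →
      False := fun f h1 h2 => by omega
  exact h10 _ h9 ht

theorem choose_le1 (a b k : ℕ) : a.choose (k + 1) + b * a.choose k ≤ (a + b).choose (k + 1) := by
  induction b with
  | zero => simp
  | succ b ih =>
    rw [← add_assoc, Nat.choose_succ_succ']
    have := Nat.choose_le_choose k (Nat.le_add_right a b)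
    nlinarith

theorem choose_le2 (a b k : ℕ) :
    a.choose (k + 2) + b * a.choose (k + 1) + b.choose 2 * a.choose k ≤ (a + b).choose (k + 2) := by
  induction b with
  | zero => simp
  | succ b ih =>
    rw [← add_assoc, Nat.choose_succ_succ' (a + b), Nat.choose_succ_succ' b, Nat.choose_one_right]
    have := choose_le1 a b k
    nlinarith

theorem choose_num {p φ k n f : ℕ} (hp3 : 3 ≤ p) (hφ : φ < p) (hk : k + 2 ≤ φ)
    (hn : (φ + p).choose (k + 2) ≤ n) (hf : f ≤ φ.choose (k + 2)) :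
    (p : ℤ) * (2 * p - 3) < (p - 1) * n - (2 * p - 1) * f := by
  have h1 := choose_le2 φ p k
  have h2 : 1 ≤ φ.choose k := Nat.choose_pos (by omega)
  have h3 : p.choose 2 * 2 = p * (p - 1) := by
    have := Nat.choose_succ_right_eq p 1
    rwa [Nat.choose_one_right] at this
  have h4 := Nat.choose_succ_right_eq φ (k + 1)
  have h5 : 2 * φ.choose (k + 2) ≤ (p - 2) * φ.choose (k + 1) := by
    calc 2 * φ.choose (k + 2) ≤ φ.choose (k + 1 + 1) * (k + 1 + 1) := by nlinarith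
      _ ≤ _ := by rw [h4, mul_comm]; exact Nat.mul_le_mul_right _ (by omega)
  have h6 : 1 ≤ φ.choose (k + 1) := Nat.choose_pos (by omega)
  have h7 : p = 3 → 2 ≤ φ.choose (k + 1) := by
    rintro rfl
    obtain rfl : φ = 2 := by omega
    obtain rfl : k = 0 := by omega
    decide
  generalize φ.choose (k + 2) = c0 at *
  generalize φ.choose (k + 1) = c1 at *
  generalize φ.choose k = c2 at *
  generalize p.choose 2 = e at *
  generalize (φ + p).choose (k + 2) = m at *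
  obtain ⟨q, rfl⟩ := Nat.exists_eq_add_of_le' hp3
  rw [show q + 3 - 1 = q + 2 by omega] at h3
  rw [show q + 3 - 2 = q + 1 by omega] at h5
  have h8 : c0 + (q + 3) * c1 + e ≤ n := by nlinarith
  have h9 : (q + 3) * (2 * q + 3) + (2 * q + 5) * f < (q + 2) * n := by
    rcases Nat.eq_zero_or_pos q with rfl | hq
    · have := h7 rfl
      omega
    · have a1 : (q + 2) * (c0 + (q + 3) * c1 + e) ≤ (q + 2) * n := Nat.mul_le_mul_left _ h8
      have a2 : (2 * q + 5) * f ≤ (2 * q + 5) * c0 := Nat.mul_le_mul_left _ hf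
      have a3 : (q + 3) * (2 * c0) ≤ (q + 3) * ((q + 1) * c1) := Nat.mul_le_mul_left _ h5
      have a4 : (q + 3) * (q + 3) * 1 ≤ (q + 3) * (q + 3) * c1 := Nat.mul_le_mul_left _ h6
      have a5 : (q + 2) * (e * 2) = (q + 2) * ((q + 3) * (q + 2)) := by rw [h3]
      nlinarith
  zify at h9
  push_cast
  nlinarith

theorem Ctx.subsets (c : Ctx p x K) {w : W} (hn : (orb K w).ncard = nf x (orb K w) + p)
    (hφ : nf x (orb K w) < p) (hJ : 3 ≤ nf x (orb K w) ∨ p = 3) (hA : AltOn K (orb K w)) {v : V}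
    (hv : st K v ⋖ K) (hO : kr K (orb K w) ≤ kr K (orb K v)) (hf : 1 ≤ nf x (orb K v))
    (hD : DD p x (orb K v) ≤ p * (2 * p - 3)) : ∃ w' ∈ orb K w, st K v = st K w' := by
  obtain ⟨_, ⟨k, hk, rfl⟩, hkF⟩ := (Set.ncard_pos (Set.toFinite _)).1 hf
  have hyv : k⁻¹ * x * k ∈ st K v := (mem_st_smul hk).1 (mem_st.2 ⟨c.xK, mem_Fx1.1 hkF⟩)
  have hy : orderOf (k⁻¹ * x * k) = p := by
    have := ord_conj k⁻¹ x
    rwa [inv_inv, c.hx] at this
  set y := k⁻¹ * x * k with hydef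
  set L := PE p (st K v) with hL
  have hLK : L ≤ K := (PE_le _).trans (st_le _ _)
  have hyL : y ∈ L := mem_PE1 hyv (xp hy)
  have hS := inv_orb K w
  have hnf : nf y (orb K w) = nf x (orb K w) := nf_conj c.hG c.hx c.xK (hLK hyL) hy hS
  let A : Set W := {u | u ∈ orb K w ∧ ∀ l ∈ L, l • u = u}
  have hAs : A ⊆ orb K w := fun u hu => hu.1
  have hAφ : A.ncard ≤ nf x (orb K w) := hnf ▸
    Set.ncard_le_ncard (fun u hu => ⟨hu.1, mem_Fx1.2 (hu.2 y hyL)⟩) (Set.toFinite _)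
  have hp3 := c.p3
  have hne : A.Nonempty := by
    by_contra h0
    have hAl : AltOn L (orb K w) := jordan c.p2 c.hG hy (PE_PE _) hyL (hS.mono hLK)
      (by rw [hn, ← hnf]) (fun u hu h => h0 ⟨u, hu, fun l hl => (mem_st.1 (h.ge hl)).2⟩)
      (by rw [← hnf] at hJ; exact hJ)
    refine hv.1.not_ge fun g hg => ?_
    obtain ⟨l, hl, h1⟩ := hAl.cover c.p2 c.hK hS hLK hg
    have h2 : l⁻¹ * g ∈ st K v :=
      mem_st.2 ⟨kr_le _ _ h1, (mem_kr.1 (hO h1)).2 v (mem_orb_self K v)⟩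
    simpa using mul_mem (PE_le _ hl) h2
  have hinv : ∀ g ∈ st K v, ∀ u ∈ A, g • u ∈ A := fun g hg u hu =>
    ⟨hS g (st_le _ _ hg) u hu.1, fun l hl => by
      have := hu.2 _ (PE_normal (inv_mem hg) hl)
      rwa [inv_inv, mul_smul, mul_smul, inv_smul_eq_iff] at this⟩
  have h1 : st K v ≤ st K A := fun g hg => mem_st.2 ⟨st_le _ _ hg, Set.Subset.antisymm
    (by rintro _ ⟨u, hu, rfl⟩; exact hinv g hg u hu)
    fun u hu => ⟨g⁻¹ • u, hinv _ (inv_mem hg) u hu, smul_inv_smul _ _⟩⟩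
  have h2 : st K A = st K v := by
    rcases hv.eq_or_eq h1 (st_le _ _) with h | h
    · exact h
    · exfalso
      obtain ⟨u, hu⟩ := hne
      have h3 : orb K u ⊆ A := by
        rintro _ ⟨g, hg, rfl⟩
        rw [← (mem_st.1 (h.ge hg)).2]
        exact ⟨u, hu, rfl⟩
      rw [orb_eq_of_mem hu.1] at h3
      have := Set.ncard_le_ncard h3 (Set.toFinite _)
      omega
  have hpos := (Set.ncard_pos (Set.toFinite _)).2 hne
  by_cases h3 : A.ncard = 1
  · obtain ⟨w', hw'⟩ := Set.ncard_eq_one.1 h3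
    refine ⟨w', hAs (hw'.ge rfl), ?_⟩
    rw [← h2, hw']
    ext g
    rw [mem_st, mem_st, Set.smul_set_singleton, Set.singleton_eq_singleton_iff]
  exfalso
  obtain ⟨j, hj⟩ : ∃ j, A.ncard = j + 2 := ⟨A.ncard - 2, by omega⟩
  obtain ⟨e1, e2⟩ := same_counts h2 {x} (Set.singleton_subset_iff.2 c.xK)
  have a1 : {t | t ⊆ orb K w ∧ t.ncard = j + 2} ⊆ orb K A := fun t ht =>
    hA.subs hAs ht.1 (hj.trans ht.2.symm) (by omega)
  have a2 : orb K A ∩ Fx {x} (Set W) ⊆ {t | t ⊆ orb K w ∩ Fx {x} W ∧ t.ncard = j + 2} := by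
    rintro _ ⟨⟨g, hg, rfl⟩, hB⟩
    have hc : (g • A).ncard = j + 2 := by rw [Set.ncard_smul_set, hj]
    refine ⟨fun u hu => ⟨?_, mem_Fx1.2 ?_⟩, hc⟩
    · obtain ⟨u', hu', rfl⟩ := hu
      exact hS g hg u' hu'.1
    · by_contra h4
      have h5 : orb (zpowers x) u ⊆ g • A := by
        rintro _ ⟨_, ⟨i, rfl⟩, rfl⟩
        rw [← zpow_fix (mem_Fx1.1 hB) i]
        exact ⟨u, hu, rfl⟩
      have := Set.ncard_le_ncard h5 (Set.toFinite _)
      rw [card_orb_zp (xp c.hx) h4] at this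
      omega
  have b1 := Set.ncard_le_ncard a1 (Set.toFinite _)
  have b2 := Set.ncard_le_ncard a2 (Set.toFinite _)
  rw [Set.ncard_powerset_ncard (Set.toFinite _)] at b1 b2
  rw [e1, hn] at b1
  rw [e2] at b2
  have := choose_num hp3 hφ (by omega) b1 b2
  unfold DD Phi at hD
  omega

theorem Ctx.lemA (c : Ctx p x K) {w : W} (hw : st K w ⋖ K)
    (hn : (orb K w).ncard = nf x (orb K w) + p) (hφ : nf x (orb K w) < p)
    (hJ : 3 ≤ nf x (orb K w) ∨ (p = 3 ∧ nf x (orb K w) = 2)) (hA : AltOn K (orb K w)) {v : V}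
    (hv : st K v ⋖ K) (hD : DD p x (orb K v) ≤ p * (2 * p - 3)) :
    ∃ w' ∈ orb K w, st K v = st K w' := by
  have hp3 := c.p3
  obtain ⟨t, ht⟩ := cong1 (xp c.hx) c.xK (inv_orb K v)
  have hd : ((p : ℤ) - 1) * t - nf x (orb K v) ≤ 2 * p - 3 := by
    unfold DD Phi at hD
    rw [ht] at hD
    refine le_of_mul_le_mul_left ?_ (show (0 : ℤ) < p by omega)
    push_cast at hD
    unfold nf
    linarith
  rcases KT hv (kr_le K (orb K w)) (kr_norm (inv_orb K w)) with h | h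
  · rcases Nat.eq_zero_or_pos (nf x (orb K v)) with h0 | h0
    · exfalso
      have ht1 : t ≤ 1 := by
        by_contra h1
        have : (2 : ℤ) ≤ t := by omega
        have : (3 : ℤ) ≤ p := by omega
        rw [h0] at hd
        push_cast at hd
        nlinarith
      have ht2 : p * t ≤ p := by nlinarith
      rcases hJ with h3 | ⟨h3, h4⟩
      · exact c.T5 (by omega) hw hn h3 hA hv.ne (by omega) (by unfold nf; omega)
      · exact c.T3 hw hn (by omega) (by omega) hA hv.ne (Or.inl (by unfold nf at h0; omega))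
    · exact c.subsets hn hφ (hJ.imp id And.left) hA hv h h0 hD
  · exfalso
    obtain ⟨h1, h2⟩ := c.pn (kr_norm (inv_orb K w)) (c.cop hw.ne) hv.ne h
    have h3 : nf x (orb K v) ≤ t := by
      refine Nat.le_of_mul_le_mul_left ?_ hp.out.pos
      unfold nf at h2 ⊢
      nlinarith
    rcases hJ with h4 | ⟨h4, h5⟩
    · have ht2 : t ≤ 2 := by
        by_contra h5
        have a1 : (3 : ℤ) ≤ t := by omega
        have a2 : (4 : ℤ) ≤ p := by omega
        have a3 : (nf x (orb K v) : ℤ) ≤ t := by omega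
        have a4 : p ≠ 4 := by rintro rfl; exact absurd hp.out (by norm_num)
        have a5 : (5 : ℤ) ≤ p := by omega
        nlinarith
      have : p * t ≤ p * 2 := Nat.mul_le_mul_left p ht2
      exact c.T5 (by omega) hw hn h4 hA hv.ne (by omega) (by unfold nf; omega)
    · obtain ⟨a, ha1, ha2⟩ := (Set.ncard_pos (Set.toFinite _)).1 h1
      have h6 := c.ndvd ha1 (mem_Fx1.1 ha2)
      subst h4
      unfold nf at *
      exact c.T3 hw hn (by unfold nf; omega) (by omega) hA hv.ne (Or.inr ⟨by omega, by omega, h⟩)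

theorem Ctx.C2 (c : Ctx p x K) {w : W} (hw : st K w ≠ K)
    (hn : (orb K w).ncard = nf x (orb K w) + p) (h2 : nf x (orb K w) ≤ 2) {g : G} (hg : g ∈ K)
    (hc : Commute g x) : ∃ i : ℤ, (x ^ i)⁻¹ * g ∈ kr K (orb K w) := by
  classical
  obtain ⟨u, hu, hxu⟩ := c.mov hw
  have hS := inv_orb K w
  have hz := hS.mono (zpowers_le.2 c.xK)
  obtain ⟨_, ⟨i, rfl⟩, hi⟩ := single_orb (xp c.hx) hz hn.le hu (hS g hg u hu) hxu (moved_smul hc hxu)
  refine ⟨i, ?_⟩
  have hhK : (x ^ i)⁻¹ * g ∈ K := K.mul_mem (K.inv_mem (zpow_mem c.xK i)) hg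
  have hch : Commute ((x ^ i)⁻¹ * g) x := ((Commute.refl x).zpow_left i).inv_left.mul_left hc
  have hhu : ((x ^ i)⁻¹ * g) • u = u := by rw [mul_smul, inv_smul_eq_iff]; exact hi.symm
  generalize (x ^ i)⁻¹ * g = h at *
  have hm : ∀ v ∈ orb K w, x • v ≠ v → h • v = v := fun v hv hxv => by
    obtain ⟨_, ⟨j, rfl⟩, rfl⟩ := single_orb (xp c.hx) hz hn.le hu hv hxu hxv
    rw [← mul_smul, (hch.zpow_right j).eq, mul_smul, hhu]
  refine mem_kr.2 ⟨hhK, fun a ha => ?_⟩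
  by_contra hne
  have hxa : x • a = a := by by_contra h1; exact hne (hm a ha h1)
  have hF : ∀ v ∈ orb K w ∩ Fx {x} W, h • v ∈ orb K w ∩ Fx {x} W := fun v hv =>
    ⟨hS h hhK v hv.1, mem_Fx1.2 (by rw [← mul_smul, ← hch.eq, mul_smul, mem_Fx1.1 hv.2])⟩
  have ha0 : a ∈ orb K w ∩ Fx {x} W := ⟨ha, mem_Fx1.2 hxa⟩
  have h3 : ∀ v ∈ orb K w ∩ Fx {x} W, v = a ∨ v = h • a := fun v hv => by
    by_contra h4
    push Not at h4
    have := three_le ha0 (hF a ha0) hv (Ne.symm hne) h4.1.symm h4.2.symm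
    unfold nf at h2
    omega
  have h4 : h • h • a = a := (h3 _ (hF _ (hF a ha0))).resolve_right
    fun h5 => hne (smul_left_cancel h h5)
  haveI := Fintype.ofFinite (orb K w)
  have h5 : (⟨a, ha⟩ : orb K w) ≠ ⟨h • a, hS h hhK a ha⟩ := fun h6 =>
    hne (congrArg Subtype.val h6).symm
  have h6 : act hS ⟨h, hhK⟩ = swap ⟨a, ha⟩ ⟨h • a, hS h hhK a ha⟩ := by
    refine Equiv.ext fun v => ?_
    by_cases e1 : v = ⟨a, ha⟩
    · rw [e1, swap_apply_left]; rfl
    by_cases e2 : v = ⟨h • a, hS h hhK a ha⟩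
    · rw [e2, swap_apply_right]; exact Subtype.ext h4
    rw [swap_apply_of_ne_of_ne e1 e2]
    refine Subtype.ext (hm v.1 v.2 fun h7 => ?_)
    rcases h3 v.1 ⟨v.2, mem_Fx1.2 h7⟩ with h8 | h8
    · exact e1 (Subtype.ext h8)
    · exact e2 (Subtype.ext h8)
  have h7 := sign_act c.p2 c.hK hS ⟨h, hhK⟩
  rw [h6, Perm.sign_swap h5] at h7
  exact absurd h7 (by decide)

theorem Ctx.fV (c : Ctx p x K) {w : W} (hw : st K w ≠ K)
    (hn : (orb K w).ncard = nf x (orb K w) + p) (h2 : nf x (orb K w) ≤ 2) {v : V}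
    (hO : kr K (orb K w) ≤ kr K (orb K v)) : nf x (orb K v) + 1 ≤ p := by
  rcases (orb K v ∩ Fx {x} V).eq_empty_or_nonempty with h0 | ⟨a, ha⟩
  · unfold nf; rw [h0, Set.ncard_empty]; exact hp.out.pos
  have hex : ∀ b : (orb K v ∩ Fx {x} V : Set V), ∃ g ∈ K, g ∈ normalizer (zpowers x : Set G) ∧
      g • a = b := fun b => witt1 (syl c.hG c.hx) (zpowers_le.2 c.xK) (by rw [Fx_zp]; exact ha.2)
        (by rw [Fx_zp]; exact b.2.2) (by rw [orb_eq_of_mem ha.1]; exact b.2.1)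
  choose g g1 g2 g3 using hex
  have hx1 : x ≠ 1 := fun h => hp.out.one_lt.ne (by rw [← c.hx, h, orderOf_one])
  have h3 : Nat.card (orb K v ∩ Fx {x} V : Set V) ≤
      Nat.card ((zpowers x : Set G) \ {1} : Set G) := by
    refine Nat.card_le_card_of_injective (fun b => ⟨g b * x * (g b)⁻¹,
      (mem_normalizer_iff.1 (g2 b) x).1 (mem_zpowers x), fun h => hx1 (by simpa using h)⟩) ?_
    intro b b' h
    have h4 : g b * x * (g b)⁻¹ = g b' * x * (g b')⁻¹ := congrArg Subtype.val h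
    have hc : Commute ((g b')⁻¹ * g b) x := by
      have : (g b')⁻¹ * (g b * x * (g b)⁻¹) * g b = (g b')⁻¹ * (g b' * x * (g b')⁻¹) * g b := by
        rw [h4]
      simpa [mul_assoc, Commute, SemiconjBy] using this
    obtain ⟨i, hi⟩ := c.C2 hw hn h2 (K.mul_mem (K.inv_mem (g1 b')) (g1 b)) hc
    have h5 := (mem_kr.1 (hO hi)).2 a ha.1
    rw [mul_smul, inv_smul_eq_iff, zpow_fix (mem_Fx1.1 ha.2), mul_smul, inv_smul_eq_iff, g3,
      g3] at h5
    exact Subtype.ext h5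
  rw [Nat.card_coe_set_eq, Nat.card_coe_set_eq] at h3
  have h4 := Set.ncard_diff_singleton_add_one (s := (zpowers x : Set G)) (one_mem _) (Set.toFinite _)
  have h5 : (zpowers x : Set G).ncard = p := by
    rw [← Nat.card_coe_set_eq]; exact (Nat.card_zpowers x).trans c.hx
  unfold nf
  omega

end Cfsg.Agent.H51.FP
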