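import Mathlib
import Cfsg.Agent.H51.FP5

/-! The point stabilizer in a primitive action with many fixed points. -/

set_option autoImplicit false
set_option linter.unusedSectionVars false

namespace Cfsg.Agent.H51.FP

open Subgroup
open scoped Pointwise

universe u

variable {G : Type u} [Group G] [Finite G] {p : ℕ} [hp : Fact p.Prime]
variable {W : Type*} [MulAction G W] [Finite W] {V : Type*} [MulAction G V] [Finite V]
variable {x : G} {K Z : Subgroup G}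

/-- the inductive statement -/
def SS (p : ℕ) (x : G) (m : ℕ) : Prop :=
  ∀ K M : Subgroup G, Ctx p x K → M ⋖ K → (orb K ((1 : G) : G ⧸ M)).ncard ≤ m →
    DD p x (orb K ((1 : G) : G ⧸ M)) ≤ p * (p - 2) → nf x (orb K ((1 : G) : G ⧸ M)) < p

theorem DD_eq {S : Set W} {t : ℕ} (h : S.ncard = nf x S + p * t) :
    DD p x S = p * ((p - 1) * t - nf x S) := by
  unfold DD Phi
  rw [h]; push_cast; ring

theorem Ctx.tpos (c : Ctx p x K) {S : Set W} {v : W} (hv : st K v ≠ K) (hS : orb K v ⊆ S) {t : ℕ}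
    (h : S.ncard = nf x S + p * t) : 1 ≤ t := by
  obtain ⟨u, hu, hxu⟩ := c.mov hv
  by_contra h0
  obtain rfl : t = 0 := by omega
  have := Set.eq_of_subset_of_ncard_le (Set.inter_subset_left (s := S) (t := Fx {x} W))
    h.le (Set.toFinite _)
  have h2 := hS hu
  rw [← this] at h2
  exact hxu (mem_Fx1.1 h2.2)

theorem SS.small {m : ℕ} (hS : SS p x m) (c : Ctx p x K) {M : Subgroup G} (hM : M ⋖ K)
    (hm : (orb K ((1 : G) : G ⧸ M)).ncard ≤ m)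
    (hD : DD p x (orb K ((1 : G) : G ⧸ M)) ≤ p * (p - 2)) :
    (orb K ((1 : G) : G ⧸ M)).ncard = nf x (orb K ((1 : G) : G ⧸ M)) + p ∧
      nf x (orb K ((1 : G) : G ⧸ M)) < p := by
  have h1 := hS K M c hM hm hD
  obtain ⟨t, ht⟩ := cong1 (xp c.hx) c.xK (inv_orb K ((1 : G) : G ⧸ M))
  have h2 := c.tpos (by rw [st_quot hM.le]; exact hM.ne) subset_rfl ht
  have hp3 := c.p3
  rw [DD_eq ht] at hD
  have h3 := le_of_mul_le_mul_left hD (by omega)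
  have h4 : t = 1 := by
    by_contra h4
    have : (2 : ℤ) ≤ t := by omega
    have : (3 : ℤ) ≤ p := by omega
    have : (nf x (orb K ((1 : G) : G ⧸ M)) : ℤ) + 1 ≤ p := by omega
    nlinarith
  exact ⟨by rw [ht, h4, mul_one], h1⟩

theorem fibD {b : W} {w : V} (h : st K b ≤ st K w) {y : G} (hy : y ^ p = 1) (hyK : y ∈ K) :
    ∃ β g : ℕ, 1 ≤ β ∧ (orb K b).ncard = β * (orb K w).ncard ∧
      nf y (orb K b) ≤ β * nf y (orb K w) ∧
      DD p y (orb K b) = β * DD p y (orb K w) + (2 * p - 1) * p * g ∧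
      (β = 1 → st K b = st K w) ∧ (g = 0 → y • w = w → y • b = b) := by
  obtain ⟨β, g, h1, h2, h3, h4, h5⟩ := fib1 h hy hyK
  refine ⟨β, g, h1, h2, by unfold nf; omega, ?_, h4, h5⟩
  unfold DD Phi
  have h6 : ((orb K b ∩ Fx {y} W).ncard : ℤ) = β * (orb K w ∩ Fx {y} V).ncard - p * g := by
    zify at h3; linarith
  rw [h2, h6]; push_cast; ring

/-- points whose orbit has a primitive quotient in which `x` is a cycle -/
def Small (p : ℕ) (x : G) (K : Subgroup G) (b : W) : Prop :=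
  ∃ M : Subgroup G, st K b ≤ M ∧ M ⋖ K ∧ DD p x (orb K ((1 : G) : G ⧸ M)) ≤ p * (p - 2)

theorem Ctx.big (c : Ctx p x K) {b : W} (hb : st K b ≠ K) (h : ¬ Small p x K b) :
    p * (p - 1) ≤ DD p x (orb K b) ∧ (DD p x (orb K b) ≤ p * (2 * p - 3) → st K b ⋖ K) := by
  obtain ⟨M, hM1, hM2⟩ := exists_covBy (st_le K b) hb
  have hq := st_quot hM2.le
  obtain ⟨β, g, h1, -, -, h4, h5, -⟩ :=
    fibD (b := b) (w := ((1 : G) : G ⧸ M)) (hq.symm ▸ hM1) (xp c.hx) c.xK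
  have h6 : p * ((p : ℤ) - 2) < DD p x (orb K ((1 : G) : G ⧸ M)) :=
    not_le.1 fun h7 => h ⟨M, hM1, hM2, h7⟩
  obtain ⟨t, ht⟩ := cong1 (xp c.hx) c.xK (inv_orb K ((1 : G) : G ⧸ M))
  have hp3 : (3 : ℤ) ≤ p := by have := c.p3; omega
  rw [DD_eq ht] at h6 h4
  have h7 := lt_of_mul_lt_mul_left h6 (by omega)
  generalize ((p : ℤ) - 1) * t - nf x (orb K ((1 : G) : G ⧸ M)) = d at *
  have h8 : 0 ≤ (2 * (p : ℤ) - 1) * p * g :=
    mul_nonneg (mul_nonneg (by omega) (by omega)) (by omega)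
  have h9 : (p : ℤ) * (p - 1) ≤ p * d := mul_le_mul_of_nonneg_left (by omega) (by omega)
  have h10 : (0 : ℤ) < p * (p - 1) := by nlinarith
  have hβ : (1 : ℤ) ≤ β := by omega
  refine ⟨by nlinarith, fun h11 => ?_⟩
  have : β = 1 := by
    by_contra h12
    have : (2 : ℤ) ≤ β := by omega
    nlinarith
  rw [h5 this, hq]; exact hM2

theorem SS.nn {m : ℕ} (hS : SS p x m) (c : Ctx p x K) {b : W} (hb : st K b ≠ K)
    (hm : (orb K b).ncard ≤ m) : 0 ≤ DD p x (orb K b) := by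
  have hp3 : (3 : ℤ) ≤ p := by have := c.p3; omega
  by_cases h : Small p x K b
  · obtain ⟨M, hM1, hM2, hD⟩ := h
    obtain ⟨β, g, h1, h2, -, h4, -, -⟩ :=
      fibD (b := b) (w := ((1 : G) : G ⧸ M)) ((st_quot hM2.le).symm ▸ hM1) (xp c.hx) c.xK
    obtain ⟨h5, h6⟩ := hS.small c hM2 (by nlinarith) hD
    rw [h4, DD_eq (t := 1) (by rw [mul_one]; exact h5)]
    have : (0 : ℤ) ≤ (p - 1) * (1 : ℕ) - nf x (orb K ((1 : G) : G ⧸ M)) := by omega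
    have h8 : 0 ≤ (2 * (p : ℤ) - 1) := by omega
    positivity
  · have := (c.big hb h).1
    nlinarith

theorem smul_fix_iff {k y : G} {b : W} : y • k • b = k • b ↔ (k⁻¹ * y * k) • b = b := by
  rw [mul_smul, mul_smul, inv_smul_eq_iff]

theorem conj_p {y : G} (hy : y ^ p = 1) (k : G) : (k⁻¹ * y * k) ^ p = 1 := by
  have : k⁻¹ * y * k = k⁻¹ * y * k⁻¹⁻¹ := by simp
  rw [this, conj_pow, hy]; simp

/-- closure relation -/
def Cl (p : ℕ) (Z : Subgroup G) (a b d : W) : Prop :=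
  ∀ y ∈ Z, y ^ p = 1 → y • a = a → y • b = b → y • d = d

theorem Cl.smul {a b d : W} (h : Cl p Z a b d) {g : G} (hg : g ∈ Z) :
    Cl p Z (g • a) (g • b) (g • d) := fun y hy hyp h1 h2 =>
  smul_fix_iff.2 (h _ (Z.mul_mem (Z.mul_mem (Z.inv_mem hg) hy) hg) (conj_p hyp g)
    (smul_fix_iff.1 h1) (smul_fix_iff.1 h2))

theorem lin {a : W} {Θ : Set V} (hxK : x ∈ PE p (st Z a)) (hx : x ^ p = 1)
    (hρ : ∀ b ∈ orb Z a \ {a}, ∃ w ∈ Θ, ∀ y ∈ PE p (st Z a), y ^ p = 1 → (y • b = b ↔ y • w = w))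
    (hsep : ∀ w1 ∈ Θ, ∀ w2 ∈ Θ, ∀ w3 ∈ Θ, w3 ≠ w1 → w3 ≠ w2 →
      ∃ y ∈ PE p (st Z a), y ^ p = 1 ∧ y • w1 = w1 ∧ y • w2 = w2 ∧ y • w3 ≠ w3)
    (htr : ∀ w ∈ Θ, ∀ w' ∈ Θ, ∃ k ∈ PE p (st Z a), k • w = w') (h2 : 1 < Θ.ncard)
    (hbig : nf x Θ < nf x (orb Z a \ {a})) : False := by
  set K := PE p (st Z a) with hK
  have hKZ : ∀ y ∈ K, y ∈ Z ∧ y • a = a := fun y hy => mem_st.1 (PE_le _ hy)
  have hZK : ∀ y ∈ Z, y ^ p = 1 → y • a = a → y ∈ K := fun y hy h1 h2 =>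
    mem_PE1 (mem_st.2 ⟨hy, h2⟩) h1
  have hinv : Inv K (orb Z a \ {a}) := inv_punct a
  let R : W → V → Prop := fun b w => ∀ y ∈ K, y ^ p = 1 → (y • b = b ↔ y • w = w)
  have Rs : ∀ b w, R b w → ∀ k ∈ K, R (k • b) (k • w) := fun b w h k hk y hy hyp => by
    rw [smul_fix_iff, smul_fix_iff]
    exact h _ (K.mul_mem (K.mul_mem (K.inv_mem hk) hy) hk) (conj_p hyp k)
  have RCl : ∀ b b' w, R b w → R b' w → Cl p Z a b b' := fun b b' w h h' y hy hyp h1 h2 =>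
    (h' y (hZK y hy hyp h1) hyp).2 ((h y (hZK y hy hyp h1) hyp).1 h2)
  have ClR : ∀ b b' w w', w ∈ Θ → w' ∈ Θ → R b w → R b' w' → Cl p Z a b b' → w' = w :=
    fun b b' w w' hw hw' h h' hc => by
      by_contra hne
      obtain ⟨y, hy, hyp, h1, -, h3⟩ := hsep w hw w hw w' hw' hne hne
      exact h3 ((h' y hy hyp).1 (hc y (hKZ y hy).1 hyp (hKZ y hy).2 ((h y hy hyp).2 h1)))
  have EXa : ∀ b ∈ orb Z a \ {a}, ∀ b' ∈ orb Z a \ {a}, Cl p Z a b b' → Cl p Z a b' b :=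
    fun b hb b' hb' hc => by
      obtain ⟨w, hw, h⟩ := hρ b hb
      obtain ⟨w', hw', h'⟩ := hρ b' hb'
      obtain rfl := ClR b b' w w' hw hw' h h' hc
      exact RCl _ _ _ h' h
  have TPa : ∀ b ∈ orb Z a \ {a}, ∃ b' ∈ orb Z a \ {a}, b' ≠ b ∧ Cl p Z a b b' := by
    intro b0 hb0
    by_contra hno
    push Not at hno
    obtain ⟨w0, hw0, h0⟩ := hρ b0 hb0
    haveI : Nonempty V := ⟨w0⟩
    choose! r hr1 hr2 using hρ
    have := Set.ncard_le_ncard_of_injOn (s := (orb Z a \ {a}) ∩ Fx {x} W) (t := Θ ∩ Fx {x} V) r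
      (fun b hb => ⟨hr1 b hb.1, mem_Fx1.2 ((hr2 b hb.1 x hxK hx).1 (mem_Fx1.1 hb.2))⟩)
      (fun b1 hb1 b2 hb2 h => by
        obtain ⟨k, hk, hkw⟩ := htr _ (hr1 b1 hb1.1) w0 hw0
        have e : ∀ b ∈ orb Z a \ {a}, r b = r b1 → k • b = b0 := fun b hb hrb => by
          by_contra hne
          have h3 := Rs _ _ (hr2 b hb) k hk
          rw [hrb, hkw] at h3
          exact hno _ (hinv k hk b hb) hne (RCl _ _ _ h0 h3)
        exact smul_left_cancel k ((e b1 hb1.1 rfl).trans (e b2 hb2.1 h.symm).symm))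
      (Set.toFinite _)
    unfold nf at hbig
    omega
  have back : ∀ g ∈ Z, ∀ b ∈ orb Z a, b ≠ g • a → g⁻¹ • b ∈ orb Z a \ {a} := fun g hg b hb hne =>
    ⟨inv_orb Z a _ (Z.inv_mem hg) b hb, fun h => hne (inv_smul_eq_iff.1 h)⟩
  have EX : ∀ v ∈ orb Z a, ∀ b ∈ orb Z a, ∀ b' ∈ orb Z a, b ≠ v → b' ≠ v → Cl p Z v b b' →
      Cl p Z v b' b := by
    rintro _ ⟨g, hg, rfl⟩ b hb b' hb' h1 h2 hc
    have h3 := hc.smul (Z.inv_mem hg)
    rw [inv_smul_smul] at h3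
    have := (EXa _ (back g hg b hb h1) _ (back g hg b' hb' h2) h3).smul hg
    rwa [smul_inv_smul, smul_inv_smul] at this
  have TP : ∀ v ∈ orb Z a, ∀ b ∈ orb Z a, b ≠ v →
      ∃ b' ∈ orb Z a, b' ≠ v ∧ b' ≠ b ∧ Cl p Z v b b' := by
    rintro _ ⟨g, hg, rfl⟩ b hb h1
    obtain ⟨b', h2, h3, h4⟩ := TPa _ (back g hg b hb h1)
    refine ⟨g • b', inv_orb Z a g hg _ h2.1, fun h => h2.2 (smul_left_cancel g h),
      fun h => h3 (eq_inv_smul_iff.2 h), ?_⟩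
    have := h4.smul hg
    rwa [smul_inv_smul] at this
  obtain ⟨b, hb, -⟩ := (Set.ncard_pos (s := (orb Z a \ {a}) ∩ Fx {x} W) (Set.toFinite _)).1
    (by unfold nf at hbig; omega)
  obtain ⟨wb, hwb, Rb⟩ := hρ b hb
  obtain ⟨wc, hwc, hne⟩ := Set.exists_ne_of_one_lt_ncard h2 wb
  obtain ⟨k, hk, rfl⟩ := htr wb hwb wc hwc
  have Rc := Rs _ _ Rb k hk
  have hc := hinv k hk b hb
  generalize k • b = d at *
  generalize k • wb = wd at *
  have ncl : ¬ Cl p Z a b d := fun h => hne (ClR _ _ _ _ hwb hwc Rb Rc h)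
  have ncl' : ¬ Cl p Z a d b := fun h => ncl (EXa _ hc _ hb h)
  have hdb : d ≠ b := fun h => ncl (h ▸ fun _ _ _ _ h => h)
  obtain ⟨e, he, heb, hed, hcl⟩ := TP b hb.1 d hc.1 hdb
  have hcl1 := EX b hb.1 d hc.1 e he hdb heb hcl
  have hcl2 := EX d hc.1 b hb.1 e he hdb.symm hed fun y h1 h2 h3 h4 => hcl y h1 h2 h4 h3
  by_cases hea : e = a
  · subst hea
    exact ncl fun y h1 h2 h3 h4 => hcl1 y h1 h2 h4 h3
  obtain ⟨we, hwe, Re⟩ := hρ e ⟨he, hea⟩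
  by_cases h1 : we = wb
  · subst h1
    exact ncl fun y h1 h2 h3 h4 => hcl1 y h1 h2 h4 (RCl _ _ _ Rb Re y h1 h2 h3 h4)
  by_cases h3 : we = wd
  · subst h3
    exact ncl' fun y h1 h2 h3 h4 => hcl2 y h1 h2 h4 (RCl _ _ _ Rc Re y h1 h2 h3 h4)
  obtain ⟨y, hy, hyp, y1, y2, y3⟩ := hsep wb hwb wd hwc we hwe h1 h3
  exact y3 ((Re y hy hyp).1 (hcl y (hKZ y hy).1 hyp ((Rb y hy hyp).2 y1) ((Rc y hy hyp).2 y2)))

theorem Ctx.sep (c : Ctx p x K) {w : V} (hw : st K w ≠ K) (hA : AltOn K (orb K w))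
    (h5 : 5 ≤ (orb K w).ncard) (h2 : 2 ≤ nf x (orb K w)) :
    ∀ w1 ∈ orb K w, ∀ w2 ∈ orb K w, ∀ w3 ∈ orb K w, w3 ≠ w1 → w3 ≠ w2 →
      ∃ y ∈ K, y ^ p = 1 ∧ y • w1 = w1 ∧ y • w2 = w2 ∧ y • w3 ≠ w3 := by
  obtain ⟨a, b, ha, hb, hab⟩ := (Set.one_lt_ncard_iff (Set.toFinite _)).1 h2
  obtain ⟨u, hu, hxu⟩ := c.mov hw
  have xa := mem_Fx1.1 ha.2
  have xb := mem_Fx1.1 hb.2
  have key : ∀ w1 ∈ orb K w, ∀ w2 ∈ orb K w, ∀ w3 ∈ orb K w, w1 ≠ w2 → w3 ≠ w1 → w3 ≠ w2 →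
      ∃ y ∈ K, y ^ p = 1 ∧ y • w1 = w1 ∧ y • w2 = w2 ∧ y • w3 ≠ w3 := by
    intro w1 h1 w2 h2 w3 h3 n1 n2 n3
    obtain ⟨g, hg, g1, g2, g3⟩ := hA.tri h5 h1 h2 h3 ha.1 hb.1 hu n1 n2.symm n3.symm hab
      (fun h => hxu (h ▸ xa)) (fun h => hxu (h ▸ xb))
    refine ⟨g⁻¹ * x * g, K.mul_mem (K.mul_mem (K.inv_mem hg) c.xK) hg, conj_p (xp c.hx) g,
      smul_fix_iff.1 (by rw [g1, xa]), smul_fix_iff.1 (by rw [g2, xb]), fun h => hxu ?_⟩
    have := smul_fix_iff.2 h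
    rwa [g3] at this
  intro w1 h1 w2 h2 w3 h3 n2 n3
  by_cases n1 : w1 = w2
  · subst n1
    obtain ⟨w4, h4, h6⟩ := Set.exists_mem_notMem_of_ncard_lt_ncard (s := {w1, w3}) (t := orb K w)
      (by have := Set.ncard_insert_le w1 {w3}; rw [Set.ncard_singleton] at this; omega) (Set.toFinite _)
    simp only [Set.mem_insert_iff, Set.mem_singleton_iff, not_or] at h6
    obtain ⟨y, y1, y2, y3, -, y5⟩ := key w1 h1 w4 h4 w3 h3 (Ne.symm h6.1) n2 (Ne.symm h6.2)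
    exact ⟨y, y1, y2, y3, y3, y5⟩
  · exact key w1 h1 w2 h2 w3 h3 n1 n2 n3

theorem num2 {p c u tV fS fV : ℕ} (hc : (p = 3 ∧ c = 1) ∨ (5 ≤ p ∧ c = 2)) (hu : 1 ≤ u)
    (h1 : fS ≤ c * u) (h2 : ((p : ℤ) - 1) * u - fS + ((p - 1) * tV - fV) ≤ 2 * p - 3)
    (h3 : p ≤ fS + fV)
    (h4 : (tV = 0 ∧ fV = 0) ∨ ((p : ℤ) - 1 ≤ (p - 1) * tV - fV ∧ (fV + 1 ≤ p ∨ fV ≤ tV))) :
    u + tV = 3 ∧ fS + fV ≤ p + 1 := by
  rcases hc with ⟨rfl, rfl⟩ | ⟨h5, rfl⟩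
  · push_cast at *
    omega
  have p5 : (5 : ℤ) ≤ p := by omega
  have h1' : (fS : ℤ) ≤ 2 * u := by omega
  rcases h4 with ⟨rfl, rfl⟩ | ⟨h6, h7⟩
  · have u3 : (3 : ℤ) ≤ u := by omega
    have h8 : (p : ℤ) ≤ 2 * u := by omega
    push_cast at h2
    have : u ≤ 3 := by
      by_contra h9
      have : (4 : ℤ) ≤ u := by omega
      nlinarith
    omega
  · have hu1 : u = 1 := by
      by_contra h9
      have : (2 : ℤ) ≤ u := by omega
      nlinarith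
    subst hu1
    push_cast at h2
    have ht : tV ≤ 2 := by
      by_contra h9
      have : (3 : ℤ) ≤ tV := by omega
      rcases h7 with h7 | h7
      · have : (fV : ℤ) + 1 ≤ p := by omega
        nlinarith
      · have : (fV : ℤ) ≤ tV := by omega
        nlinarith
    obtain rfl | rfl | rfl : tV = 0 ∨ tV = 1 ∨ tV = 2 := by omega
    · have : ((p : ℤ) - 1) * ((0 : ℕ) : ℤ) = 0 := by simp
      omega
    · have : ((p : ℤ) - 1) * ((1 : ℕ) : ℤ) = p - 1 := by simp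
      omega
    · omega

theorem bottom {m : ℕ} (hS : SS p x m) (c : Ctx p x Z) {a : W} (ha : st Z a ⋖ Z) (hxa : x • a = a)
    (hm : (orb Z a).ncard ≤ m + 1) (hf : p + 1 ≤ nf x (orb Z a))
    (hD : DD p x (orb Z a \ {a}) ≤ p * (2 * p - 3)) :
    (∃ b ∈ orb Z a \ {a}, orb (PE p (st Z a)) b = orb Z a \ {a} ∧
      st (PE p (st Z a)) b ⋖ PE p (st Z a)) ∨
    ((orb Z a).ncard = nf x (orb Z a) + p * 3 ∧ nf x (orb Z a) ≤ p + 2) := by
  have hp3 := c.p3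
  have cK : Ctx p x (PE p (st Z a)) :=
    ⟨c.p2, c.hG, c.hx, PE_PE _, mem_PE1 (mem_st.2 ⟨c.xK, hxa⟩) (xp c.hx)⟩
  have hinv : Inv (PE p (st Z a)) (orb Z a \ {a}) := inv_punct a
  have hnf : ∀ b ∈ orb Z a \ {a}, st (PE p (st Z a)) b ≠ PE p (st Z a) := fun b hb =>
    nofix (syl c.hG c.hx) (zpowers_le.2 c.xK) c.hK ha (by rw [Fx_zp]; exact mem_Fx1.2 hxa) hb.1 hb.2
  have e1 := ncard_punct Z a
  have e2 : nf x (orb Z a \ {a}) + 1 = nf x (orb Z a) := ncard_punct_fix Z a (mem_Fx1.2 hxa)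
  set K := PE p (st Z a) with hKdef
  set S := orb Z a \ {a} with hSdef
  have hle : ∀ b ∈ S, (orb K b).ncard ≤ m := fun b hb => by
    have := Set.ncard_le_ncard (hinv.orb_sub hb) (Set.toFinite _)
    omega
  have hnn : ∀ b ∈ S, 0 ≤ DD p x (orb K b) := fun b hb => hS.nn cK (hnf b hb) (hle b hb)
  have hDb : ∀ b ∈ S, DD p x (orb K b) ≤ p * (2 * p - 3) := fun b hb =>
    (Phi_le _ _ _ hinv (inv_orb K b) (hinv.orb_sub hb) hnn).trans hD
  have two : ∀ v ∈ S, ∀ v' ∈ S, ¬ Small p x K v → ¬ Small p x K v' → v' ∈ orb K v := by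
    intro v hv v' hv' h1 h2
    by_contra h3
    have a1 := (cK.big (hnf v hv) h1).1
    have a2 := (cK.big (hnf v' hv') h2).1
    have a3 := Phi_split (p - 1) (2 * p - 1) (Fx {x} W) (hinv.orb_sub hv)
    have a4 := Phi_le (p - 1) (2 * p - 1) (Fx {x} W) (hinv.diff (inv_orb K v)) (inv_orb K v')
      ((hinv.diff (inv_orb K v)).orb_sub ⟨hv', h3⟩) fun b hb => hnn b hb.1
    unfold DD at *
    nlinarith
  by_cases h0 : ∃ b ∈ S, Small p x K b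
  swap
  · push Not at h0
    obtain ⟨b, hb, -⟩ := (Set.ncard_pos (s := S ∩ Fx {x} W) (Set.toFinite _)).1
      (by unfold nf at e2 hf; omega)
    exact Or.inl ⟨b, hb, Set.Subset.antisymm (hinv.orb_sub hb)
      fun v hv => two b hb v hv (h0 b hb) (h0 v hv), (cK.big (hnf b hb) (h0 b hb)).2 (hDb b hb)⟩
  right
  have hsm : ∀ b ∈ S, ∀ M : Subgroup G, st K b ≤ M → M ⋖ K →
      DD p x (orb K ((1 : G) : G ⧸ M)) ≤ p * (p - 2) →
      (orb K ((1 : G) : G ⧸ M)).ncard = nf x (orb K ((1 : G) : G ⧸ M)) + p ∧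
        nf x (orb K ((1 : G) : G ⧸ M)) < p := fun b hb M h1 h2 h3 => by
    obtain ⟨β, g, h4, h5, -⟩ :=
      fibD (b := b) (w := ((1 : G) : G ⧸ M)) ((st_quot h2.le).symm ▸ h1) (xp c.hx) cK.xK
    have := hle b hb
    exact hS.small cK h2 (by nlinarith) h3
  obtain ⟨cc, hcc⟩ : ∃ cc : ℕ, (p = 3 ∧ cc = 1) ∨ (5 ≤ p ∧ cc = 2) := by
    by_cases h3 : p = 3
    · exact ⟨1, Or.inl ⟨h3, rfl⟩⟩
    · have a4 : p ≠ 4 := by rintro rfl; exact absurd hp.out (by norm_num)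
      exact ⟨2, Or.inr ⟨by omega, rfl⟩⟩
  by_cases hI : ∃ b ∈ S, ∃ M : Subgroup G, st K b ≤ M ∧ M ⋖ K ∧
      DD p x (orb K ((1 : G) : G ⧸ M)) ≤ p * (p - 2) ∧ cc < nf x (orb K ((1 : G) : G ⧸ M))
  · exfalso
    obtain ⟨b0, hb0, M, h1, h2, h3, h4⟩ := hI
    obtain ⟨h5, h6⟩ := hsm b0 hb0 M h1 h2 h3
    have hw : st K ((1 : G) : G ⧸ M) ⋖ K := by rw [st_quot h2.le]; exact h2
    generalize ((1 : G) : G ⧸ M) = w at *
    have hJ : 3 ≤ nf x (orb K w) ∨ (p = 3 ∧ nf x (orb K w) = 2) := by omega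
    have hA : AltOn K (orb K w) := jordan c.p2 c.hG c.hx cK.hK cK.xK (inv_orb K w) h5
      (fun u hu => st_ne_of_mem hw.ne hu) (hJ.imp id And.left)
    refine lin (Θ := orb K w) cK.xK (xp c.hx) (fun b hb => ?_)
      (cK.sep hw.ne hA (by omega) (by omega)) (fun _ h1 _ h2 => exists_smul_of_mem h1 h2)
      (by omega) (by change _ < nf x S; omega)
    obtain ⟨M', hM1, hM2⟩ := exists_covBy (st_le K b) (hnf b hb)
    have hq := st_quot hM2.le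
    have hv : st K ((1 : G) : G ⧸ M') ⋖ K := by rw [hq]; exact hM2
    obtain ⟨β, g, a1, a2, -, a4, -⟩ :=
      fibD (b := b) (w := ((1 : G) : G ⧸ M')) (hq.symm ▸ hM1) (xp c.hx) cK.xK
    have a5 := hS.nn cK hv.ne (by have := hle b hb; nlinarith)
    have a6 := hDb b hb
    have a7 : 0 ≤ (2 * (p : ℤ) - 1) * p * g := by
      have : (0 : ℤ) ≤ 2 * p - 1 := by omega
      positivity
    have a8 : (1 : ℤ) ≤ β := by omega
    obtain ⟨w', hw', a9⟩ := cK.lemA hw h5 h6 hJ hA hv (by nlinarith)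
    have b1 : st K b ≤ st K w' := a9 ▸ hq.symm ▸ hM1
    refine ⟨w', hw', fun y hy hyp => ⟨fun h => (mem_st.1 (b1 (mem_st.2 ⟨hy, h⟩))).2, fun h => ?_⟩⟩
    by_cases hy1 : y = 1
    · rw [hy1, one_smul]
    obtain ⟨β', g', -, -, -, b4, -, b6⟩ := fibD b1 hyp hy
    refine b6 ?_ h
    have b7 : DD p y (orb K b) = DD p x (orb K b) := by
      unfold DD Phi
      rw [nf_conj c.hG c.hx cK.xK hy (ord_of hyp hy1) (inv_orb K b)]
    have b8 : DD p y (orb K w') = DD p x (orb K w) := by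
      unfold DD Phi
      rw [orb_eq_of_mem hw', nf_conj c.hG c.hx cK.xK hy (ord_of hyp hy1) (inv_orb K w)]
    have b9 : 0 ≤ DD p x (orb K w) := by
      rw [DD_eq (t := 1) (by rw [mul_one]; exact h5)]
      have : (0 : ℤ) ≤ (p - 1) * (1 : ℕ) - nf x (orb K w) := by omega
      positivity
    rw [b7, b8] at b4
    by_contra b10
    have : (1 : ℤ) ≤ g' := by omega
    have : (0 : ℤ) ≤ β' * DD p x (orb K w) := by positivity
    have : (3 : ℤ) ≤ p := by omega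
    nlinarith
  push Not at hI
  let T : Set W := {b | b ∈ S ∧ 0 ≤ Phi cc (p + cc) (Fx {x} W) (orb K b)}
  have hTS : T ⊆ S := fun b hb => hb.1
  have hT : Inv K T := fun k hk b hb =>
    ⟨hinv k hk b hb.1, by rw [orb_eq_of_mem (smul_mem_orb hk b)]; exact hb.2⟩
  have hsT : ∀ b ∈ S, Small p x K b → b ∈ T := by
    rintro b hb ⟨M, h1, h2, h3⟩
    obtain ⟨h5, -⟩ := hsm b hb M h1 h2 h3
    have h6 := hI b hb M h1 h2 h3
    obtain ⟨β, g, -, h7, h8, -⟩ :=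
      fibD (b := b) (w := ((1 : G) : G ⧸ M)) ((st_quot h2.le).symm ▸ h1) (xp c.hx) cK.xK
    refine ⟨hb, ?_⟩
    have h9 : (p + cc) * nf x (orb K b) ≤ cc * (orb K b).ncard := by
      rw [h7, h5]
      have := Nat.mul_le_mul_left (p + cc) h8
      have := Nat.mul_le_mul_left (p * β) h6
      nlinarith
    unfold Phi
    unfold nf at h9
    zify at h9
    linarith
  obtain ⟨b0, hb0, M, h1, h2, h3⟩ := h0
  obtain ⟨h5, -⟩ := hsm b0 hb0 M h1 h2 h3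
  have h6 := hI b0 hb0 M h1 h2 h3
  have hw : st K ((1 : G) : G ⧸ M) ≠ K := by rw [st_quot h2.le]; exact h2.ne
  obtain ⟨u, hu⟩ := cong1 (xp c.hx) cK.xK hT
  obtain ⟨tV, htV⟩ := cong1 (xp c.hx) cK.xK (hinv.diff hT)
  have hu1 := cK.tpos (hnf b0 hb0) (hT.orb_sub (hsT b0 hb0 ⟨M, h1, h2, h3⟩)) hu
  have s1 := Phi_split 1 0 (Fx {x} W) hTS
  have s2 := Phi_split 0 1 (Fx {x} W) hTS
  have s3 : DD p x S = DD p x T + DD p x (S \ T) := Phi_split _ _ _ hTS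
  have s4 := Phi_nonneg cc (p + cc) (Fx {x} W) K _ T rfl hT fun b hb => hb.2
  unfold Phi at s1 s2 s4
  have s5 : nf x T ≤ cc * u := by
    refine Nat.le_of_mul_le_mul_left ?_ hp.out.pos
    rw [hu] at s4
    unfold nf
    zify
    push_cast at s4
    nlinarith
  have s6 := DD_eq htV
  rw [DD_eq hu, s6, ← mul_add] at s3
  have s7 := le_of_mul_le_mul_left (s3 ▸ hD) (show (0 : ℤ) < p by omega)
  have := num2 (fV := nf x (S \ T)) hcc hu1 s5 s7 (by unfold nf at *; omega) (by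
    rcases (S \ T).eq_empty_or_nonempty with h | ⟨v, hv⟩
    · left
      rw [h] at htV ⊢
      simp only [Set.ncard_empty, Set.empty_inter] at htV ⊢
      exact ⟨by nlinarith, by simp [nf]⟩
    right
    have hnv : ∀ v ∈ S \ T, ¬ Small p x K v := fun v hv h => hv.2 (hsT v hv.1 h)
    have hVe : orb K v = S \ T := Set.Subset.antisymm ((hinv.diff hT).orb_sub hv)
      fun v' hv' => two v hv.1 v' hv'.1 (hnv v hv) (hnv v' hv')
    obtain ⟨b1, b2⟩ := cK.big (hnf v hv.1) (hnv v hv)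
    have hvc := b2 (hDb v hv.1)
    rw [hVe, s6] at b1
    refine ⟨le_of_mul_le_mul_left b1 (by omega), ?_⟩
    rcases KT hvc (kr_le K _) (kr_norm (inv_orb K ((1 : G) : G ⧸ M))) with h | h
    · left
      rw [← hVe]
      exact cK.fV hw h5 (by omega) h
    · right
      have := (cK.pn (kr_norm (inv_orb K _)) (cK.cop hw) hvc.ne h).2
      rw [hVe, htV] at this
      refine Nat.le_of_mul_le_mul_left ?_ hp.out.pos
      unfold nf at *
      nlinarith)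
  have s8 : p * u + p * tV = p * 3 := by rw [← mul_add, this.1]
  unfold nf at *
  omega

end Cfsg.Agent.H51.FP
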