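import Mathlib
import Cfsg.Agent.H51.FP6

/-! An element generating a Sylow subgroup of odd prime order `p` fixes at most the fraction
`(p-1)/(2p-1)` of the points of a transitive action. -/

set_option autoImplicit false
set_option linter.unusedSectionVars false

namespace Cfsg.Agent.H51.FP

open Subgroup
open scoped Pointwise

universe u

variable {G : Type u} [Group G] [Finite G] {p : ℕ} [hp : Fact p.Prime]
variable {W : Type*} [MulAction G W] [Finite W]
variable {x : G} {K Z : Subgroup G}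

theorem comm_of_cop (hx : orderOf x = p) {r : G} (hr : r ∈ normalizer (zpowers x : Set G))
    (hc : (orderOf r).Coprime (p - 1)) : Commute r x := by
  have h1 := orderOf_dvd_natCard ((zpowers x).normalizerMonoidHom ⟨r, hr⟩)
  rw [IsCyclic.card_mulAut, Nat.card_zpowers, hx, Nat.totient_prime hp.out] at h1
  have h2 := orderOf_map_dvd (zpowers x).normalizerMonoidHom ⟨r, hr⟩
  rw [orderOf_mk] at h2
  have h3 := orderOf_eq_one_iff.1 (Nat.eq_one_of_dvd_coprimes hc h2 h1)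
  have h4 : (⟨r, hr⟩ : normalizer (zpowers x : Set G)) ∈ (zpowers x).normalizerMonoidHom.ker := h3
  rw [normalizerMonoidHom_ker, mem_subgroupOf, mem_centralizer_iff] at h4
  exact (h4 x (mem_zpowers x)).symm

theorem exists_pp {f : ℕ} (hf : 5 ≤ f) (hodd : ¬ 2 ∣ f) :
    ∃ l e : ℕ, l.Prime ∧ 4 ≤ l ^ e ∧ l ^ e ∣ f := by
  by_cases h9 : 9 ∣ f
  · exact ⟨3, 2, Nat.prime_three, by norm_num, h9⟩
  obtain ⟨g, hg1, hg2, hg3⟩ : ∃ g, g ≠ 1 ∧ g ∣ f ∧ ¬ 3 ∣ g := by
    by_cases h3 : 3 ∣ f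
    · exact ⟨f / 3, by omega, Nat.div_dvd_of_dvd h3, by omega⟩
    · exact ⟨f, by omega, dvd_rfl, h3⟩
  obtain ⟨l, hl, hlg⟩ := Nat.exists_prime_and_dvd hg1
  refine ⟨l, 1, hl, ?_, by simpa using hlg.trans hg2⟩
  have := hl.two_le
  have h2 : l ≠ 2 := by rintro rfl; exact hodd (hlg.trans hg2)
  have h3 : l ≠ 3 := by rintro rfl; exact hg3 hlg
  rw [pow_one]; omega

theorem ending (c : Ctx p x Z) {a : W} (ha : st Z a ⋖ Z) (hxa : x • a = a)
    (hn : (orb Z a).ncard = nf x (orb Z a) + p * 3) (hf : nf x (orb Z a) + 1 = 2 * p)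
    (h2 : (∀ b ∈ orb Z a \ {a}, ∀ d ∈ orb Z a \ {a}, ∃ g ∈ st Z a, g • b = d) ∨ p = 3) : False := by
  have hp3 := c.p3
  have hsy := syl c.hG c.hx
  set F := orb Z a ∩ Fx {x} W with hF
  set B := Z ⊓ normalizer (zpowers x : Set G) with hB
  have haF : a ∈ F := ⟨mem_orb_self Z a, mem_Fx1.2 hxa⟩
  have hBF : Inv B F := fun g hg w hw => ⟨inv_orb Z a g hg.1 w hw.1, mem_Fx1.2 (by
    obtain ⟨i, hi⟩ := (mem_normalizer_iff''.1 hg.2 x).1 (mem_zpowers x)
    have hi' : x ^ i = g⁻¹ * x * g := hi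
    rw [smul_fix_iff, ← hi', zpow_fix (mem_Fx1.1 hw.2)])⟩
  have hBS : Inv B (orb Z a \ F) := ((inv_orb Z a).mono inf_le_left).diff hBF
  have hxB : zpowers x ≤ B := le_inf (zpowers_le.2 c.xK) le_normalizer
  have hBa : orb B a = F := Set.Subset.antisymm (hBF.orb_sub haF) fun b hb => by
    obtain ⟨g, g1, g2, g3⟩ := witt1 hsy (zpowers_le.2 c.xK) (a := a) (a' := b)
      (by rw [Fx_zp]; exact haF.2) (by rw [Fx_zp]; exact hb.2) hb.1
    exact ⟨g, ⟨g1, g2⟩, g3⟩
  have hFc : F.ncard + 1 = 2 * p := hf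
  have hSc : (orb Z a \ F).ncard = p * 3 := by
    have := Set.ncard_diff_add_ncard_of_subset (Set.inter_subset_left (s := orb Z a)
      (t := Fx {x} W)) (Set.toFinite _)
    unfold nf at hn
    rw [← hF] at this hn
    omega
  obtain ⟨l, e, hl, hl4, hle⟩ := exists_pp (f := F.ncard) (by omega) (by omega)
  haveI := Fact.mk hl
  have he : e ≠ 0 := by rintro rfl; simp at hl4
  have hlf : l ∣ F.ncard := (dvd_pow_self l he).trans hle
  have hlc : ∀ k : ℕ, (∃ j, j * k = F.ncard + 1 ∨ j * k + 1 = F.ncard) → l.Coprime k := by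
    rintro k ⟨j, hj⟩
    refine hl.coprime_iff_not_dvd.2 fun h => hl.one_lt.ne' (Nat.dvd_one.1 ?_)
    rcases hj with hj | hj
    · exact (Nat.dvd_add_right hlf).1 (hj ▸ h.mul_left j)
    · exact (Nat.dvd_add_right (h.mul_left j)).1 (hj ▸ hlf)
  obtain ⟨R, hR⟩ := H8.exists_isSylowIn l B
  have hcop : ∀ r ∈ R, ∀ k : ℕ, l.Coprime k → (orderOf r).Coprime k := fun r hr k hk => by
    obtain ⟨j, hj⟩ := (IsPGroup.iff_orderOf.1 hR.isPGroup) ⟨r, hr⟩
    rw [orderOf_mk] at hj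
    rw [hj]; exact hk.pow_left j
  have hcomm : ∀ r ∈ R, Commute r x := fun r hr =>
    comm_of_cop c.hx (hR.le hr).2 (hcop r hr _ (hlc _ ⟨2, Or.inr (by omega)⟩))
  have hfix : ∀ r ∈ R, ∀ k : ℕ, l.Coprime k → ∀ w : W, r ^ k • w = w → r • w = w :=
    fun r hr k hk w h => fix_of_coprime (by rw [pow_orderOf_eq_one, one_smul]) h (hcop r hr k hk)
  have hq : l ^ e ∣ (orb R a).ncard := by
    have e1 := card_orb B a
    have e2 := card_orb R a
    have e3 := H8.card_eq_card_mul_relIndex hR.le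
    obtain ⟨s, hs⟩ := card_dvd_of_le (show st R a ≤ st B a from inf_le_inf_right _ hR.le)
    have e4 : (orb R a).ncard * R.relIndex B = F.ncard * s := by
      apply Nat.eq_of_mul_eq_mul_right (Nat.card_pos (α := st R a))
      rw [hBa, hs, e3, ← e2] at e1
      linarith
    exact ((hl.coprime_iff_not_dvd.2 hR.not_dvd).pow_left e).dvd_of_dvd_mul_right
      (e4 ▸ hle.mul_right s)
  obtain ⟨w, hw⟩ := (Set.ncard_pos (s := orb Z a \ F) (Set.toFinite _)).1 (by omega)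
  have hmv : ∀ u ∈ orb Z a \ F, x • u ≠ u := fun u hu h => hu.2 ⟨hu.1, mem_Fx1.2 h⟩
  have hJ : st R w ≤ kr B (orb Z a \ F) := fun r hr => by
    obtain ⟨hr1, hr2⟩ := mem_st.1 hr
    refine mem_kr.2 ⟨hR.le hr1, fun u hu => ?_⟩
    by_cases h : u ∈ orb (zpowers x) w
    · obtain ⟨_, ⟨i, rfl⟩, rfl⟩ := h
      rw [← mul_smul, ((hcomm r hr1).zpow_right i).eq, mul_smul, hr2]
    have hsub := (hBS.mono hxB).orb_sub hw
    have h3 := Set.ncard_diff_add_ncard_of_subset hsub (Set.toFinite _)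
    rw [card_orb_zp (xp c.hx) (hmv w hw)] at h3
    have h4 : ((orb Z a \ F) \ orb (zpowers x) w) ∩ Fx {x} W = ∅ :=
      Set.eq_empty_of_forall_notMem fun v hv => hmv v hv.1.1 (mem_Fx1.1 hv.2)
    refine hfix r hr1 (2 * p) (hlc _ ⟨1, Or.inl (by omega)⟩) u (K2p (xp c.hx) (hcomm r hr1)
      (S := (orb Z a \ F) \ orb (zpowers x) w) (fun v hv => ⟨hBS r (hR.le hr1) v hv.1, fun h5 =>
        hv.2 ?_⟩) ((hBS.mono hxB).diff (inv_orb _ w)) (by rw [h4]; simp) (by omega) ⟨hu, h⟩)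
    have := smul_orb_zp (hcomm r hr1).inv_left h5
    rwa [inv_smul_smul, inv_smul_eq_iff.2 hr2.symm] at this
  have hw3 : (orb R w).ncard ≤ 3 := by
    have hs := (hBS.mono hR.le).orb_sub hw
    have h3 : Nat.card (orb R w × zpowers x) ≤ Nat.card (orb Z a \ F : Set W) := by
      refine Nat.card_le_card_of_injective
        (fun q => ⟨q.2.1 • q.1.1, hBS _ (hxB q.2.2) _ (hs q.1.2)⟩) ?_
      rintro ⟨⟨u, hu⟩, ⟨y, hy⟩⟩ ⟨⟨u', hu'⟩, ⟨y', hy'⟩⟩ h
      have h4 : y • u = y' • u' := congrArg Subtype.val h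
      obtain ⟨r, hr, rfl⟩ := exists_smul_of_mem hu hu'
      have h5 : (y'⁻¹ * y) • u = r • u := by rw [mul_smul, h4, inv_smul_smul]
      have h6 : r • u = u := hfix r hr p (hlc _ ⟨2, Or.inl (by omega)⟩) u
        (pow_p_fix (xp c.hx) (hcomm r hr) ⟨_, mul_mem (inv_mem hy') hy, h5⟩)
      obtain ⟨i, hi⟩ := mul_mem (inv_mem hy') hy
      have hi' : x ^ i = y'⁻¹ * y := hi
      have h7 : x ^ i = 1 := by
        by_contra h7
        exact hmv u (hs hu) (mem_of_zpow_mem (H := MulAction.stabilizer G u) (xp c.hx)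
          (by rw [hi', MulAction.mem_stabilizer_iff, h5, h6]) h7)
      rw [hi', inv_mul_eq_one] at h7
      simp only [h6, h7]
    rw [Nat.card_prod, Nat.card_coe_set_eq, Nat.card_coe_set_eq, Nat.card_zpowers, c.hx, hSc,
      mul_comm] at h3
    exact Nat.le_of_mul_le_mul_left h3 hp.out.pos
  have hRa := Nat.le_of_dvd (orb_pos R a) hq
  have hT : ∀ b ∈ F, ∃ j ∈ kr B (orb Z a \ F), j • a = b := by
    rcases h2 with h2 | h2
    · obtain ⟨j, hj, hja⟩ : ∃ j ∈ st R w, j • a ≠ a := by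
        by_contra h
        push Not at h
        obtain ⟨β, h3, h4, -⟩ := fib0 (K := R) (b := w) (w := a)
          (fun j hj => mem_st.2 ⟨st_le _ _ hj, h j hj⟩) ∅ (Set.empty_subset _)
        nlinarith
      intro b hb
      by_cases hba : b = a
      · exact ⟨1, one_mem _, by rw [one_smul, hba]⟩
      have hjF := hBF j (kr_le _ _ (hJ hj)) a haF
      obtain ⟨g, g1, g2, g3⟩ := witt1 hsy (K := st Z a) (zpowers_le.2 (mem_st.2 ⟨c.xK, hxa⟩))
        (a := j • a) (a' := b) (by rw [Fx_zp]; exact hjF.2) (by rw [Fx_zp]; exact hb.2)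
        (h2 _ ⟨hjF.1, hja⟩ _ ⟨hb.1, hba⟩)
      refine ⟨g * j * g⁻¹, kr_norm hBS g ⟨(mem_st.1 g1).1, g2⟩ j (hJ hj), ?_⟩
      rw [mul_smul, mul_smul, inv_smul_eq_iff.2 (mem_st.1 g1).2.symm, g3]
    · have h5 : F.ncard = 5 := by omega
      have hl5 : l = 5 := (Nat.prime_dvd_prime_iff_eq hl (by norm_num)).1 (h5 ▸ hlf)
      obtain ⟨k, hk⟩ := hR.isPGroup.exists_card_eq
      obtain ⟨j, -, hj⟩ := (Nat.dvd_prime_pow hl).1 (hk ▸ Dvd.intro _ (card_orb R w))
      have hj0 : j = 0 := by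
        by_contra h
        have := Nat.le_of_dvd (pow_pos hl.pos j) (dvd_pow_self l h)
        omega
      have h6 : st R w = R := eq_of_le_of_card_ge (st_le _ _) (by
        have := card_orb R w
        rw [hj, hj0, pow_zero, one_mul] at this
        exact this.ge)
      have h7 : 5 ≤ (orb R a).ncard := by
        have := Nat.le_of_dvd (orb_pos R a) ((dvd_pow_self l he).trans hq)
        omega
      intro b hb
      rw [← Set.eq_of_subset_of_ncard_le ((hBF.mono hR.le).orb_sub haF) (by omega)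
        (Set.toFinite _)] at hb
      obtain ⟨r, hr, h8⟩ := hb
      exact ⟨r, hJ (h6.ge hr), h8⟩
  have hA : AltOn Z (orb Z a) := marggraff ha (F := F) Set.inter_subset_left (by omega) (by unfold nf at hn hf; omega)
    fun b hb d hd => by
      obtain ⟨j, j1, j2⟩ := hT b hb
      obtain ⟨k, k1, k2⟩ := hT d hd
      have h3 := mul_mem k1 (inv_mem j1)
      refine ⟨k * j⁻¹, mem_kr.2 ⟨(mem_kr.1 h3).1.1, (mem_kr.1 h3).2⟩, ?_⟩
      rw [mul_smul, inv_smul_eq_iff.2 j2.symm, k2]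
  exact c.hG (hA.not_sq c.p2 (inv_orb Z a) (by omega))

theorem chain {m : ℕ} (hS : SS p x m) {q t : ℕ} (hq : 1 ≤ q)
    (ht : ((p : ℤ) - 1) * t ≤ p * q + 2 * p - 3) (n : ℕ) :
    ∀ (Z : Subgroup G) (b : W), Ctx p x Z → st Z b ⋖ Z → (orb Z b).ncard = n → n ≤ m + 1 →
      n = nf x (orb Z b) + p * t → p * q ≤ nf x (orb Z b) → t = 3 ∧ nf x (orb Z b) < 2 * p := by
  induction n using Nat.strong_induction_on with
  | _ n ih =>
  intro Z b c hb hn hm h1 h2
  have hp3 := c.p3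
  have hpq : p ≤ p * q := Nat.le_mul_of_pos_right p hq
  obtain ⟨a, ha1, ha2⟩ := (Set.ncard_pos (s := orb Z b ∩ Fx {x} W) (Set.toFinite _)).1
    (by unfold nf at h2; omega)
  have hxa := mem_Fx1.1 ha2
  have ha := covBy_of_mem hb ha1
  have hnd := c.ndvd ha1 hxa
  have hnd' : ¬ p ∣ nf x (orb Z b) := fun h => hnd (by rw [hn, h1]; exact h.add (Dvd.intro _ rfl))
  have h3 : p * q ≠ nf x (orb Z b) := fun h => hnd' (Dvd.intro _ h)
  have h4 : 2 * p ≠ nf x (orb Z b) := fun h => hnd' (Dvd.intro_left _ h)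
  rw [← orb_eq_of_mem ha1] at hn h1 h2 h3 h4 ⊢
  have e1 := ncard_punct Z a
  have e2 : nf x (orb Z a \ {a}) + 1 = nf x (orb Z a) := ncard_punct_fix Z a ha2
  have e3 : (orb Z a \ {a}).ncard = nf x (orb Z a \ {a}) + p * t := by omega
  rcases bottom hS c ha hxa (by omega) (by omega) (by
    rw [DD_eq e3]
    refine mul_le_mul_of_nonneg_left ?_ (by omega)
    have : (p : ℤ) * q ≤ nf x (orb Z a \ {a}) := by
      have : p * q ≤ nf x (orb Z a \ {a}) := by omega
      exact_mod_cast this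
    omega) with ⟨d, -, h5, h6⟩ | ⟨h5, h6⟩
  · have := ih (n - 1) (by omega) _ d
      ⟨c.p2, c.hG, c.hx, PE_PE _, mem_PE1 (mem_st.2 ⟨c.xK, hxa⟩) (xp c.hx)⟩ h6 (by rw [h5]; omega)
      (by omega) (by rw [h5]; omega) (by rw [h5]; omega)
    rw [h5] at this
    omega
  · exact ⟨Nat.eq_of_mul_eq_mul_left hp.out.pos (by omega), by omega⟩

theorem ss_all (m : ℕ) : SS p x m := by
  induction m with
  | zero =>
    intro K M _ _ h
    have := orb_pos K ((1 : G) : G ⧸ M)
    omega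
  | succ m ih =>
    intro K M c hM hm hD
    have hb : st K ((1 : G) : G ⧸ M) ⋖ K := by rw [st_quot hM.le]; exact hM
    generalize ((1 : G) : G ⧸ M) = b at *
    by_contra hf
    have hp3 := c.p3
    obtain ⟨t, ht⟩ := cong1 (xp c.hx) c.xK (inv_orb K b)
    rw [DD_eq ht] at hD
    have h1 := le_of_mul_le_mul_left hD (by omega)
    have h2 := Nat.div_add_mod (nf x (orb K b)) p
    have h3 := Nat.mod_lt (nf x (orb K b)) hp.out.pos
    obtain ⟨rfl, h4⟩ := chain ih (q := nf x (orb K b) / p) (t := t)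
      ((Nat.one_le_div_iff hp.out.pos).2 (by omega)) (by
        generalize nf x (orb K b) / p = q at *
        have : (nf x (orb K b) : ℤ) = p * q + (nf x (orb K b) % p : ℕ) := by exact_mod_cast h2.symm
        omega) _ K b c hb rfl hm ht (by omega)
    obtain ⟨a, ha1, ha2⟩ := (Set.ncard_pos (s := orb K b ∩ Fx {x} _) (Set.toFinite _)).1
      (by unfold nf at hf; omega)
    have hxa := mem_Fx1.1 ha2
    have ha := covBy_of_mem hb ha1
    rw [← orb_eq_of_mem ha1] at hm hf ht h1 h4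
    have e1 := ncard_punct K a
    have e2 : nf x (orb K a \ {a}) + 1 = nf x (orb K a) := ncard_punct_fix K a ha2
    have e3 : (orb K a \ {a}).ncard = nf x (orb K a \ {a}) + p * 3 := by unfold nf at *; omega
    refine ending c ha hxa ht (by omega) ?_
    rcases bottom ih c ha hxa hm (by omega) (by
      rw [DD_eq e3]
      exact mul_le_mul_of_nonneg_left (by omega) (by omega)) with ⟨d, -, h5, -⟩ | ⟨-, h6⟩
    · left
      intro u hu v hv
      obtain ⟨g, g1, g2⟩ := exists_smul_of_mem (h5.ge hu) (h5.ge hv)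
      exact ⟨g, PE_le _ g1, g2⟩
    · right; omega

/-- the fixed point bound for a Sylow subgroup of odd prime order -/
theorem main (hp2 : p ≠ 2) (hG : ¬ p ^ 2 ∣ Nat.card G) (hx : orderOf x = p)
    (htr : ∀ a b : W, ∃ g : G, g • a = b) {w : W} (hw : x • w ≠ w) :
    (2 * p - 1) * (Fx {x} W).ncard ≤ (p - 1) * Nat.card W := by
  have c : Ctx p x (PE p ⊤) := ⟨hp2, hG, hx, PE_PE _, mem_PE1 (mem_top x) (xp hx)⟩
  have := Phi_nonneg (p - 1) (2 * p - 1) (Fx {x} W) (PE p ⊤) _ Set.univ rfl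
    (fun _ _ _ _ => trivial) fun b _ => (ss_all _).nn c
      (st_PE_top_ne (syl hG hx) htr (w := w) (by rw [Fx_zp, mem_Fx1]; exact hw) b) le_rfl
  unfold Phi at this
  rw [Set.univ_inter, Set.ncard_univ] at this
  have h3 := c.p3
  zify [show 1 ≤ 2 * p by omega, show 1 ≤ p by omega]
  linarith

end Cfsg.Agent.H51.FP
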