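import Mathlib
import Cfsg.Agent.H51.FP7

/-! The number of orbits of a Sylow subgroup of a transitive group. -/

set_option autoImplicit false
set_option linter.unusedSectionVars false

namespace Cfsg.Agent.H51.FP

open Subgroup
open Cfsg.Agent.H8 (IsSylowIn)
open scoped Pointwise

universe u

variable {G : Type u} [Group G] [Finite G] {p : ℕ} [hp : Fact p.Prime]
variable {W : Type*} [MulAction G W] [Finite W]

theorem maxl {R Q P : Subgroup G} (h1 : R ≤ Q) (h2 : Q ≤ P) (hc : p * Nat.card R = Nat.card P) :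
    Q = R ∨ Q = P := by
  obtain ⟨a, ha⟩ := card_dvd_of_le h1
  obtain ⟨b, hb⟩ := card_dvd_of_le h2
  have h3 : a * b = p := by
    apply Nat.eq_of_mul_eq_mul_left (Nat.card_pos (α := R))
    rw [← mul_assoc, ← ha, ← hb, ← hc, mul_comm]
  rcases (Nat.dvd_prime hp.out).1 (Dvd.intro _ h3) with h | h
  · left
    exact (eq_of_le_of_card_ge h1 (by rw [ha, h, mul_one])).symm
  · right
    exact eq_of_le_of_card_ge h2 (by rw [ha, h, ← hc, mul_comm])

theorem le_normalizer_of_index {R P : Subgroup G} (hP : IsPGroup p P) (h1 : R ≤ P)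
    (hc : p * Nat.card R = Nat.card P) : P ≤ normalizer (R : Set G) := by
  have hlt : R < P := lt_of_le_of_ne h1 fun h => by
    rw [h] at hc
    have := hp.out.one_lt
    have := Nat.card_pos (α := P)
    nlinarith
  have h2 := H8.lt_inf_normalizer_of_lt hP hlt
  rcases maxl h2.le inf_le_left hc with h | h
  · exact absurd h h2.ne'
  · exact h.ge.trans inf_le_right

theorem R_fix {P : Subgroup G} {c w : W}
    (hw : w ∈ orb (normalizer ((st P c : Subgroup G) : Set G)) c) : st P c ≤ st P w := by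
  obtain ⟨g, hg, rfl⟩ := hw
  intro r hr
  exact mem_st.2 ⟨st_le _ _ hr, smul_fix_iff.2 (mem_st.1 ((mem_normalizer_iff''.1 hg r).1 hr)).2⟩

theorem st_eq {P : Subgroup G} {c w : W} (hc : (orb P c).ncard = p)
    (hw : w ∈ orb (normalizer ((st P c : Subgroup G) : Set G)) c) (hF : w ∉ Fx (P : Set G) W) :
    st P w = st P c := by
  rcases maxl (R_fix hw) (st_le _ _) (hc ▸ card_orb P c) with h | h
  · exact h
  · exact absurd (fun y hy => (mem_st.1 (h.ge hy)).2) hF

theorem Fx_norm {P : Subgroup G} {g : G} (hg : g ∈ normalizer (P : Set G)) {a : W}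
    (ha : a ∈ Fx (P : Set G) W) : g • a ∈ Fx (P : Set G) W := fun y hy =>
  smul_fix_iff.2 (ha _ ((mem_normalizer_iff''.1 hg y).1 hy))

theorem loc_meet {P : Subgroup G} (hP : IsSylowIn p P ⊤) (htr : ∀ a b : W, ∃ g : G, g • a = b)
    {c a : W} (hc : (orb P c).ncard = p) (ha : a ∈ Fx (P : Set G) W) :
    ∃ a' ∈ orb (normalizer ((st P c : Subgroup G) : Set G)) c, a' ∈ Fx (P : Set G) W := by
  obtain ⟨g, rfl⟩ := htr a c
  have hcard : p * Nat.card (st P (g • a)) = Nat.card P := hc ▸ card_orb P (g • a)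
  have h1 : MulAut.conj g • P ≤ st ⊤ (g • a) := by
    rw [st_smul (mem_top g)]
    exact pointwise_smul_le_pointwise_smul_iff.2 (le_st_of_fix le_top ha)
  have h2 := ((hP.conj_smul_of_mem_normalizer (le_normalizer (mem_top g))).mono h1 le_top)
  obtain ⟨h, hh, h3⟩ := h2.exists_conj_le (hP.isPGroup.to_le (st_le P (g • a)))
    (inf_le_inf_right _ le_top)
  have h4 : st P (g • a) ≤ MulAut.conj (h⁻¹ * g) • P := by
    have := (pointwise_smul_le_pointwise_smul_iff (a := MulAut.conj h⁻¹)).2 h3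
    rwa [H8.conj_inv_smul_conj_smul, H8.conj_smul_conj_smul] at this
  obtain ⟨n, hn, h5⟩ := witt hP (le_normalizer_of_index hP.isPGroup (st_le _ _) hcard)
    (le_normalizer_of_index (H8.isPGroup_conj_smul hP.isPGroup (h⁻¹ * g)) h4
      (by rw [H8.card_conj_smul, hcard]))
  refine ⟨_, ⟨n, hn, ?_⟩, Fx_norm h5 ha⟩
  rw [mul_smul, mul_smul, inv_smul_eq_iff.2 (mem_st.1 hh).2.symm]

theorem loc_bound (hp2 : p ≠ 2) {P : Subgroup G} (hP : IsSylowIn p P ⊤) {c : W}
    (hc : (orb P c).ncard = p) :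
    (2 * p - 1) * (orb (normalizer ((st P c : Subgroup G) : Set G)) c ∩ Fx (P : Set G) W).ncard ≤
      (p - 1) * (orb (normalizer ((st P c : Subgroup G) : Set G)) c).ncard := by
  have hcard : p * Nat.card (st P c) = Nat.card P := hc ▸ card_orb P c
  have hPN := le_normalizer_of_index hP.isPGroup (st_le _ _) hcard
  have hRf := fun w => R_fix (P := P) (c := c) (w := w)
  set N := normalizer ((st P c : Subgroup G) : Set G) with hN
  have hS := inv_orb N c
  obtain ⟨g, hg, hgR⟩ : ∃ g ∈ P, g ∉ st P c := by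
    by_contra h
    push Not at h
    have := card_le_of_le (show P ≤ st P c from h)
    have := hp.out.one_lt
    have := Nat.card_pos (α := st P c)
    nlinarith
  have hG : ¬ p ^ 2 ∣ Nat.card (act hS).range := fun h => by
    have h1 : (st P c).subgroupOf N ≤ (act hS).ker := fun r hr => (act_eq_one hS r).2
      (mem_kr.2 ⟨r.2, fun w hw => (mem_st.1 (hRf w hw hr)).2⟩)
    have h2 := card_dvd_of_le h1
    rw [Nat.card_congr (subgroupOfEquivOfLe ((st_le _ _).trans hPN)).toEquiv] at h2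
    have h3 := (act hS).ker.card_mul_index
    rw [index_ker, H8.card_eq_card_mul_relIndex hPN, ← hcard] at h3
    have h4 := mul_dvd_mul h2 h
    rw [h3, mul_comm p, mul_assoc, Nat.mul_dvd_mul_iff_left Nat.card_pos, pow_two,
      Nat.mul_dvd_mul_iff_left hp.out.pos] at h4
    exact (hP.mono hPN le_top).not_dvd h4
  have hgc : g • c ≠ c := fun h => hgR (mem_st.2 ⟨hg, h⟩)
  have hmv : (act hS).rangeRestrict ⟨g, hPN hg⟩ • (⟨c, mem_orb_self N c⟩ : orb N c) ≠
      ⟨c, mem_orb_self N c⟩ := fun h => hgc (congrArg Subtype.val h)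
  obtain ⟨k, hk⟩ := hP.isPGroup ⟨g, hg⟩
  have hx : orderOf ((act hS).rangeRestrict ⟨g, hPN hg⟩) = p := by
    refine ord_of (pow_p hG (k := k) ?_) fun h => hmv (by rw [h, one_smul])
    have hk' : g ^ p ^ k = 1 := congrArg Subtype.val hk
    rw [← map_pow, show (⟨g, hPN hg⟩ : N) ^ p ^ k = 1 from Subtype.ext hk', map_one]
  have := main hp2 hG hx (W := orb N c) (fun a b => by
    obtain ⟨n, hn, h⟩ := exists_smul_of_mem a.2 b.2
    exact ⟨(act hS).rangeRestrict ⟨n, hn⟩, Subtype.ext h⟩) hmv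
  rw [Nat.card_coe_set_eq] at this
  refine le_trans (Nat.mul_le_mul_left _ ?_) this
  rw [← Set.ncard_image_of_injective _ Subtype.val_injective]
  refine Set.ncard_le_ncard (fun w hw => ⟨⟨w, hw.1⟩, mem_Fx1.2 (Subtype.ext (hw.2 g hg)), rfl⟩)
    (Set.toFinite _)

theorem cover {a b : ℕ} (F : Set W) (T : Set (Set W))
    (h1 : ∀ A ∈ T, a * (A ∩ F).ncard ≤ b * (A \ F).ncard)
    (h2 : ∀ A ∈ T, ∀ B ∈ T, ∀ w ∈ A \ F, w ∈ B → A = B) :
    a * (⋃₀ T ∩ F).ncard ≤ b * (⋃₀ T \ F).ncard := by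
  induction T, T.toFinite using Set.Finite.induction_on with
  | empty => simp
  | @insert A T hA _ ih =>
    have h3 := ih (fun B hB => h1 B (Or.inr hB)) fun B hB C hC => h2 B (Or.inr hB) C (Or.inr hC)
    have h4 := h1 A (Or.inl rfl)
    rw [Set.sUnion_insert, Set.union_inter_distrib_right, Set.union_diff_distrib,
      Set.ncard_union_eq (s := A \ F) (Set.disjoint_left.2 fun w hw hw2 => by
        obtain ⟨B, hB, hwB⟩ := hw2.1
        exact hA (h2 A (Or.inl rfl) B (Or.inr hB) w hw hwB ▸ hB)) (Set.toFinite _) (Set.toFinite _)]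
    have := Nat.mul_le_mul_left a (Set.ncard_union_le (A ∩ F) (⋃₀ T ∩ F))
    nlinarith

theorem praeger (hp2 : p ≠ 2) {P : Subgroup G} (hP : IsSylowIn p P ⊤)
    (htr : ∀ a b : W, ∃ g : G, g • a = b) {c : W} (hc : (orb P c).ncard = p) :
    p * (Fx (P : Set G) W).ncard ≤ (p - 1) * (Fx (P : Set G) W)ᶜ.ncard := by
  let T : Set (Set W) :=
    {A | ∃ c : W, (orb P c).ncard = p ∧ A = orb (normalizer ((st P c : Subgroup G) : Set G)) c}
  have h := cover (a := p) (b := p - 1) (Fx (P : Set G) W) T (by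
    rintro _ ⟨d, hd, rfl⟩
    have h1 := loc_bound hp2 hP hd
    rw [← Set.ncard_inter_add_ncard_diff_eq_ncard
      (orb (normalizer ((st P d : Subgroup G) : Set G)) d) (Fx (P : Set G) W) (Set.toFinite _)] at h1
    obtain ⟨q, rfl⟩ := Nat.exists_eq_add_of_le' hp.out.pos
    rw [show 2 * (q + 1) - 1 = q + (q + 1) by omega] at h1
    simp only [add_tsub_cancel_right] at h1 ⊢
    change (q + 1) * _ ≤ _
    nlinarith) (by
    rintro _ ⟨d, hd, rfl⟩ _ ⟨e, he, rfl⟩ w hw hw2
    rw [← orb_eq_of_mem hw.1, ← orb_eq_of_mem hw2, ← st_eq hd hw.1 hw.2, ← st_eq he hw2 hw.2])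
  refine le_trans (Nat.mul_le_mul_left _ (Set.ncard_le_ncard (t := ⋃₀ T ∩ Fx (P : Set G) W)
    (fun a ha => ⟨?_, ha⟩) (Set.toFinite _))) (h.trans (Nat.mul_le_mul_left _
      (Set.ncard_le_ncard (fun w hw => hw.2) (Set.toFinite _))))
  obtain ⟨a', ⟨n, hn, hna⟩, h2⟩ := loc_meet hP htr hc ha
  obtain ⟨g, -, g2, rfl⟩ := witt1 hP le_top h2 ha (by
    obtain ⟨k, hk⟩ := htr a' a
    exact ⟨k, mem_top k, hk⟩)
  have hPg := H8.mem_normalizer_iff_conj_smul_eq.1 g2
  have h3 : st P (g • c) = MulAut.conj g • st P c := by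
    ext y
    rw [H8.mem_conj_smul, mem_st, mem_st, smul_fix_iff, (mem_normalizer_iff''.1 g2 y)]
  refine ⟨_, ⟨g • c, ?_, rfl⟩, g * n * g⁻¹, ?_, ?_⟩
  · apply Nat.eq_of_mul_eq_mul_right (Nat.card_pos (α := st P c))
    rw [← hc, card_orb, ← H8.card_conj_smul (st P c) g, ← h3, card_orb]
  · rw [h3, H8.normalizer_conj_smul]
    exact H8.conj_mem_conj_smul.2 hn
  · rw [mul_smul, inv_smul_smul, mul_smul, hna]

theorem count_orbits (P : Subgroup G) (k : ℕ)
    (h : ∀ w, w ∉ Fx (P : Set G) W → k ≤ (orb P w).ncard) :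
    k * Nat.card (MulAction.orbitRel.Quotient P W) ≤
      k * (Fx (P : Set G) W).ncard + (Fx (P : Set G) W)ᶜ.ncard := by
  classical
  let π : W → MulAction.orbitRel.Quotient P W := Quotient.mk _
  have h1 : Nat.card (MulAction.orbitRel.Quotient P W) ≤
      (π '' Fx (P : Set G) W).ncard + (π '' (Fx (P : Set G) W)ᶜ).ncard := by
    refine le_trans (le_of_eq ?_) (Set.ncard_union_le _ _)
    rw [← Set.image_union, Set.union_compl_self, Set.image_univ,
      (Quotient.mk_surjective).range_eq, Set.ncard_univ]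
  have h2 := Set.ncard_image_le (f := π) (s := Fx (P : Set G) W) (Set.toFinite _)
  have h3 : k * (π '' (Fx (P : Set G) W)ᶜ).ncard ≤ (Fx (P : Set G) W)ᶜ.ncard := by
    have hfin := Set.toFinite (Fx (P : Set G) W)ᶜ
    have := Finset.mul_card_image_le_card (f := π) hfin.toFinset k (by
      intro b hb
      obtain ⟨w, hw, rfl⟩ := Finset.mem_image.1 hb
      rw [Set.Finite.mem_toFinset] at hw
      refine (h w hw).trans ?_
      rw [← Set.ncard_coe_finset]
      refine Set.ncard_le_ncard ?_ (Set.toFinite _)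
      rintro _ ⟨g, hg, rfl⟩
      simp only [Finset.coe_filter, Set.Finite.mem_toFinset, Set.mem_setOf_eq]
      refine ⟨fun h4 => hw ?_, Quotient.sound ⟨⟨g, hg⟩, rfl⟩⟩
      have := h4 g⁻¹ (P.inv_mem hg)
      rw [inv_smul_smul] at this
      rw [this]; exact h4)
    rwa [← Set.ncard_coe_finset, ← Set.ncard_coe_finset, Finset.coe_image,
      Set.Finite.coe_toFinset] at this
  nlinarith

theorem orb_pow {P : Subgroup G} (hP : IsPGroup p P) {w : W} (hw : w ∉ Fx (P : Set G) W) :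
    ∃ j, (orb P w).ncard = p ^ (j + 1) := by
  obtain ⟨k, hk⟩ := hP.exists_card_eq
  obtain ⟨j, -, hj⟩ := (Nat.dvd_prime_pow hp.out).1 (hk ▸ Dvd.intro _ (card_orb P w))
  rcases j with _ | j
  · exfalso
    have h6 : st P w = P := eq_of_le_of_card_ge (st_le _ _) (by
      have := card_orb P w
      rw [hj, pow_zero, one_mul] at this
      exact this.ge)
    exact hw fun y hy => (mem_st.1 (h6.ge hy)).2
  · exact ⟨j, hj⟩

theorem orbit_bound (hp2 : p ≠ 2) {P : Subgroup G} (hP : IsSylowIn p P ⊤)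
    (htr : ∀ a b : W, ∃ g : G, g • a = b) {w : W} (hw : w ∉ Fx (P : Set G) W) :
    (2 * p - 1) * Nat.card (MulAction.orbitRel.Quotient P W) ≤ p * Nat.card W := by
  have hn := Set.ncard_add_ncard_compl (Fx (P : Set G) W) (Set.toFinite _) (Set.toFinite _)
  have h2 := hp.out.two_le
  by_cases h : ∃ c : W, (orb P c).ncard = p
  · obtain ⟨c, hc⟩ := h
    have h1 := praeger hp2 hP htr hc
    have h3 := count_orbits (W := W) P p fun v hv => by
      obtain ⟨j, hj⟩ := orb_pow hP.isPGroup hv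
      rw [hj]; exact Nat.le_self_pow (by omega) p
    rw [← hn]
    obtain ⟨q, rfl⟩ := Nat.exists_eq_add_of_le' hp.out.pos
    rw [show 2 * (q + 1) - 1 = 2 * q + 1 by omega]
    simp only [add_tsub_cancel_right] at h1
    refine Nat.le_of_mul_le_mul_left ?_ (show 0 < q + 1 by omega)
    have a1 := Nat.mul_le_mul_left (2 * q + 1) h3
    have a2 := Nat.mul_le_mul_left q h1
    nlinarith
  · push Not at h
    have h1 := hp_top hP htr hw
    have h3 := count_orbits (W := W) P (p ^ 2) fun v hv => by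
      obtain ⟨j, hj⟩ := orb_pow hP.isPGroup hv
      rw [hj]
      refine Nat.pow_le_pow_right (by omega) ?_
      by_contra h4
      obtain rfl : j = 0 := by omega
      exact h v (by simpa using hj)
    rw [← hn] at h1 ⊢
    obtain ⟨q, rfl⟩ := Nat.exists_eq_add_of_le' hp.out.pos
    rw [show 2 * (q + 1) - 1 = 2 * q + 1 by omega]
    refine Nat.le_of_mul_le_mul_left ?_ (show 0 < (q + 1) ^ 2 by positivity)
    have a1 := Nat.mul_le_mul_left (2 * q + 1) h3
    have a2 := Nat.mul_le_mul_left (q * (q + 1) ^ 2)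
      (show (Fx (P : Set G) W).ncard ≤ (Fx (P : Set G) W)ᶜ.ncard by omega)
    nlinarith [Nat.zero_le (q ^ 2 * (Fx (P : Set G) W)ᶜ.ncard)]

end Cfsg.Agent.H51.FP
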