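import Cfsg.Agent.H78.G40A
import Cfsg.Agent.H51.G40CeA

/-! Project L40G: the piece `Ce2aS` (three coset enumerations that collapse). -/

set_option autoImplicit false
set_option maxRecDepth 100000

namespace Cfsg.Agent.H51.G40Ce2a

open Cfsg.Agent.H44 Cfsg.Agent.H78.G40 Cfsg.Agent.H46.L40

universe u

def y12 : S3 := ⟨!![1, 2, 0; 0, 1, 0; 0, 0, 1], by decide⟩
def y21 : S3 := ⟨!![1, 0, 0; 2, 1, 0; 0, 0, 1], by decide⟩
def y23 : S3 := ⟨!![1, 0, 0; 0, 1, 2; 0, 0, 1], by decide⟩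
def y32 : S3 := ⟨!![1, 0, 0; 0, 1, 0; 0, 2, 1], by decide⟩
def x13 : S3 := ⟨!![1, 0, 1; 0, 1, 0; 0, 0, 1], by decide⟩
def y13 : S3 := ⟨!![1, 0, 2; 0, 1, 0; 0, 0, 1], by decide⟩
def x31 : S3 := ⟨!![1, 0, 0; 0, 1, 0; 1, 0, 1], by decide⟩
def y31 : S3 := ⟨!![1, 0, 0; 0, 1, 0; 2, 0, 1], by decide⟩
def wi : S3 := ⟨!![0, 2, 0; 1, 0, 0; 0, 0, 1], by decide⟩
def ni : S3 := ⟨!![1, 0, 0; 0, 0, 2; 0, 1, 0], by decide⟩

/-- the letters inside `S3` -/
def g0 (i : ℕ) : S3 :=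
  [1, x12, y12, x21, y21, x23, y23, x32, y32, x13, y13, x31, y31, a0, z0, w0, wi, n23, ni].getD i 1

theorem e12 : y12 = x12⁻¹ := eq_inv_of_mul_eq_one_left (by decide +kernel)
theorem e21 : y21 = x21⁻¹ := eq_inv_of_mul_eq_one_left (by decide +kernel)
theorem e23 : y23 = x23⁻¹ := eq_inv_of_mul_eq_one_left (by decide +kernel)
theorem e32 : y32 = x32⁻¹ := eq_inv_of_mul_eq_one_left (by decide +kernel)
theorem e13 : y13 = x13⁻¹ := eq_inv_of_mul_eq_one_left (by decide +kernel)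
theorem e31 : y31 = x31⁻¹ := eq_inv_of_mul_eq_one_left (by decide +kernel)
theorem ew : wi = w0⁻¹ := eq_inv_of_mul_eq_one_left (by decide +kernel)
theorem en : ni = n23⁻¹ := eq_inv_of_mul_eq_one_left (by decide +kernel)
theorem aa : a0 * a0 = 1 := by decide +kernel
theorem zz : z0 * z0 = 1 := by decide +kernel
theorem ai : a0⁻¹ = a0 := inv_eq_of_mul_eq_one_left aa
theorem c12 : a0 * x12 * a0⁻¹ * x12 = 1 := by rw [ai]; decide +kernel
theorem c21 : a0 * x21 * a0⁻¹ * x21 = 1 := by rw [ai]; decide +kernel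
theorem azza : a0 * z0 * z0 * a0 = 1 := by decide +kernel

variable {H : Type u} [Group H]

/-- all the letters -/
def gg (φ : S3 →* H) (s t : H) (i : ℕ) : H :=
  if i ≤ 18 then φ (g0 i) else if i = 19 then s else if i = 20 then s⁻¹ else t

def pureB (r : List ℕ) : Bool := r.all (fun x => decide (x ≤ 18)) && decide (ev g0 r = 1)

theorem pure_ok (φ : S3 →* H) (s t : H) {r : List ℕ} (h : pureB r = true) : ev (gg φ s t) r = 1 := by
  simp only [pureB, Bool.and_eq_true, List.all_eq_true, decide_eq_true_eq] at h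
  have e : ev (gg φ s t) r = ev (fun x => φ (g0 x)) r :=
    ev_congr fun x hx => by rw [gg, if_pos (h.1 x hx)]
  rw [e, ← map_ev, h.2, map_one]

/-- the mixed relators -/
def Rm : List (List ℕ) := [[19, 20], [21, 21], [21, 1, 21, 2], [21, 3, 21, 4], [21, 5, 21, 6],
  [21, 7, 21, 8], [21, 9, 21, 10], [21, 11, 21, 12], [21, 13, 21, 13], [21, 14, 21, 14],
  [21, 15, 21, 16], [21, 17, 21, 18], [19, 19, 14], [19, 21, 20, 14, 21], [19, 13, 20, 14, 13],
  [19, 1, 20, 1], [19, 3, 20, 3], [19, 17, 19, 18, 20, 18]]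

theorem sat_m {φ : S3 →* H} {s t : H} (h : Rl φ s t a0) : Sat (gg φ s t) Rm := by
  have k : ∀ m m' : S3, m * m' = 1 → t * (φ m * (t * φ m')) = 1 := fun m m' e => by
    rw [← mul_assoc, h.tL m, ← mul_assoc, mul_assoc (φ m), h.tt, mul_one, ← map_mul, e, map_one]
  intro r hr
  simp only [Rm, List.mem_cons, List.not_mem_nil, or_false] at hr
  rcases hr with rfl | rfl | rfl | rfl | rfl | rfl | rfl | rfl | rfl | rfl | rfl | rfl | rfl | rfl |
    rfl | rfl | rfl | rfl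
  · change s * (s⁻¹ * 1) = 1
    simp
  · change t * (t * 1) = 1
    rw [mul_one, h.tt]
  · change t * (φ x12 * (t * (φ y12 * 1))) = 1
    rw [mul_one]; exact k _ _ (by rw [e12, mul_inv_cancel])
  · change t * (φ x21 * (t * (φ y21 * 1))) = 1
    rw [mul_one]; exact k _ _ (by rw [e21, mul_inv_cancel])
  · change t * (φ x23 * (t * (φ y23 * 1))) = 1
    rw [mul_one]; exact k _ _ (by rw [e23, mul_inv_cancel])
  · change t * (φ x32 * (t * (φ y32 * 1))) = 1
    rw [mul_one]; exact k _ _ (by rw [e32, mul_inv_cancel])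
  · change t * (φ x13 * (t * (φ y13 * 1))) = 1
    rw [mul_one]; exact k _ _ (by rw [e13, mul_inv_cancel])
  · change t * (φ x31 * (t * (φ y31 * 1))) = 1
    rw [mul_one]; exact k _ _ (by rw [e31, mul_inv_cancel])
  · change t * (φ a0 * (t * (φ a0 * 1))) = 1
    rw [mul_one]; exact k _ _ aa
  · change t * (φ z0 * (t * (φ z0 * 1))) = 1
    rw [mul_one]; exact k _ _ zz
  · change t * (φ w0 * (t * (φ wi * 1))) = 1
    rw [mul_one]; exact k _ _ (by rw [ew, mul_inv_cancel])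
  · change t * (φ n23 * (t * (φ ni * 1))) = 1
    rw [mul_one]; exact k _ _ (by rw [en, mul_inv_cancel])
  · change s * (s * (φ z0 * 1)) = 1
    rw [mul_one, ← mul_assoc, h.ss, ← map_mul, zz, map_one]
  · change s * (t * (s⁻¹ * (φ z0 * (t * 1)))) = 1
    rw [mul_one, ← mul_assoc, ← mul_assoc, h.st, ← mul_assoc, mul_assoc t, ← map_mul, zz, map_one,
      mul_one, h.tt]
  · change s * (φ a0 * (s⁻¹ * (φ z0 * (φ a0 * 1)))) = 1
    rw [mul_one, ← mul_assoc, ← mul_assoc, h.sa, ← mul_assoc, ← map_mul, ← map_mul, azza, map_one]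
  · change s * (φ x12 * (s⁻¹ * (φ x12 * 1))) = 1
    rw [mul_one, ← mul_assoc, ← mul_assoc, h.s12, ← map_mul, c12, map_one]
  · change s * (φ x21 * (s⁻¹ * (φ x21 * 1))) = 1
    rw [mul_one, ← mul_assoc, ← mul_assoc, h.s21, ← map_mul, c21, map_one]
  · change s * (φ n23 * (s * (φ ni * (s⁻¹ * (φ ni * 1))))) = 1
    rw [mul_one, ← mul_assoc, ← mul_assoc, h.br, en, map_inv]
    group

theorem sat_of {φ : S3 →* H} {s t : H} (h : Rl φ s t a0) {R B : List (List ℕ)}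
    (hB : Sat (gg φ s t) B) (hR : ∀ r ∈ R, pureB r = true ∨ r ∈ Rm ∨ r ∈ B) : Sat (gg φ s t) R :=
  fun r hr => (hR r hr).elim (pure_ok φ s t) fun h' => h'.elim (sat_m h r) (hB r)

theorem sub_of {φ : S3 →* H} {s t : H} (h : Rl φ s t a0) {S : List (List ℕ)}
    (hS : ∀ r ∈ S, ∀ x ∈ r, x ≤ 18 ∨ x = 21) :
    ∀ r ∈ S, ev (gg φ s t) r ∈ Subgroup.centralizer ({t} : Set H) := fun r hr =>
  ev_mem fun x hx => by
    rw [Subgroup.mem_centralizer_singleton_iff]
    rcases hS r hr x hx with h1 | rfl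
    · rw [gg, if_pos h1, h.tL]
    · rfl

theorem fin_of {φ : S3 →* H} {s t : H} (h : Rl φ s t a0)
    (hi : IdxLe (Subgroup.centralizer ({t} : Set H)) (gen (gg φ s t) 21) 1) : φ z0 = 1 := by
  have h1 : (Subgroup.centralizer ({t} : Set H)).relIndex (gen (gg φ s t) 21) = 1 := by
    have := hi.1; have := hi.2; omega
  have h2 : s ∈ Subgroup.centralizer ({t} : Set H) :=
    Subgroup.relIndex_eq_one.1 h1 (mem_gen (gg φ s t) (x := 19) (by norm_num) (by norm_num))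
  rw [Subgroup.mem_centralizer_singleton_iff] at h2
  have h3 := h.st
  rw [h2, mul_inv_cancel_right] at h3
  exact (mul_eq_left.1 h3.symm)

theorem wd (φ : S3 →* H) (s t : H) (i j : ℕ) (hi : i ≤ 18) (hj : j ≤ 18) :
    ev (gg φ s t) [15, 17, 19, i, 20, 18, 16, 17, 19, j, 20, 18] =
      φ w0 * (φ n23 * s * φ (g0 i) * (φ n23 * s)⁻¹) * (φ w0)⁻¹ *
        (φ n23 * s * φ (g0 j) * (φ n23 * s)⁻¹) := by
  change φ w0 * (φ n23 * (s * (gg φ s t i * (s⁻¹ * (φ ni * (φ wi * (φ n23 * (s * (gg φ s t j *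
    (s⁻¹ * (φ ni * 1))))))))))) = _
  rw [gg, gg, if_pos hi, if_pos hj, en, ew, map_inv, map_inv]
  group

theorem ce2a : Ce2aS.{u} := by
  intro H _ φ s t h hb
  have u5 : φ n23 * s * φ (g0 5) * (φ n23 * s)⁻¹ = uu φ s := rfl
  have u7 : φ n23 * s * φ (g0 7) * (φ n23 * s)⁻¹ = uv φ s := rfl
  have u6 : φ n23 * s * φ (g0 6) * (φ n23 * s)⁻¹ = (uu φ s)⁻¹ := by
    change φ n23 * s * φ y23 * (φ n23 * s)⁻¹ = _
    rw [e23, map_inv, uu]; group
  have u8 : φ n23 * s * φ (g0 8) * (φ n23 * s)⁻¹ = (uv φ s)⁻¹ := by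
    change φ n23 * s * φ y32 * (φ n23 * s)⁻¹ = _
    rw [e32, map_inv, uv]; group
  rcases hb with ⟨h1, h2⟩ | ⟨h1, h2⟩ | ⟨h1, h2⟩
  · refine fin_of h (G40CeA.C1.idxLe (sat_of h
      (B := [[15, 17, 19, 5, 20, 18, 16, 17, 19, 6, 20, 18], [15, 17, 19, 7, 20, 18, 16, 17, 19, 8, 20, 18]])
      ?_ (by decide +kernel)) (sub_of h (by decide +kernel)))
    refine Sat.cons ?_ (Sat.cons ?_ fun _ hr => absurd hr List.not_mem_nil)
    · rw [wd φ s t 5 6 (by norm_num) (by norm_num), u5, u6, h1, mul_inv_cancel]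
    · rw [wd φ s t 7 8 (by norm_num) (by norm_num), u7, u8, h2, mul_inv_cancel]
  · refine fin_of h (G40CeA.C2.idxLe (sat_of h
      (B := [[15, 17, 19, 5, 20, 18, 16, 17, 19, 7, 20, 18], [15, 17, 19, 7, 20, 18, 16, 17, 19, 5, 20, 18]])
      ?_ (by decide +kernel)) (sub_of h (by decide +kernel)))
    refine Sat.cons ?_ (Sat.cons ?_ fun _ hr => absurd hr List.not_mem_nil)
    · rw [wd φ s t 5 7 (by norm_num) (by norm_num), u5, u7, h1, inv_mul_cancel]
    · rw [wd φ s t 7 5 (by norm_num) (by norm_num), u5, u7, h2, inv_mul_cancel]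
  · refine fin_of h (G40CeA.C3.idxLe (sat_of h
      (B := [[15, 17, 19, 5, 20, 18, 16, 17, 19, 8, 20, 18], [15, 17, 19, 7, 20, 18, 16, 17, 19, 6, 20, 18]])
      ?_ (by decide +kernel)) (sub_of h (by decide +kernel)))
    refine Sat.cons ?_ (Sat.cons ?_ fun _ hr => absurd hr List.not_mem_nil)
    · rw [wd φ s t 5 8 (by norm_num) (by norm_num), u5, u8, h1, mul_inv_cancel]
    · rw [wd φ s t 7 6 (by norm_num) (by norm_num), u7, u6, h2, mul_inv_cancel]

end Cfsg.Agent.H51.G40Ce2a
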