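import Cfsg.Agent.H78.G40B
import Cfsg.Agent.S0111

/-! Project L40G: the piece `Tr1S` (two Thompson transfers in the centraliser of `z`). -/

set_option autoImplicit false
set_option linter.unusedVariables false

namespace Cfsg.Agent.H51.G40Tr1

open Subgroup Cfsg.Agent.H83 Cfsg.Agent.H78.G40 Cfsg.Agent.H46.L40

universe u

section Gen
variable {G : Type*} [Group G]

/-- `M` behaves like a subgroup of index at most two in `H` -/
def I2 (M H : Subgroup G) : Prop := ∀ x ∈ H, ∀ y ∈ H, (x * y ∈ M ↔ (x ∈ M ↔ y ∈ M))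

theorem I2.norm {M H : Subgroup G} (h : I2 M H) (hM : M ≤ H) : H ≤ normalizer (M : Set G) := by
  have k : ∀ g ∈ H, ∀ m ∈ M, g * m * g⁻¹ ∈ M := fun g hg m hm => by
    rw [h _ (H.mul_mem hg (hM hm)) _ (H.inv_mem hg), h _ hg _ (hM hm), inv_mem_iff]
    tauto
  intro g hg
  rw [mem_normalizer_iff]
  intro m
  refine ⟨k g hg m, fun hm => ?_⟩
  have := k g⁻¹ (H.inv_mem hg) _ hm
  rwa [show g⁻¹ * (g * m * g⁻¹) * g⁻¹⁻¹ = m by group] at this

theorem I2.odd {M H : Subgroup G} (h : I2 M H) {x : G} (hx : x ∈ H) (ho : Odd (orderOf x)) : x ∈ M := by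
  obtain ⟨k, hk⟩ := ho
  have e : x = x ^ (k + 1) * x ^ (k + 1) := by
    rw [← pow_add, show k + 1 + (k + 1) = (2 * k + 1) + 1 by ring, ← hk, pow_succ, pow_orderOf_eq_one,
      one_mul]
  rw [e, h _ (H.pow_mem hx _) _ (H.pow_mem hx _)]

theorem card_rel [Finite G] (M T : Subgroup G) :
    Nat.card (T ⊓ M : Subgroup G) * M.relIndex T = Nat.card T := by
  have e : Nat.card (M.subgroupOf T) = Nat.card (T ⊓ M : Subgroup G) := by
    rw [← inf_subgroupOf_left]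
    exact Nat.card_congr (subgroupOfEquivOfLe inf_le_left).toEquiv
  rw [← e]
  exact (M.subgroupOf T).card_mul_index

theorem I2.card [Finite G] {M H T : Subgroup G} (h : I2 M H) (hT : T ≤ H) {a : G} (ha : a ∈ T)
    (aM : a ∉ M) : Nat.card (T ⊓ M : Subgroup G) * 2 = Nat.card T := by
  have : M.relIndex T = 2 := relIndex_eq_two_iff.2 ⟨a, ha, fun b hb => by
    rw [h _ (hT hb) _ (hT ha)]
    by_cases hb' : b ∈ M <;> simp [Xor, hb', aM]⟩
  rw [← this, card_rel]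

theorem transfer [Finite G] {T H U : Subgroup G} (hT : IsSylowIn 2 T H) (hU : U ≤ T)
    (hc : Nat.card U * 2 = Nat.card T) {a : G} (ha : a ∈ T) (aa : a * a = 1)
    (hn : ∀ h ∈ H, h * a * h⁻¹ ∉ U) : ∃ M ≤ H, I2 M H ∧ a ∉ M := by
  have aU : a ∉ U := by simpa using hn 1 H.one_mem
  have a1 : a ≠ 1 := fun h => aU (h ▸ U.one_mem)
  have hi : U.relIndex T = 2 := by
    have := card_rel U T
    rw [inf_of_le_right hU, ← hc] at this
    exact Nat.eq_of_mul_eq_mul_left Nat.card_pos this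
  have hi' : (U.subgroupOf H).relIndex (hT.toSylow : Subgroup H) = 2 := by
    rw [hT.coe_toSylow, relIndex_subgroupOf hT.le, hi]
  have ho : orderOf (⟨a, hT.le ha⟩ : H) = 2 := by
    rw [← orderOf_coe]
    exact orderOf_eq_prime (by rw [pow_two]; exact aa) a1
  rcases Cfsg.Agent.S0111.result hT.toSylow (U.subgroupOf H) (comap_mono hU) hi' ⟨a, hT.le ha⟩ ho ha aU
    with ⟨M, -, hM, aM⟩ | ⟨g, hg⟩
  · have mm : ∀ (x : G) (hx : x ∈ H), x ∈ M.map H.subtype ↔ (⟨x, hx⟩ : H) ∈ M := fun x hx =>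
      mem_map_iff_mem (f := H.subtype) (K := M) (x := ⟨x, hx⟩) Subtype.val_injective
    refine ⟨M.map H.subtype, map_subtype_le _, fun x hx y hy => ?_, fun h => aM ((mm a _).1 h)⟩
    rw [mm x hx, mm y hy, mm _ (H.mul_mem hx hy)]
    exact mul_mem_iff_of_index_two hM (a := ⟨x, hx⟩) (b := ⟨y, hy⟩)
  · exact absurd hg (hn g g.2)

theorem q8_le [Finite G] {A N : Subgroup G} {z k : G} (hc : Nat.card A = 8) (z1 : z ≠ 1)
    (zz : z * z = 1) (kz : k * z = z * k) (kA : k ∈ normalizer (A : Set G))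
    (sa : ∀ y ∈ A, Mz z y ∨ y * y = z) (f : ∀ y ∈ A, Mz z (k * y * k⁻¹ * y⁻¹) → Mz z y)
    (hN : ∀ y ∈ A, k * y * k⁻¹ * y⁻¹ ∈ N) (h0 : ∃ y ∈ A, ¬ Mz z y) : A ≤ N := by
  classical
  have cA : ∀ y ∈ A, k * y * k⁻¹ * y⁻¹ ∈ A := fun y hy =>
    A.mul_mem ((mem_normalizer_iff.1 kA y).1 hy) (A.inv_mem hy)
  obtain ⟨y0, h0, n0⟩ := h0
  have a1 := cA y0 h0
  have b1 := hN y0 h0
  have n1 : ¬ Mz z (k * y0 * k⁻¹ * y0⁻¹) := fun h => n0 (f y0 h0 h)
  generalize k * y0 * k⁻¹ * y0⁻¹ = y1 at a1 b1 n1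
  have s1 : y1 * y1 = z := (sa y1 a1).resolve_left n1
  have a2 := cA y1 a1
  have b2 := hN y1 a1
  have n2 : ¬ Mz z (k * y1 * k⁻¹ * y1⁻¹) := fun h => n1 (f y1 a1 h)
  have d1 : k * y1 * k⁻¹ * y1⁻¹ ≠ y1 := fun h => n1 (Or.inr (by
    have h1 : k * y1 * k⁻¹ = z := by rw [← s1]; exact mul_inv_eq_iff_eq_mul.1 h
    rw [mul_inv_eq_iff_eq_mul, ← kz] at h1
    exact mul_left_cancel h1))
  have d2 : k * y1 * k⁻¹ * y1⁻¹ ≠ y1 * z := fun h => n1 (Or.inl (by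
    have h1 : k * y1 * k⁻¹ = y1 * z * y1 := mul_inv_eq_iff_eq_mul.1 h
    have h2 : y1 * z * y1 = 1 := by
      rw [← zz, ← s1]; group
    rw [h2] at h1
    simpa using h1))
  generalize k * y1 * k⁻¹ * y1⁻¹ = y2 at a2 b2 n2 d1 d2
  simp only [Mz, not_or] at n1 n2
  have e1 : y1 * z ≠ 1 := fun h => n1.2 (by rw [← mul_right_cancel_iff (a := z), h, zz])
  have e2 : y1 * z ≠ z := fun h => n1.1 (by simpa using h)
  have e3 : y1 * z ≠ y1 := fun h => z1 (by simpa using h)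
  have hz : z ∈ A ⊓ N := s1 ▸ mul_mem ⟨a1, b1⟩ ⟨a1, b1⟩
  have h5 : ({1, z, y1, y1 * z, y2} : Finset G).card = 5 := by
    rw [Finset.card_insert_of_notMem, Finset.card_insert_of_notMem, Finset.card_insert_of_notMem,
      Finset.card_insert_of_notMem, Finset.card_singleton]
    · simpa using d2.symm
    · simp only [Finset.mem_insert, Finset.mem_singleton, not_or]
      exact ⟨e3.symm, d1.symm⟩
    · simp only [Finset.mem_insert, Finset.mem_singleton, not_or]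
      exact ⟨Ne.symm n1.2, e2.symm, Ne.symm n2.2⟩
    · simp only [Finset.mem_insert, Finset.mem_singleton, not_or]
      exact ⟨z1.symm, Ne.symm n1.1, e1.symm, Ne.symm n2.1⟩
  have h6 : 5 ≤ Nat.card (A ⊓ N : Subgroup G) := by
    have h7 : ((({1, z, y1, y1 * z, y2} : Finset G) : Set G)) ⊆ (A ⊓ N : Subgroup G) := by
      intro x hx
      simp only [Finset.coe_insert, Finset.coe_singleton, Set.mem_insert_iff,
        Set.mem_singleton_iff] at hx
      rcases hx with rfl | rfl | rfl | rfl | rfl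
      exacts [one_mem _, hz, ⟨a1, b1⟩, mul_mem ⟨a1, b1⟩ hz, ⟨a2, b2⟩]
    have h8 := Set.ncard_le_ncard h7 (Set.toFinite _)
    rwa [Set.ncard_coe_finset, h5] at h8
  have h9 : Nat.card (A ⊓ N : Subgroup G) ∣ 8 := hc ▸ card_dvd_of_le inf_le_left
  have h10 : Nat.card (A ⊓ N : Subgroup G) = 8 := by
    have := Nat.le_of_dvd (by norm_num) h9
    interval_cases h : Nat.card (A ⊓ N : Subgroup G) <;> first | rfl | (exfalso; omega)
  have h11 : A ⊓ N = A := eq_of_le_of_card_ge inf_le_left (by rw [hc, h10])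
  exact h11 ▸ inf_le_right

end Gen

theorem O2_eq {G : Type u} [Group G] (H : Subgroup G) : O2 H = resOf 2 H := by
  rw [resOf_eq, O2]
  simp only [Nat.coprime_two_right]

theorem zaS : r0 * z0 * r0⁻¹ = a0 ∧ r0 * a0 * r0⁻¹ = a0 * z0 ∧ a0 * a0 = 1 ∧ z0 * z0 = 1 ∧
    a0 * z0 = z0 * a0 ∧ z0 ≠ 1 := by
  refine ⟨mul_inv_eq_iff_eq_mul.2 ?_, mul_inv_eq_iff_eq_mul.2 ?_, ?_, ?_, ?_, ?_⟩ <;> decide +kernel

theorem incl {X : Type} [Group X] (e : S3 →* X) (σ : X) (D : D1e X) : Qq e σ D ≤ Uq e σ D ∧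
    Uq e σ D ≤ Tq e σ D ∧ Qa e ≤ Qq e σ D ∧ Qb σ D ≤ Qq e σ D := by
  refine ⟨closure_mono ?_, closure_mono ?_, closure_mono ?_, closure_mono ?_⟩ <;>
  · intro x hx
    simp only [Set.mem_insert_iff, Set.mem_singleton_iff] at hx ⊢
    tauto

theorem tr1 : Tr1S.{u} := by
  intro X _ e σ τ θ D fa fb fc G _ _ S ψ ti zu
  haveI : Finite X := Finite.of_injective ψ ti.inj
  haveI : Fact (Nat.Prime 2) := ⟨Nat.prime_two⟩
  obtain ⟨c1, c2, aa, zz, az, z1⟩ := zaS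
  have hz : ψ (e z0) = S.z := ti.he z0
  have ha : ψ (e a0) = S.a := ti.he a0
  have hR : ∀ x, ψ x ∈ S.R := fun x => ti.rg ▸ ⟨x, rfl⟩
  have hX : ∀ x, ψ x ∈ S.X := fun x => S.fn.le (hR x)
  have ez1 : e z0 ≠ 1 := fun h => z1 (S.inj (by
    have h1 : S.z = 1 := by rw [← hz, h, map_one]
    rw [map_one]; exact h1))
  have ezz : e z0 * e z0 = 1 := by rw [← map_mul, zz, map_one]
  have cd : ∀ A : Subgroup X, Nat.card (A.map ψ) = Nat.card A := fun A =>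
    (Nat.card_congr (A.equivMapOfInjective ψ ti.inj).toEquiv).symm
  have mm : ∀ (A : Subgroup X) x, ψ x ∈ A.map ψ ↔ x ∈ A := fun A x => mem_map_iff_mem ti.inj
  set H : Subgroup G := S.X ⊓ Cz S.z with hH
  have hC : ∀ x, x * e z0 = e z0 * x → ψ x ∈ H := fun x hx =>
    ⟨hX x, mem_centralizer_singleton_iff.2 (by rw [← hz, ← map_mul, hx, map_mul])⟩
  have hTH' : ∀ x ∈ Tq e σ D, ψ x ∈ H := fun x hx => hC x (mem_centralizer_singleton_iff.1 (fb.Tz hx))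
  have hTH : (Tq e σ D).map ψ ≤ H := by
    rintro _ ⟨x, hx, rfl⟩; exact hTH' x hx
  have hT : IsSylowIn 2 ((Tq e σ D).map ψ) H := by
    have h1 := fb.syl.map ψ
    rw [← MonoidHom.range_eq_map, ti.rg] at h1
    exact (S.fn.syl _ h1).mono hTH inf_le_left
  have key : ∀ v y : X, IsConj (e z0) v → ∀ h ∈ S.X, h * ψ v * h⁻¹ = ψ y → IsConj (e z0) y := by
    intro v y hv h hh he
    obtain ⟨c, rfl⟩ := isConj_iff.1 hv
    have e1 : h * ψ c * S.z * (h * ψ c)⁻¹ = ψ y := by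
      rw [← he, ← hz, map_mul, map_mul, map_inv]; group
    obtain ⟨r, hr, e2⟩ := zu (h * ψ c) (S.X.mul_mem hh (hX c)) (by
      change h * ψ c * S.z * (h * ψ c)⁻¹ ∈ S.R
      rw [e1]; exact hR y)
    rw [← ti.rg] at hr
    obtain ⟨ρ, rfl⟩ := hr
    change h * ψ c * S.z * (h * ψ c)⁻¹ = ψ ρ * S.z * (ψ ρ)⁻¹ at e2
    rw [e1, ← hz, ← map_inv, ← map_mul, ← map_mul] at e2
    exact isConj_iff.2 ⟨ρ, (ti.inj e2).symm⟩
  obtain ⟨QU, UT, aQ, bQ⟩ := incl e σ D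
  have QT := QU.trans UT
  have aT : e a0 ∈ Tq e σ D := subset_closure (by simp)
  have sT : D.sw ∈ Tq e σ D := subset_closure (by simp)
  have vT : D.v2 ∈ Tq e σ D := by
    have := (Tq e σ D).mul_mem ((Tq e σ D).mul_mem (QT fb.vs) (inv_mem aT)) (inv_mem sT)
    rwa [mul_inv_cancel_right, mul_inv_cancel_right] at this
  have za : IsConj (e z0) (e a0) := isConj_iff.2 ⟨e r0, by rw [← map_inv, ← map_mul, ← map_mul, c1]⟩
  have zaz : IsConj (e z0) (e a0 * e z0) :=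
    za.trans (isConj_iff.2 ⟨e r0, by rw [← map_inv, ← map_mul, ← map_mul, c2, map_mul]⟩)
  -- the first transfer
  obtain ⟨M1, hM1, i1, aM1⟩ := transfer hT (map_mono UT) (by rw [cd, cd, fb.cu, fb.ct])
    (mem_map_of_mem ψ aT) (by rw [← map_mul, ← map_mul, aa, map_one, map_one]) (by
      rintro h hh ⟨y, hy, he⟩
      refine fb.m1 y hy (key _ y za h hh.1 he.symm) (key _ _ zaz h hh.1 ?_)
      have h1 : h * S.z = S.z * h := mem_centralizer_singleton_iff.1 hh.2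
      rw [map_mul, map_mul, he, hz]
      calc h * (ψ (e a0) * S.z) * h⁻¹ = h * ψ (e a0) * h⁻¹ * (h * S.z) * h⁻¹ := by group
        _ = _ := by rw [h1]; group)
  -- `Q` lies in `O²(H)`
  have hOn : H ≤ normalizer (O2 H : Set G) := by rw [O2_eq]; exact le_norm_resOf H
  have hOH : O2 H ≤ H := by rw [O2_eq]; exact resOf_le H
  have cm : ∀ k : X, k * e z0 = e z0 * k → k ^ 3 = 1 → ∀ y ∈ Tq e σ D,
      k * y * k⁻¹ * y⁻¹ ∈ (O2 H).comap ψ := fun k kz k3 y hy => by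
    have h1 : ψ k ∈ O2 H := subset_closure ⟨hC k kz, Odd.of_dvd_nat (by decide : Odd 3)
      (orderOf_dvd_of_pow_eq_one (by rw [← map_pow, k3, map_one]))⟩
    have h2 := (mem_normalizer_iff.1 (hOn (hTH' y hy)) _).1 (inv_mem h1)
    rw [mem_comap, map_mul, map_mul, map_mul, map_inv, map_inv]
    have h3 := mul_mem h1 h2
    rwa [← mul_assoc, ← mul_assoc] at h3
  have nz : ∀ y : X, ¬ Mz (e z0) (e a0 * y * (e a0)⁻¹ * y⁻¹) → ¬ Mz (e z0) y := fun y hy h => hy (by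
    rcases h with rfl | rfl
    · left; group
    · left; rw [← map_mul, az, map_mul]; group)
  have hQa : Qa e ≤ (O2 H).comap ψ :=
    q8_le fa.ca ez1 ezz fc.k1z fc.k1a fa.sa fc.f1 (fun y hy => cm _ fc.k1z fc.k13 y (QT (aQ hy)))
      (fc.na.imp fun y hy => ⟨hy.1, nz y hy.2⟩)
  have hQb : Qb σ D ≤ (O2 H).comap ψ :=
    q8_le fa.cb ez1 ezz fc.k2z fc.k2b fa.sb fc.f2 (fun y hy => cm _ fc.k2z fc.k23 y (QT (bQ hy)))
      (fc.nb.imp fun y hy => ⟨hy.1, nz y hy.2⟩)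
  have hQO : (Qq e σ D).map ψ ≤ O2 H := by
    rw [map_le_iff_le_comap, Qq, closure_le]
    intro x hx
    simp only [Set.mem_insert_iff, Set.mem_singleton_iff] at hx
    rcases hx with rfl | rfl | rfl | rfl
    · exact hQa (subset_closure (by simp))
    · exact hQa (subset_closure (by simp))
    · exact hQb (subset_closure (by simp))
    · exact hQb (subset_closure (by simp))
  have hO1 : O2 H ≤ M1 := (closure_le _).2 fun x hx => i1.odd hx.1 hx.2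
  obtain ⟨v, vT', vQ, vz, vM⟩ : ∃ v ∈ Tq e σ D, v ∉ Qq e σ D ∧ IsConj (e z0) v ∧ ψ v ∈ M1 := by
    by_cases h1 : ψ D.sw ∈ M1
    · exact ⟨_, sT, fb.sQ, fc.zs, h1⟩
    by_cases h2 : ψ D.v2 ∈ M1
    · exact ⟨_, vT, fb.vQ, fc.zv, h2⟩
    exfalso
    have h3 : ψ D.v2 * ψ D.sw ∈ M1 := (i1 _ (hTH' _ vT) _ (hTH' _ sT)).2 (iff_of_false h2 h1)
    have h4 := hO1 (hQO (mem_map_of_mem ψ fb.vs))
    rw [map_mul, map_mul] at h4
    exact aM1 ((mul_mem_cancel_left h3).1 h4)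
  have hT1 := hT.inf_normal hM1 (i1.norm hM1)
  have c64 : Nat.card ((Tq e σ D).map ψ ⊓ M1 : Subgroup G) = 64 := by
    have := i1.card hTH (mem_map_of_mem ψ aT) aM1
    rw [cd, fb.ct] at this
    omega
  have hQ1 : (Qq e σ D).map ψ ≤ (Tq e σ D).map ψ ⊓ M1 := le_inf (map_mono QT) (hQO.trans hO1)
  have vv : ψ v * ψ v = 1 := by
    obtain ⟨c, rfl⟩ := isConj_iff.1 vz
    rw [← map_mul, show c * e z0 * c⁻¹ * (c * e z0 * c⁻¹) = c * (e z0 * e z0) * c⁻¹ by group, ezz]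
    simp
  -- the second transfer
  obtain ⟨M2, hM2, i2, vM2⟩ := transfer hT1 hQ1 (by rw [cd, c64, fa.cq]) ⟨mem_map_of_mem ψ vT', vM⟩ vv (by
    rintro h hh ⟨y, hy, he⟩
    have h0 := hM1 hh
    have h1 : h * S.z = S.z * h := mem_centralizer_singleton_iff.1 h0.2
    rw [fa.m2 y hy (key _ y vz h h0.1 he.symm), hz, eq_mul_inv_iff_mul_eq, ← h1, mul_left_cancel_iff,
      ← hz] at he
    exact vQ (ti.inj he ▸ aQ fa.za))
  have hO2 : O2 H ≤ M2 := (closure_le _).2 fun x hx => i2.odd (i1.odd hx.1 hx.2) hx.2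
  have c32 : Nat.card (((Tq e σ D).map ψ ⊓ M1) ⊓ M2 : Subgroup G) = 32 := by
    have := i2.card (T := (Tq e σ D).map ψ ⊓ M1) inf_le_right ⟨mem_map_of_mem ψ vT', vM⟩ vM2
    omega
  have hE : (Qq e σ D).map ψ = (Tq e σ D).map ψ ⊓ O2 H := by
    refine eq_of_le_of_card_ge (le_inf (map_mono QT) hQO) ?_
    rw [cd, fa.cq, ← c32]
    exact card_le_of_le (le_inf (inf_le_inf_left _ hO1) (inf_le_right.trans hO2))
  refine ⟨hE ▸ hT.inf_normal hOH hOn, fun h => aM1 (ha ▸ hO1 h), ?_⟩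
  rw [O2_eq]
  exact hT.resOf_sup.ge

end Cfsg.Agent.H51.G40Tr1
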