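import Mathlib
import Cfsg.Agent.H73.GagDefs
import Cfsg.Agent.H61.NoIndexTwo
import Cfsg.Agent.H52.FStar
import Cfsg.Agent.H11.GroupUtil
import Cfsg.Agent.S4068

/-! Project GAG: the piece `CompStmt`. -/

set_option autoImplicit false
set_option linter.unusedSectionVars false

namespace Cfsg.Agent.H51.GagC

open Cfsg Subgroup Cfsg.Agent.H73.Gag
open scoped commutatorElement

universe u

variable {G : Type*} [Group G] [Finite G]

theorem exists_perfect (h : ¬ Group.IsSolvable G) : ∃ K : Subgroup G, ⁅K, K⁆ = K ∧ K ≠ ⊥ := by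
  obtain ⟨K, ⟨n, rfl⟩, hm⟩ := Set.Finite.exists_minimal
    (Set.toFinite {K : Subgroup G | ∃ n, derivedSeries G n = K}) ⟨⊤, 0, rfl⟩
  exact ⟨_, le_antisymm (commutator_le_left _ _)
    (hm ⟨n + 1, rfl⟩ (commutator_le_left _ _)), fun e => h ⟨n, e⟩⟩

theorem le_cent {J V : Subgroup G} [V.Normal] (hJ : ⁅J, J⁆ = J)
    (hs : Group.IsSolvable (MulAut V)) : ⁅J, V⁆ = ⊥ := by
  let f : G →* MulAut V := MulAut.conjNormal
  have h1 : ⁅J.map f, J.map f⁆ = J.map f := by rw [← map_commutator, hJ]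
  have h2 := H52.eq_bot_of_perfect_of_isSolvable h1 inferInstance
  refine H52.commutator_eq_bot_iff_forall.2 fun j hj v hv => ?_
  have h3 : f j = 1 := by rw [← mem_bot, ← h2]; exact ⟨_, hj, rfl⟩
  have h4 : j * v * j⁻¹ = v := congrArg Subtype.val (DFunLike.congr_fun h3 (⟨v, hv⟩ : V))
  rw [← mul_inv_eq_iff_eq_mul, h4]

theorem solv_aut {Q : Type*} [Group Q] [Finite Q] (h2 : IsPGroup 2 Q)
    (h : IsCyclic Q ∨ ∃ n : ℕ, Nonempty (Q ≃* QuaternionGroup (2 ^ n))) :
    Group.IsSolvable (MulAut Q) := by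
  haveI : Fact (Nat.Prime 2) := ⟨Nat.prime_two⟩
  rcases H61.aut_of_cyclic_or_quaternion h2 h with h | ⟨-, ⟨e⟩⟩
  · haveI := h.isNilpotent
    infer_instance
  · refine S0144.result 2 3 3 1 Nat.prime_two Nat.prime_three ?_
    rw [Nat.card_congr e.toEquiv, Nat.card_perm, Nat.card_eq_fintype_card, Fintype.card_fin]
    rfl

theorem solv_aut_cyc {Q : Type*} [Group Q] [Finite Q] (h : IsCyclic Q) :
    Group.IsSolvable (MulAut Q) := by
  letI : CommGroup (MulAut Q) := (IsCyclic.mulAutMulEquiv Q).toMonoidHom.commGroupOfInjective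
    (IsCyclic.mulAutMulEquiv Q).injective
  exact isSolvable_of_comm fun a b => mul_comm a b

theorem exists_component {p : ℕ} (k : K0 p G) (hc : pCore p G = ⊥) (ns : ¬ Group.IsSolvable G) :
    ∃ L : Subgroup G, IsComponent L := by
  by_contra hL
  obtain ⟨K, hK, K0⟩ := exists_perfect ns
  have h1 : centralizer (fittingSubgroup G : Set G) ≤ fittingSubgroup G :=
    H52.centralizer_fitting_le_iff.2 (H52.layer_eq_bot_iff.2 fun L h => hL ⟨L, h⟩)
  have h2 : K ≤ centralizer (fittingSubgroup G : Set G) := by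
    rw [le_centralizer_iff, H52.fitting_eq_iSup_pCore]
    refine iSup_le fun ⟨q, hq⟩ => ?_
    haveI := Fact.mk hq
    haveI := pCore_normal q G
    by_cases e : q = p
    · subst e
      rw [hc]; exact bot_le
    refine H52.commutator_eq_bot_iff_le_centralizer'.1 (le_cent hK ?_)
    by_cases e2 : q = 2
    · subst e2
      exact solv_aut H52.pCore_isPGroup (k.two (Ne.symm e) _ H52.pCore_isPGroup)
    · exact solv_aut_cyc (k.cyc q hq e e2 _ H52.pCore_isPGroup)
  haveI := H52.fitting_isNilpotent (G := G)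
  exact K0 (H52.eq_bot_of_perfect_of_isSolvable hK
    (solvable_of_solvable_injective (inclusion_injective (h2.trans h1))))

theorem exists_elt {L : Type*} [Group L] [Finite L] (h : IsQuasisimple L) (p : ℕ) :
    ∃ r : ℕ, r.Prime ∧ r ≠ p ∧ r ≠ 2 ∧ ∃ x : L, x ∉ center L ∧ ∃ k : ℕ, x ^ r ^ k = 1 := by
  have ns : ¬ Group.IsSolvable (L ⧸ center L) := fun s => by
    haveI := h.2
    exact H52.IsQuasisimple.not_isMulCommutative_quotient h
      ⟨⟨IsSimpleGroup.comm_iff_isSolvable.2 s⟩⟩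
  obtain ⟨r, hr, r1, r2, d⟩ : ∃ r : ℕ, r.Prime ∧ r ≠ p ∧ r ≠ 2 ∧ r ∣ Nat.card (L ⧸ center L) := by
    obtain ⟨a, b, c, ha, hb, hc, ab, ac, bc, da, db, dc⟩ := S4068.three_primes ns
    by_cases h1 : a ≠ p ∧ a ≠ 2
    · exact ⟨a, ha, h1.1, h1.2, da⟩
    by_cases h2 : b ≠ p ∧ b ≠ 2
    · exact ⟨b, hb, h2.1, h2.2, db⟩
    exact ⟨c, hc, by omega, by omega, dc⟩
  refine ⟨r, hr, r1, r2, ?_⟩
  haveI := Fact.mk hr
  obtain ⟨P⟩ : Nonempty (Sylow r L) := inferInstance
  by_contra hx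
  push Not at hx
  have le : (P : Subgroup L) ≤ center L := fun x hx' => by
    by_contra hc
    obtain ⟨k, hk⟩ := P.isPGroup' ⟨x, hx'⟩
    exact hx x hc k (by simpa using congrArg Subtype.val hk)
  exact P.not_dvd_index (d.trans (index_dvd_of_le le))

theorem normal_of_component {p : ℕ} (k : K0 p G) {L : Subgroup G} (hL : IsComponent L) :
    L.Normal := by
  refine normalizer_eq_top_iff.1 (top_le_iff.1 fun g _ => ?_)
  refine (H52.IsComponent.mem_normalizer_or_commutator_conj_eq_bot hL g).resolve_right fun h => ?_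
  obtain ⟨r, hr, r1, r2, ⟨x, xL⟩, xc, n, hn⟩ := exists_elt (H52.IsComponent.isQuasisimple hL) p
  haveI := Fact.mk hr
  have hn' : x ^ r ^ n = 1 := by simpa using congrArg Subtype.val hn
  have cm := H52.commutator_eq_bot_iff_forall.1 h
  have yL : g * x * g⁻¹ ∈ L.map (MulAut.conj g).toMonoidHom := ⟨x, xL, rfl⟩
  have pz : ∀ y : G, y ^ r ^ n = 1 → IsPGroup r (zpowers y) := fun y hy => by
    rintro ⟨_, m, rfl⟩
    exact ⟨n, Subtype.ext (by
      show (y ^ m) ^ r ^ n = 1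
      rw [← zpow_natCast, ← zpow_mul, mul_comm, zpow_mul, zpow_natCast, hy, one_zpow])⟩
  have c : ⁅zpowers x, zpowers (g * x * g⁻¹)⁆ = ⊥ :=
    H52.commutator_eq_bot_mono h (zpowers_le.2 xL) (zpowers_le.2 yL)
  have pR : IsPGroup r ↥(zpowers x ⊔ zpowers (g * x * g⁻¹)) :=
    (pz x hn').to_sup_of_normal_right' (pz _ (by rw [conj_pow, hn', mul_one, mul_inv_cancel]))
      (H52.le_normalizer_of_commutator_eq_bot c)
  haveI := k.cyc r hr r1 r2 _ pR
  have m : x ∈ zpowers (g * x * g⁻¹) := H11.mem_zpowers_of_orderOf_dvd _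
    (mem_sup_left (mem_zpowers x)) (mem_sup_right (mem_zpowers _))
    (by rw [show g * x * g⁻¹ = MulAut.conj g x from rfl, MulEquiv.orderOf_eq])
  exact xc (mem_center_iff.2 fun l => Subtype.ext (cm l l.2 x (zpowers_le.2 yL m)))

theorem comp : CompStmt.{u} := by
  intro p n H V _ _ _ h
  haveI := h.finite
  obtain ⟨L, hL⟩ := exists_component h.k0 h.core h.ns
  exact ⟨L, normal_of_component h.k0 hL, H52.IsComponent.isQuasisimple hL⟩

end Cfsg.Agent.H51.GagC
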