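import Mathlib
import Cfsg.Agent.H18.RootQS
import Cfsg.Agent.H67.Conj
import Cfsg.Agent.H93.GT

/-! Root involutions: the order bound in the rank two case with `#E(d) = 2`. -/

set_option autoImplicit false
set_option linter.unusedSectionVars false

namespace Cfsg.Agent.H51.RQ

open Cfsg Subgroup Cfsg.Agent.H36 Cfsg.Agent.H18RI Cfsg.Agent.H63 Cfsg.Agent.H67
open scoped commutatorElement

universe u

variable {G : Type u} [Group G] [Finite G]

/-- commutators of `M` lie in the central subgroup `{1, f}` -/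
structure Cl (M : Subgroup G) (f : G) : Prop where
  ff : f * f = 1
  f1 : f ≠ 1
  fc : ∀ m ∈ M, m * f = f * m
  cm : ∀ a ∈ M, ∀ b ∈ M, a * b = b * a ∨ a * b = b * a * f

open Classical in
/-- the commutator as an element of `ZMod 2` -/
noncomputable def sg (a b : G) : ZMod 2 := if a * b = b * a then 0 else 1

theorem sg_eq_zero {a b : G} : sg a b = 0 ↔ a * b = b * a := by
  unfold sg
  split_ifs with h <;> simp [h]

theorem sg_eq_one {a b : G} (h : a * b ≠ b * a) : sg a b = 1 := if_neg h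

/-- the sign character -/
def ez (c : ZMod 2) : ℤ := if c = 0 then 1 else -1

theorem ez_add : ∀ c d, ez (c + d) = ez c * ez d := by decide

theorem ez_inj : ∀ c d, ez c = ez d → c + d = 0 := by decide

namespace Cl

variable {M : Subgroup G} {f : G} (h : Cl M f)
include h

theorem sg_mul {a a' b : G} (ha : a ∈ M) (ha' : a' ∈ M) (hb : b ∈ M) :
    sg (a * a') b = sg a b + sg a' b := by
  have n : ∀ x : G, x * f ≠ x := fun x e => h.f1 (mul_eq_left.1 e)
  by_cases e : a * b = b * a <;> by_cases e' : a' * b = b * a'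
  · rw [sg_eq_zero.2 e, sg_eq_zero.2 e', sg_eq_zero.2 (Commute.mul_left e e').eq, add_zero]
  · rw [sg_eq_zero.2 e, sg_eq_one e', zero_add, sg_eq_one]
    rw [mul_assoc, (h.cm _ ha' _ hb).resolve_left e', ← mul_assoc, ← mul_assoc, e, mul_assoc b]
    exact n _
  · rw [sg_eq_zero.2 e', sg_eq_one e, add_zero, sg_eq_one]
    rw [mul_assoc, e', ← mul_assoc, (h.cm _ ha _ hb).resolve_left e, mul_assoc, ← h.fc _ ha',
      ← mul_assoc, mul_assoc b]
    exact n _
  · rw [sg_eq_one e, sg_eq_one e', show (1 : ZMod 2) + 1 = 0 by decide, sg_eq_zero, mul_assoc,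
      (h.cm _ ha' _ hb).resolve_left e', ← mul_assoc, ← mul_assoc, (h.cm _ ha _ hb).resolve_left e,
      mul_assoc _ f, ← h.fc _ ha', ← mul_assoc, mul_assoc _ f, h.ff, mul_one, mul_assoc]

theorem dual {B : Subgroup G} (hB : B ≤ M) : (C[M]).relIndex B ≤ (C[B]).relIndex M := by
  classical
  let ε : ZMod 2 → ℚ := fun c => (ez c : ℤ)
  have em : ∀ c d, ε (c + d) = ε c * ε d := fun c d => by
    simp only [ε]; rw [ez_add, Int.cast_mul]
  have ei : ∀ c d, ε c = ε d → c + d = 0 := fun c d e => ez_inj c d (Int.cast_injective e)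
  have sym : ∀ a b : G, sg a b = sg b a := fun a b => by simp only [sg, eq_comm]
  let χ : B → (M →* ℚ) := fun b =>
    { toFun := fun w => ε (sg (w : G) b)
      map_one' := by simp [ε, ez, sg]
      map_mul' := fun w w' => by rw [coe_mul, h.sg_mul w.2 w'.2 (hB b.2), em] }
  let F : B ⧸ C[M].subgroupOf B → (M →* ℚ) := fun q => χ q.out
  have hF : Function.Injective F := fun q q' e => by
    rw [← q.out_eq', ← q'.out_eq', QuotientGroup.eq]
    intro w hw
    have e1 := ei _ _ (DFunLike.congr_fun e ⟨w, hw⟩)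
    have e2 : sg (q.out : G)⁻¹ w = sg w (q.out : G) := by
      simp only [sg]
      exact if_congr ⟨fun k => (Commute.inv_left_iff.1 k).eq.symm,
        fun k => (Commute.inv_left_iff.2 k.symm).eq⟩ rfl rfl
    refine (sg_eq_zero.1 ?_).symm
    show sg ((q.out : G)⁻¹ * q'.out) w = 0
    rw [h.sg_mul (inv_mem (hB q.out.2)) (hB q'.out.2) hw, e2, sym _ w]
    exact e1
  have li := (linearIndependent_monoidHom M ℚ).comp F hF
  let φ : (B ⧸ C[M].subgroupOf B) → (M ⧸ C[B].subgroupOf M) → ℚ := fun q x => F q x.out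
  have li2 : LinearIndependent ℚ φ := by
    refine LinearIndependent.of_comp
      (LinearMap.funLeft ℚ ℚ (QuotientGroup.mk (s := C[B].subgroupOf M))) ?_
    suffices e : ⇑(LinearMap.funLeft ℚ ℚ (QuotientGroup.mk (s := C[B].subgroupOf M))) ∘ φ =
        (fun f : M →* ℚ => (f : M → ℚ)) ∘ F by rw [e]; exact li
    funext q
    funext w
    obtain ⟨c, hc⟩ := QuotientGroup.mk_out_eq_mul (C[B].subgroupOf M) w
    show ε (sg (((QuotientGroup.mk w : M ⧸ C[B].subgroupOf M).out : M) : G) (q.out : G)) =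
      ε (sg (w : G) (q.out : G))
    have c1 : sg ((c : M) : G) (q.out : G) = 0 := sg_eq_zero.2 (c.2 _ q.out.2).symm
    rw [hc, coe_mul, h.sg_mul w.2 (c : M).2 (hB q.out.2), c1, add_zero]
  haveI := Fintype.ofFinite (B ⧸ C[M].subgroupOf B)
  haveI := Fintype.ofFinite (M ⧸ C[B].subgroupOf M)
  have := li2.fintype_card_le_finrank
  rw [Module.finrank_fintype_fun_eq_card, ← Nat.card_eq_fintype_card, ← Nat.card_eq_fintype_card]
    at this
  exact this

theorem lower {R : Finset G} (hR : ∀ r ∈ R, r ∈ M) {a : G} (ha : a ∈ M)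
    (h1 : ∀ r ∈ R, a * r ≠ r * a) (h2 : ∀ r ∈ R, ∀ s ∈ R, r ≠ s → r * s ≠ s * r) :
    2 ^ R.card ≤ (C[M]).relIndex M := by
  classical
  let θ : M →* Multiplicative (R → ZMod 2) :=
    { toFun := fun m => Multiplicative.ofAdd fun r => sg (m : G) r
      map_one' := by
        refine congrArg Multiplicative.ofAdd (funext fun r => sg_eq_zero.2 ?_)
        simp
      map_mul' := fun m m' =>
        congrArg Multiplicative.ofAdd (funext fun r => h.sg_mul m.2 m'.2 (hR r r.2)) }
  have hs : θ.range = ⊤ := by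
    refine top_le_iff.1 fun v _ => ?_
    rw [← ofAdd_toAdd v, ← Finset.univ_sum_single v.toAdd, ofAdd_sum]
    refine prod_mem fun i _ => ?_
    rcases (show ∀ c : ZMod 2, c = 0 ∨ c = 1 by decide) (v.toAdd i) with e | e <;> rw [e]
    · rw [Pi.single_zero]; exact one_mem _
    · refine ⟨⟨a * i, mul_mem ha (hR i i.2)⟩, congrArg Multiplicative.ofAdd (funext fun r => ?_)⟩
      show sg (a * i) r = _
      rw [h.sg_mul ha (hR i i.2) (hR r r.2), sg_eq_one (h1 r r.2)]
      by_cases e : r = i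
      · rw [e, sg_eq_zero.2 rfl, Pi.single_eq_same, add_zero]
      · rw [sg_eq_one (h2 i i.2 r r.2 fun k => e (Subtype.ext k.symm)), Pi.single_eq_of_ne e]
        decide
  have hk : (C[M]).subgroupOf M ≤ θ.ker := fun m hm =>
    congrArg Multiplicative.ofAdd (funext fun r => sg_eq_zero.2 (hm r (hR r r.2)).symm)
  have := Nat.le_of_dvd (Nat.pos_of_ne_zero FiniteIndex.index_ne_zero) (index_dvd_of_le hk)
  rw [index_ker, hs, card_top] at this
  simpa [relIndex] using this

theorem upper {R : Finset G} (hR : ∀ r ∈ R, r ∈ M ∧ r * r = 1) (hf : f ∈ M) :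
    Nat.card ↥(zpowers f ⊔ closure (R : Set G)) ≤ 2 ^ (R.card + 1) := by
  classical
  have z2 : ∀ r : G, r * r = 1 → Nat.card (zpowers r) ≤ 2 := fun r hr => by
    rw [Nat.card_zpowers]
    exact Nat.le_of_dvd two_pos (orderOf_dvd_of_pow_eq_one (by rwa [pow_two]))
  induction R using Finset.induction_on with
  | empty => simpa using z2 f h.ff
  | insert a s ha ih =>
    have ih := ih fun r hr => hR r (Finset.mem_insert_of_mem hr)
    have aM := hR a (Finset.mem_insert_self a s)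
    have le : zpowers f ⊔ closure (s : Set G) ≤ M := sup_le (zpowers_le.2 hf)
      ((closure_le _).2 fun r hr => (hR r (Finset.mem_insert_of_mem hr)).1)
    have n : zpowers a ≤ N[zpowers f ⊔ closure (s : Set G)] :=
      zpowers_le.2 (mem_normalizer_fintype fun y hy => by
        rcases h.cm a aM.1 y (le hy) with e | e
        · rwa [e, mul_inv_cancel_right]
        · rw [e, mul_assoc y, h.fc a aM.1, ← mul_assoc, mul_inv_cancel_right]
          exact mul_mem hy (mem_sup_left (mem_zpowers f)))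
    have e := card_sup_mul_card_inf n
    rw [Finset.coe_insert, Set.insert_eq, Subgroup.closure_union, ← zpowers_eq_closure, sup_left_comm,
      Finset.card_insert_of_notMem ha, pow_succ']
    exact ((Nat.le_mul_of_pos_right _ Nat.card_pos).trans e.le).trans
      (Nat.mul_le_mul (z2 a aM.2) ih)

end Cl

theorem arith {t : ℕ} (h : 2 ^ t ≤ (2 * t) ^ 2) : t ≤ 8 := by
  by_contra h9
  obtain ⟨k, rfl⟩ : ∃ k, t = k + 9 := ⟨t - 9, by omega⟩
  refine absurd h (not_le.2 ?_)
  clear h h9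
  induction k with
  | zero => norm_num
  | succ k ih =>
    rw [show k + 1 + 9 = k + 9 + 1 by ring, pow_succ 2]
    nlinarith [Nat.zero_le k]

variable {D : Set G}

/-- the members of `D` commuting with `e` -/
def Cm (D : Set G) (e : G) : Set G := {y | y ∈ D ∧ y * e = e * y}

theorem ncard_Cm (hD : RI D) (h1 : OneClass D) {d e : G} (hd : d ∈ D) (he : e ∈ D) :
    (Cm D e).ncard ≤ (Cm D d).ncard := by
  obtain ⟨g, hg, rfl⟩ := h1 e he d hd
  exact Set.ncard_le_ncard_of_injOn (fun y => g * y * g⁻¹)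
    (fun y hy => ⟨hD.conj_mem hg hy.1, comm_conj' hy.2 g⟩)
    (fun a _ b _ e => by simpa using e)

theorem q2 : Q2Stmt.{u} := by
  classical
  intro G _ _ D h h4 hE f hf
  have hD := h.ri
  have hW : ∀ y, y ∈ WW D f ↔ y ∈ Cm D f := fun y => ⟨fun hy => ⟨hy.1, hy.2.1⟩, fun hy => by
    by_cases e : f = y
    · exact e ▸ WW.self hD hf
    · exact WW.of_col hD hf hy.1 (h.col f hf y hy.1 hy.2.symm e)⟩
  have eg : ∀ d ∈ D, ∀ e ∈ Eg D d, e = 1 ∨ e = d := fun d hd e he => he.imp_right (hE d hd e)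
  have ne : ∀ a ∈ D, ∀ b ∈ D, b ≠ a → AA D b ≠ AA D a := fun a ha b hb n e => n (hE a ha b ⟨hb, e⟩)
  have cl : Cl (MM D f) f := ⟨hD.sq hf, hD.ne_one hf, fun m hm => MM.comm hm, fun a ha b hb => by
    obtain ⟨e, he, k⟩ := h.toCtx.conj_MM hf hb ha
    rw [mul_inv_eq_iff_eq_mul] at k
    rcases eg f hf e he with rfl | rfl
    · exact Or.inl (by rwa [mul_one] at k)
    · exact Or.inr (by rw [k, mul_assoc, ← MM.comm ha, mul_assoc])⟩
  have WM : ∀ y ∈ Cm D f, y ∈ MM D f := fun y hy => subset_closure ((hW y).2 hy)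
  have fC : f ∈ Cm D f := ⟨hf, rfl⟩
  have fM := WM f fC
  obtain ⟨R, ⟨R1, R2⟩, hm⟩ := Set.Finite.exists_maximal (Set.toFinite {R : Finset G |
    (∀ r ∈ R, r ∈ Cm D f ∧ r ≠ f) ∧ ∀ r ∈ R, ∀ s ∈ R, r ≠ s → r * s ≠ s * r}) ⟨∅, by simp⟩
  have cov : ∀ y ∈ Cm D f, y = f ∨ ∃ r ∈ R, y = r ∨ y = f * r := fun y hy => by
    by_contra k
    push Not at k
    have nc : ∀ r ∈ R, y * r ≠ r * y := fun r hr e0 => by
      obtain ⟨a, ha, b, hb, e⟩ := h.pp f hf r (R1 r hr).1.1 (R1 r hr).1.2.symm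
        (ne f hf r (R1 r hr).1.1 (R1 r hr).2) y hy.1 hy.2 e0
      rcases eg f hf a ha with e1 | e1 <;> rcases eg r (R1 r hr).1.1 b hb with e2 | e2 <;>
        rw [e1, e2] at e
      · exact hD.ne_one hy.1 (by rw [e, mul_one])
      · exact (k.2 _ hr).1 (by rw [e, one_mul])
      · exact k.1 (by rw [e, mul_one])
      · exact (k.2 _ hr).2 e
    have := hm (y := insert y R) ⟨fun r hr => ?_, fun r hr s hs n => ?_⟩ (Finset.subset_insert y R)
      (Finset.mem_insert_self y R)
    · exact nc y this rfl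
    · rcases Finset.mem_insert.1 hr with rfl | hr
      exacts [⟨hy, k.1⟩, R1 r hr]
    · rcases Finset.mem_insert.1 hr with e1 | e1 <;> rcases Finset.mem_insert.1 hs with e2 | e2
      exacts [absurd (e1.trans e2.symm) n, e1 ▸ nc s e2, e2 ▸ (nc r e1).symm, R2 r e1 s e2 n]
  have up : Nat.card (MM D f) ≤ 2 ^ (R.card + 1) := by
    refine (card_le_of_le ((closure_le _).2 fun y hy => ?_)).trans
      (cl.upper (fun r hr => ⟨WM r (R1 r hr).1, hD.sq (R1 r hr).1.1⟩) fM)
    rcases cov y ((hW y).1 hy) with rfl | ⟨r, hr, rfl | rfl⟩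
    · exact mem_sup_left (mem_zpowers _)
    · exact mem_sup_right (subset_closure hr)
    · exact mul_mem (mem_sup_left (mem_zpowers _)) (mem_sup_right (subset_closure hr))
  have nW : (Cm D f).ncard ≤ 2 * R.card + 1 := by
    refine (Set.ncard_le_ncard (t := insert f ((R : Set G) ∪ (fun r => f * r) '' R)) fun y hy => ?_).trans
      ((Set.ncard_insert_le _ _).trans (Nat.succ_le_succ ((Set.ncard_union_le _ _).trans ?_)))
    · rcases cov y hy with rfl | ⟨r, hr, rfl | rfl⟩
      exacts [Or.inl rfl, Or.inr (Or.inl hr), Or.inr (Or.inr ⟨r, hr, rfl⟩)]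
    · have := Set.ncard_image_le (s := (R : Set G)) (f := fun r => f * r)
      rw [Set.ncard_coe_finset] at this ⊢
      omega
  rcases R.eq_empty_or_nonempty with rfl | ⟨a, ha⟩
  · exact up.trans (by norm_num)
  have low := cl.lower (R := R.erase a) (fun r hr => WM r (R1 r (Finset.mem_of_mem_erase hr)).1)
    (WM a (R1 a ha).1) (fun r hr => R2 a ha r (Finset.mem_of_mem_erase hr) (Finset.ne_of_mem_erase hr).symm)
    fun r hr s hs => R2 r (Finset.mem_of_mem_erase hr) s (Finset.mem_of_mem_erase hs)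
  obtain ⟨t, ht⟩ : ∃ t, R.card = t + 1 := ⟨R.card - 1, by have := Finset.card_pos.2 ⟨a, ha⟩; omega⟩
  rw [Finset.card_erase_of_mem ha, ht, Nat.add_sub_cancel] at low
  obtain ⟨⟨aD, af⟩, an⟩ := R1 a ha
  have faD := h.col f hf a aD af.symm an.symm
  obtain ⟨x, sx⟩ := exists_sp_of_col hD h.one hf aD faD (ne a aD f hf an.symm)
  have xf := sx.ne hD
  -- the orbit of `x`
  have few : ∀ e ∈ D, e * f = f * e → e ≠ f → (Cm D e \ Cm D f).ncard ≤ 2 * t := fun e he ef en => by
    have h3 : ({f, e, f * e} : Set G) ⊆ Cm D e ∩ Cm D f := by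
      have m := h.col f hf e he ef.symm en.symm
      rintro _ (rfl | rfl | rfl)
      · exact ⟨⟨hf, ef.symm⟩, fC⟩
      · exact ⟨⟨he, rfl⟩, he, ef⟩
      · exact ⟨⟨m, by rw [← mul_assoc, ef]⟩, m, by rw [mul_assoc, ef]⟩
    have c3 : ({f, e, f * e} : Set G).ncard = 3 := Set.ncard_eq_three.2 ⟨_, _, _, en.symm,
      fun k => hD.ne_one he (left_eq_mul.1 k), fun k => hD.ne_one hf (right_eq_mul.1 k), rfl⟩
    have h5 := Set.ncard_le_ncard h3
    have h6 := Set.ncard_inter_add_ncard_diff_eq_ncard (Cm D e) (Cm D f)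
    have h7 := ncard_Cm hD h.one hf he
    omega
  have orb : {y : G | ∃ m ∈ MM D f, y = m * x * m⁻¹}.ncard ≤ 4 * t := by
    have f1 := few a aD af an
    have f2 := few (f * a) faD (by rw [mul_assoc, af]) fun k => hD.ne_one aD (mul_eq_left.1 k)
    refine (Set.ncard_le_ncard (t := (Cm D a \ Cm D f) ∪ (Cm D (f * a) \ Cm D f)) ?_).trans
      ((Set.ncard_union_le _ _).trans (by omega))
    rintro _ ⟨m, hm, rfl⟩
    have mD : m * x * m⁻¹ ∈ D := hD.conj_mem (closure_mono (fun y hy => hy.1) hm) sx.hu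
    have nf : m * x * m⁻¹ ∉ Cm D f := fun k => xf (by
      have := comm_conj' k.2 m⁻¹
      rwa [show m⁻¹ * (m * x * m⁻¹) * m⁻¹⁻¹ = x by group, cl.fc _ (inv_mem hm),
        mul_inv_cancel_right] at this)
    have k := comm_conj' sx.uq m
    rcases cl.cm m hm a (WM a ⟨aD, af⟩) with e | e <;> rw [e] at k
    · rw [mul_inv_cancel_right] at k
      exact Or.inl ⟨⟨mD, k⟩, nf⟩
    · rw [mul_assoc a, cl.fc m hm, ← mul_assoc a, mul_inv_cancel_right, af] at k
      exact Or.inr ⟨⟨mD, k⟩, nf⟩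
  set A := MM D f ⊓ C1[x] with hA
  have ab : ∀ u ∈ A, ∀ v ∈ A, u * v = v * u := fun u hu v hv =>
    (cl.cm u hu.1 v hv.1).resolve_right fun e => xf (by
      have e' : f = (v * u)⁻¹ * (u * v) := by rw [e]; group
      have : f ∈ C1[x] := e' ▸ mul_mem (inv_mem (mul_mem hv.2 hu.2)) (mul_mem hu.2 hv.2)
      exact (mem_centralizer_singleton_iff.1 this).symm)
  have BM : A ⊔ zpowers f ≤ MM D f := sup_le inf_le_left (zpowers_le.2 fM)
  have fB : ∀ K : Subgroup G, K ≤ MM D f → zpowers f ≤ C[K] := fun K hK =>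
    zpowers_le.2 fun m hm => cl.fc m (hK hm)
  have BB : A ⊔ zpowers f ≤ C[A ⊔ zpowers f] := sup_le
    (le_centralizer_iff.1 (sup_le (fun v hv u hu => ab u hu v hv) (fB _ inf_le_left))) (fB _ BM)
  have i1 : A.relIndex (MM D f) ≤ 4 * t := by
    have e1 := H93.GT.ncard_cls (MM D f) x
    have e2 := card_mul_relIndex (inf_le_left : A ≤ MM D f)
    rw [← e1, mul_comm] at e2
    exact (Nat.eq_of_mul_eq_mul_right Nat.card_pos e2).le.trans orb
  have i2 : (A ⊔ zpowers f).relIndex (MM D f) ≤ 2 * t := by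
    have e1 := relIndex_mul_relIndex A _ _ (le_sup_left (b := zpowers f)) BM
    have e2 : A.relIndex (A ⊔ zpowers f) ≠ 1 := fun k => xf (mem_centralizer_singleton_iff.1
      (relIndex_eq_one.1 k (mem_sup_right (mem_zpowers f))).2).symm
    have e3 : A.relIndex (A ⊔ zpowers f) ≠ 0 := FiniteIndex.index_ne_zero
    have e4 : 2 ≤ A.relIndex (A ⊔ zpowers f) := by omega
    have := Nat.mul_le_mul_right ((A ⊔ zpowers f).relIndex (MM D f)) e4
    omega
  have i3 := (cl.dual BM).trans ((relIndex_le_of_le_left BB FiniteIndex.index_ne_zero).trans i2)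
  have i4 : (C[MM D f]).relIndex (MM D f) ≤ (2 * t) ^ 2 := by
    refine (relIndex_le_of_le_left (inf_le_left : _ ⊓ (A ⊔ zpowers f) ≤ _)
      FiniteIndex.index_ne_zero).trans ?_
    rw [← relIndex_mul_relIndex _ _ _ inf_le_right BM, inf_relIndex_right, pow_two]
    exact Nat.mul_le_mul i3 i2
  have := arith (low.trans i4)
  exact up.trans (Nat.pow_le_pow_right two_pos (by omega))

end Cfsg.Agent.H51.RQ
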