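import Cfsg.Agent.H83.SpKer

/-!
# Doubling the transvections in the odd dimensional linear and unitary cases
-/

set_option autoImplicit false
set_option linter.unusedSectionVars false

namespace Cfsg.Agent.H51.SpC2b

open Cfsg Cfsg.Agent.H63 Cfsg.Agent.H63.SL Cfsg.Agent.H26 Cfsg.Agent.H68.Sp Cfsg.Agent.H29.SpK
open Cfsg.Agent.H78 hiding tv tv_zero
open Cfsg.Agent.H83.SpH Subgroup Module
open Cfsg.Agent.H26.PForm (f_symm_zero mem_perp_span)
open scoped commutatorElement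

universe u v

variable {F V : Type v} [Field F] [AddCommGroup V] [Module F V] {G : Type u} [Group G]
  {P : PForm F V} {φ : P.E →* G} {L : Subgroup G} {k : ℕ} {t : G} {y : V → V → G} {p : V → G}

/-! ### Linear algebra -/

theorem li3_iff {a b c : V} : LinearIndependent F ![a, b, c] ↔
    ∀ x y z : F, x • a + y • b + z • c = 0 → x = 0 ∧ y = 0 ∧ z = 0 := by
  rw [Fintype.linearIndependent_iff]
  constructor
  · intro h x y z e
    have := h ![x, y, z] (by simpa [Fin.sum_univ_three] using e)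
    exact ⟨this 0, this 1, this 2⟩
  · intro h g e i
    have := h (g 0) (g 1) (g 2) (by simpa [Fin.sum_univ_three] using e)
    fin_cases i
    exacts [this.1, this.2.1, this.2.2]

theorem i2_symm {u v : V} (h : I2 P u v) : I2 P v u :=
  ⟨f_symm_zero h.1, LinearIndependent.pair_symm_iff.1 h.2⟩

theorem i2_ne {u v : V} (h : I2 P u v) : v ≠ 0 := fun e => by
  simpa using (LinearIndependent.pair_iff.1 h.2 0 1 (by simp [e])).2

theorem i3_12 {u v w : V} (h : I3 P u v w) : I2 P u v :=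
  ⟨h.1, LinearIndependent.pair_iff.2 fun a b e =>
    let r := li3_iff.1 h.2.2.2 a b 0 (by simpa using e); ⟨r.1, r.2.1⟩⟩

theorem i3_swap12 {u v w : V} (h : I3 P u v w) : I3 P v u w :=
  ⟨f_symm_zero h.1, h.2.2.1, h.2.1, li3_iff.2 fun a b c e =>
    let r := li3_iff.1 h.2.2.2 b a c (by rw [← e]; abel); ⟨r.2.1, r.1, r.2.2⟩⟩

theorem i3_swap23 {u v w : V} (h : I3 P u v w) : I3 P u w v :=
  ⟨h.2.1, h.1, f_symm_zero h.2.2.1, li3_iff.2 fun a b c e =>
    let r := li3_iff.1 h.2.2.2 a c b (by rw [← e]; abel); ⟨r.1, r.2.2, r.2.1⟩⟩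

theorem i3_13 {u v w : V} (h : I3 P u v w) : I2 P u w := i3_12 (i3_swap23 h)

theorem i3_23 {u v w : V} (h : I3 P u v w) : I2 P v w := i3_13 (i3_swap12 h)

theorem i3_of {b u v : V} (huv : I2 P u v) (hu : P.f u b = 0) (hv : P.f v b = 0)
    (hb : ∀ a c : F, b ≠ a • u + c • v) : I3 P b u v := by
  refine ⟨f_symm_zero hu, f_symm_zero hv, huv.1, li3_iff.2 fun x a c e => ?_⟩
  have hx : x = 0 := by
    by_contra hx
    refine hb (-(x⁻¹ * a)) (-(x⁻¹ * c)) ?_
    have : b = x⁻¹ • (x • b) := by rw [smul_smul, inv_mul_cancel₀ hx, one_smul]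
    rw [this, show x • b = -(a • u) - c • v by rw [← sub_eq_zero, ← e]; abel]
    module
  rw [hx, zero_smul, zero_add] at e
  exact ⟨hx, LinearIndependent.pair_iff.1 huv.2 a c e⟩

theorem YW_mono {S S' : Set V} (H : ∀ s ∈ S, s ∈ Submodule.span F S') : YW P φ S' ≤ YW P φ S := by
  rintro _ ⟨e, he, rfl⟩
  refine ⟨e, fun s hs => ?_, rfl⟩
  refine Submodule.span_induction (p := fun x _ => e.1 x = x) (fun x hx => he x hx) (map_zero _)
    (fun a b _ _ ha hb => by rw [map_add, ha, hb]) (fun c a _ ha => by rw [map_smul, ha]) (H s hs)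

theorem cent_mono {S S' : Set V} (H : ∀ s ∈ S, s ∈ Submodule.span F S') {g : G}
    (hg : g ∈ C[YW P φ S]) : g ∈ C[YW P φ S'] := fun x hx => hg x (YW_mono H hx)

theorem cY {S : Set V} {g : G} (hg : g ∈ C[YW P φ S]) {e : P.E} (he : ∀ v ∈ S, e.1 v = v) :
    Commute (φ e) g := hg _ (mem_YW.2 ⟨e, he, rfl⟩)

theorem cm_mul {a b c : G} (h : Commute c a) : ⁅a, b * c⁆ = ⁅a, b⁆ := by
  simp only [commutatorElement_def, mul_inv_rev]
  rw [show a * (b * c) * a⁻¹ * (c⁻¹ * b⁻¹) = a * b * (c * a⁻¹ * c⁻¹) * b⁻¹ by group,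
    h.inv_right.eq, mul_inv_cancel_right]

theorem conj_cm (g a b : G) : g * ⁅a, b⁆ * g⁻¹ = ⁅g * a * g⁻¹, g * b * g⁻¹⁆ := by
  simp only [commutatorElement_def]; group

/-- two elements moving `t` by elements they centralize -/
theorem cm_ct {a b z z' : G} (ha : a * t * a⁻¹ = t * z) (hb : b * t * b⁻¹ = t * z')
    (h1 : Commute z b) (h2 : Commute z' a) (h3 : Commute z z') (h4 : Commute z a)
    (h5 : Commute z' b) : Commute ⁅a, b⁆ t := by
  have e1 : a * b * t * (a * b)⁻¹ = t * z * z' := by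
    rw [show a * b * t * (a * b)⁻¹ = a * (b * t * b⁻¹) * a⁻¹ by group, hb,
      show a * (t * z') * a⁻¹ = a * t * a⁻¹ * (a * z' * a⁻¹) by group, ha, ← h2.eq,
      mul_inv_cancel_right]
  have e2 : b * a * t * (b * a)⁻¹ = t * z' * z := by
    rw [show b * a * t * (b * a)⁻¹ = b * (a * t * a⁻¹) * b⁻¹ by group, ha,
      show b * (t * z) * b⁻¹ = b * t * b⁻¹ * (b * z * b⁻¹) by group, hb, ← h1.eq,
      mul_inv_cancel_right]
  have c1 : Commute (z * z') ⁅a, b⁆ :=
    ((((h4.mul_left h2).mul_right (h1.mul_left h5)).mul_right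
      (h4.mul_left h2).inv_right).mul_right (h1.mul_left h5).inv_right)
  have e3 : ⁅a, b⁆ * (t * (z * z')) = t * (z * z') * ⁅a, b⁆ := by
    nth_rewrite 1 [h3.eq]
    rw [← mul_assoc t, ← mul_assoc t, ← e1, ← e2, commutatorElement_def]
    group
  rw [mul_assoc, c1.eq, ← mul_assoc, ← mul_assoc t] at e3
  exact mul_right_cancel e3

section SG

variable (h : SG P φ L k)
include h

theorem cET {S : Set V} {g : G} (hg : g ∈ C[YW P φ S]) {u v : V} (hu : ∀ s ∈ S, P.f s u = 0)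
    (hv : ∀ s ∈ S, P.f s v = 0) (a : F) : Commute (ET P φ u v a) g :=
  cY hg fun s hs => eE_fix h (hu s hs) (hv s hs) a

theorem cET1 {b : V} {g : G} (hg : g ∈ C[YW P φ {b}]) {u v : V} (hu : P.f b u = 0)
    (hv : P.f b v = 0) (a : F) : Commute (ET P φ u v a) g :=
  cET h hg (by rintro _ rfl; exact hu) (by rintro _ rfl; exact hv) a

theorem cET2 {b c : V} {g : G} (hg : g ∈ C[YW P φ {b, c}]) {u v : V} (hu : P.f b u = 0)
    (hv : P.f b v = 0) (hu' : P.f c u = 0) (hv' : P.f c v = 0) (a : F) :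
    Commute (ET P φ u v a) g :=
  cET h hg (by rintro _ (rfl | rfl); exacts [hu, hu']) (by rintro _ (rfl | rfl); exacts [hv, hv']) a

theorem S2_YW {S S' : Set V} (H : ∀ s ∈ S, ∀ a ∈ S', P.f s a = 0) : S2 P φ S' ≤ YW P φ S := by
  rw [S2, closure_le]
  rintro _ ⟨v, hv, c, rfl⟩
  exact mem_YW.2 ⟨eE P v 0 c, fun s hs =>
    eE_fix h (mem_perp_span.2 (H s hs) v hv) (P.f_zero_right s) c, rfl⟩

theorem cS2 {S S' : Set V} (H : ∀ s ∈ S, ∀ a ∈ S', P.f s a = 0) {g s : G}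
    (hg : g ∈ C[YW P φ S]) (hs : s ∈ S2 P φ S') : Commute s g := hg s (S2_YW h H hs)

theorem i2_map (e : P.E) {u v : V} (huv : I2 P u v) : I2 P (e.1 u) (e.1 v) :=
  ⟨(ef e u v).trans huv.1, LinearIndependent.pair_iff.2 fun a b H =>
    LinearIndependent.pair_iff.1 huv.2 a b (e.1.injective (by simpa using H))⟩

theorem i2_lin {u v : V} (huv : I2 P u v) {a b c d : F} (hd : a * d + b * c ≠ 0) :
    I2 P (a • u + b • v) (c • u + d • v) := by
  refine ⟨by simp [P.f_add_left, P.f_add_right, P.f_smul_left, fr h, fs h, huv.1,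
    f_symm_zero huv.1], LinearIndependent.pair_iff.2 fun x z H => ?_⟩
  obtain ⟨e1, e2⟩ := LinearIndependent.pair_iff.1 huv.2 (x * a + z * c) (x * b + z * d)
    (by rw [← H]; module)
  have two := h.two
  constructor
  · apply (mul_eq_zero.1 (?_ : x * (a * d + b * c) = 0)).resolve_right hd
    linear_combination d * e1 + c * e2 - z * c * d * two
  · apply (mul_eq_zero.1 (?_ : z * (a * d + b * c) = 0)).resolve_right hd
    linear_combination b * e1 + a * e2 - x * a * b * two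

theorem i2_smul {u v : V} (huv : I2 P u v) {a b : F} (ha : a ≠ 0) (hb : b ≠ 0) :
    I2 P (a • u) (b • v) := by
  simpa using i2_lin h huv (a := a) (b := 0) (c := 0) (d := b) (by simp [ha, hb])

theorem i2_smul' {u v : V} (huv : I2 P u v) {b : F} (hb : b ≠ 0) : I2 P u (b • v) := by
  simpa using i2_smul h huv one_ne_zero hb

theorem i2_shear {u v : V} (huv : I2 P u v) (r : F) : I2 P u (v + r • u) := by
  simpa [add_comm] using i2_lin h huv (a := 1) (b := 0) (c := r) (d := 1) (by simp)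

theorem i2_shear' {u v : V} (huv : I2 P u v) (r : F) : I2 P (u + r • v) v :=
  i2_symm (i2_shear h (i2_symm huv) r)

theorem i3_addL {u v w : V} (H : I3 P u v w) : I3 P (u + v) u w :=
  ⟨by rw [P.f_add_left, fs h, f_symm_zero H.1, add_zero], by rw [P.f_add_left, H.2.1, H.2.2.1,
    add_zero], H.2.1, li3_iff.2 fun a b c e => by
      obtain ⟨r1, r2, r3⟩ := li3_iff.1 H.2.2.2 (a + b) a c (by rw [← e]; module)
      exact ⟨r2, by rwa [r2, zero_add] at r1, r3⟩⟩

theorem i3_add2 {u v w : V} (H : I3 P u v w) : I2 P u (v + w) :=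
  ⟨by rw [P.f_add_right, H.1, H.2.1, add_zero], LinearIndependent.pair_iff.2 fun a b e => by
    obtain ⟨r1, r2, -⟩ := li3_iff.1 H.2.2.2 a b b (by rw [← e]; module)
    exact ⟨r1, r2⟩⟩

theorem witt1 (g1 : G1 P k) {u u' : V} (hu : u ≠ 0) (hu' : u' ≠ 0) : ∃ e : P.E, e.1 u = u' := by
  obtain ⟨e, he⟩ := g1.witt ![u] ![u'] (by simpa [linearIndependent_unique_iff] using hu)
    (by simpa [linearIndependent_unique_iff] using hu')
    (fun i j => by fin_cases i; fin_cases j; simp [fs h])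
  exact ⟨e, he 0⟩

theorem witt2 (g1 : G1 P k) {u v u' v' : V} (huv : I2 P u v) (huv' : I2 P u' v') :
    ∃ e : P.E, e.1 u = u' ∧ e.1 v = v' := by
  obtain ⟨e, he⟩ := g1.witt ![u, v] ![u', v'] huv.2 huv'.2 (fun i j => by
    fin_cases i <;> fin_cases j <;>
      simp [fs h, huv.1, huv'.1, f_symm_zero huv.1, f_symm_zero huv'.1])
  exact ⟨e, he 0, he 1⟩

theorem witt3 (g1 : G1 P k) {u v w u' v' w' : V} (H : I3 P u v w) (H' : I3 P u' v' w') :
    ∃ e : P.E, e.1 u = u' ∧ e.1 v = v' ∧ e.1 w = w' := by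
  obtain ⟨a1, a2, a3, a4⟩ := H
  obtain ⟨b1, b2, b3, b4⟩ := H'
  obtain ⟨e, he⟩ := g1.witt ![u, v, w] ![u', v', w'] a4 b4 (fun i j => by
    fin_cases i <;> fin_cases j <;>
      simp [fs h, a1, a2, a3, b1, b2, b3, f_symm_zero a1, f_symm_zero a2, f_symm_zero a3,
        f_symm_zero b1, f_symm_zero b2, f_symm_zero b3])
  exact ⟨e, he 0, he 1, he 2⟩

/-- a standard triple with two dual vectors -/
theorem std (g1 : G1 P k) (k3 : 3 ≤ k) : ∃ b u v u' v' : V, I3 P b u v ∧ P.f b u' = 0 ∧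
    P.f u u' = 1 ∧ P.f v u' = 0 ∧ P.f b v' = 0 ∧ P.f u v' = 0 ∧ P.f v v' = 1 := by
  obtain ⟨Fr, hN, -⟩ := g1.fr (m := 0) ![] ![] (Function.injective_of_subsingleton _)
    linearIndependent_empty_type (fun i => i.elim0)
  have o : ∀ {i j : Fin k}, i.1 ≠ j.1 → ∀ b c, P.f (Fr.e (i, b)) (Fr.e (j, c)) = 0 :=
    fun hij b c => Fr.orth _ _ fun e => hij (congrArg (fun x : BI k => x.1.1) e).symm
  refine ⟨Fr.e (⟨0, by omega⟩, false), Fr.e (⟨1, by omega⟩, false), Fr.e (⟨2, by omega⟩, false),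
    Fr.e (⟨1, by omega⟩, true), Fr.e (⟨2, by omega⟩, true),
    ⟨o (by simp) _ _, o (by simp) _ _, o (by simp) _ _, ?_⟩, o (by simp) _ _, hN _,
    o (by simp) _ _, o (by simp) _ _, o (by simp) _ _, hN _⟩
  have := (g1.li Fr).comp ![((⟨0, by omega⟩ : Fin k), false), (⟨1, by omega⟩, false),
    (⟨2, by omega⟩, false)] (fun i j e => by fin_cases i <;> fin_cases j <;> simp_all)
  convert this using 1
  ext i
  fin_cases i <;> rfl

theorem i3_map (e : P.E) {u v w : V} (H : I3 P u v w) : I3 P (e.1 u) (e.1 v) (e.1 w) :=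
  ⟨(ef e _ _).trans H.1, (ef e _ _).trans H.2.1, (ef e _ _).trans H.2.2.1,
    li3_iff.2 fun a b c E => li3_iff.1 H.2.2.2 a b c (e.1.injective (by simpa using E))⟩

theorem ex_dual (g1 : G1 P k) (k3 : 3 ≤ k) {b u v : V} (H : I3 P b u v) : ∃ u' v' : V,
    P.f b u' = 0 ∧ P.f u u' = 1 ∧ P.f v u' = 0 ∧ P.f b v' = 0 ∧ P.f u v' = 0 ∧ P.f v v' = 1 := by
  obtain ⟨b0, u0, v0, u', v', H0, r⟩ := std h g1 k3
  obtain ⟨e, rfl, rfl, rfl⟩ := witt3 h g1 H0 H
  exact ⟨e.1 u', e.1 v', by simpa only [ef] using r⟩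

theorem ex_i3 (g1 : G1 P k) (k3 : 3 ≤ k) {u v : V} (H : I2 P u v) : ∃ w, I3 P u v w := by
  obtain ⟨b0, u0, v0, -, -, H0, -⟩ := std h g1 k3
  obtain ⟨e, rfl, rfl⟩ := witt2 h g1 (i3_12 H0) H
  exact ⟨_, i3_map h e H0⟩

theorem ex_i2 (g1 : G1 P k) (k3 : 3 ≤ k) {v : V} (hv : v ≠ 0) : ∃ w, I2 P w v := by
  obtain ⟨b0, u0, v0, -, -, H0, -⟩ := std h g1 k3
  obtain ⟨e, rfl⟩ := witt1 h g1 (i2_ne (i3_12 H0)) hv
  exact ⟨_, i2_map h e (i3_12 H0)⟩

theorem fix_dual {σ : P.E} {a c : V} (ha : a ≠ 0) (hac : P.f a c = 0) (hσ : σ.1 a = a)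
    (H : Commute (φ σ) (Es P φ a c)) : ∃ r : F, σ.1 c = c + r • a := by
  have e := conj_Es h σ a c
  rw [H.eq, mul_inv_cancel_right, hσ] at e
  have hac' : P.f a (σ.1 c) = 0 := by rw [← hσ, ef]; exact hac
  have e2 := Es_mul h hac hac'
  rw [← e, Es_sq h] at e2
  obtain ⟨-, r, hr⟩ := ET_eq_one h ha (by rw [P.f_add_right, hac, hac', add_zero]) e2.symm
  exact ⟨r, by rw [← hr, ← add_assoc, vadd_self h, zero_add]⟩

theorem n2_mul {u v : V} (huv : P.f u v = 0) (a b d a' b' d' : F) :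
    tv P φ u a * tv P φ v b * Es P φ u (d • v) * (tv P φ u a' * tv P φ v b' * Es P φ u (d' • v)) =
      tv P φ u (a + a') * tv P φ v (b + b') * Es P φ u ((d + d') • v) := by
  have b0 := f_symm_zero huv
  have c1 : Commute (Es P φ u (d • v)) (tv P φ u a' * tv P φ v b') :=
    (comm_same h _ _ _ _ _).mul_right (comm_tv_ET h b0 (by rw [fr h, fs h, mul_zero]) _ _).symm
  rw [c1.mul_mul_mul_comm, (comm_tv_tv h b0 b a').mul_mul_mul_comm, tv_add h, tv_add h,
    Es_adds h huv]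

theorem n2_inj (g2 : G2 P φ) {u v : V} (huv : I2 P u v) {a b d a' b' d' : F}
    (e : tv P φ u a * tv P φ v b * Es P φ u (d • v) =
      tv P φ u a' * tv P φ v b' * Es P φ u (d' • v)) : a = a' ∧ b = b' ∧ d = d' := by
  have := n2_mul h huv.1 a b d a' b' d'
  rw [e, n2_mul h huv.1, fadd_self h, fadd_self h, fadd_self h, tv_zero, tv_zero, zero_smul,
    Es_zero, mul_one, mul_one] at this
  obtain ⟨r1, r2, r3⟩ := g2.uni2 _ _ huv _ _ _ this.symm
  rw [← fsub h, sub_eq_zero] at r1 r2 r3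
  exact ⟨r1, r2, r3⟩

theorem n2_E (u v : V) (d : F) :
    Es P φ u (d • v) = tv P φ u 0 * tv P φ v 0 * Es P φ u (d • v) := by
  rw [tv_zero, tv_zero, one_mul, one_mul]

end SG

/-- An equivariant family of movers. -/
structure Fam (P : PForm F V) (φ : P.E →* G) (L : Subgroup G) (t : G) (y : V → V → G)
    (p : V → G) : Prop where
  zero : p 0 = 1
  conj : ∀ v (e : P.E), φ e * p v * (φ e)⁻¹ = p (e.1 v)
  cent : ∀ v, p v ∈ C[YW P φ {v}]
  two : ∀ v, Is2 (p v)
  mv : ∀ v, p v * t * (p v)⁻¹ = t * tv P φ v 1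
  odd : ∀ v, CO L t (p v)
  cy : ∀ v w, I2 P w v → Commute (p v) (y w v)

theorem is2_conj {a g : G} (ha : Is2 a) : Is2 (g * a * g⁻¹) :=
  let ⟨n, hn⟩ := ha; ⟨n, by rw [conj_pow, hn, mul_one, mul_inv_cancel]⟩

theorem is2_mul {a b : G} (ha : Is2 a) (hb : b * b = 1) (hc : Commute a b) : Is2 (a * b) := by
  obtain ⟨n, hn⟩ := ha
  refine ⟨n + 1, ?_⟩
  rw [hc.mul_pow, pow_succ, pow_mul, hn, one_pow, one_mul, mul_comm, pow_mul, pow_two, hb, one_pow]

variable (c : Ctx0 P φ L k t) (Y : Y1 P φ L t 1 y)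
include c Y

theorem exists_fam (H : PC0 P φ L t y) : ∃ p, Fam P φ L t y p := by
  classical
  obtain ⟨v0, hv0, p0, h1, h2, h3, h4, h5⟩ := H
  have h := c.toSG
  have ex : ∀ v, ∃ e : P.E, v ≠ 0 → e.1 v0 = v := fun v => by
    by_cases hv : v = 0
    · exact ⟨1, fun h => absurd hv h⟩
    · obtain ⟨e, he⟩ := witt1 h c.g1 hv0 hv
      exact ⟨e, fun _ => he⟩
  choose ev hev using ex
  have key : ∀ (e : P.E) v, v ≠ 0 → e.1 v0 = v →
      φ e * p0 * (φ e)⁻¹ = φ (ev v) * p0 * (φ (ev v))⁻¹ := by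
    intro e v hv he
    have := cY h1 (e := (ev v)⁻¹ * e) (by
      rintro _ rfl
      rw [emul, he]
      nth_rewrite 2 [← hev v hv]
      exact einv_apply _ _)
    rw [map_mul, map_inv] at this
    rw [show φ e * p0 * (φ e)⁻¹ = φ (ev v) * ((φ (ev v))⁻¹ * φ e * p0) * (φ e)⁻¹ by group, this.eq]
    group
  have ct : ∀ e : P.E, Commute (φ e) t := fun e => lt c.tc (φ_mem h e)
  refine ⟨fun v => if v = 0 then 1 else φ (ev v) * p0 * (φ (ev v))⁻¹, if_pos rfl, ?_, ?_, ?_, ?_,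
    ?_, ?_⟩
  · intro v e
    by_cases hv : v = 0
    · simp [hv]
    have hv' : e.1 v ≠ 0 := by simpa using hv
    rw [if_neg hv, if_neg hv', ← key (e * ev v) _ hv' (by rw [emul, hev v hv]), map_mul]
    group
  · intro v
    by_cases hv : v = 0
    · rw [if_pos hv]; exact one_mem _
    rw [if_neg hv]
    rintro _ ⟨e, he, rfl⟩
    have := key (e * ev v) v hv (by rw [emul, hev v hv]; exact he v rfl)
    rw [map_mul] at this
    nth_rewrite 2 [← this]
    group
  · intro v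
    by_cases hv : v = 0
    · rw [if_pos hv]; exact ⟨0, by simp⟩
    rw [if_neg hv]; exact is2_conj h2
  · intro v
    by_cases hv : v = 0
    · rw [if_pos hv, hv, tv, ET_zero_left h]; simp
    rw [if_neg hv, show φ (ev v) * p0 * (φ (ev v))⁻¹ * t * (φ (ev v) * p0 * (φ (ev v))⁻¹)⁻¹ =
      φ (ev v) * (p0 * ((φ (ev v))⁻¹ * t * φ (ev v)) * p0⁻¹) * (φ (ev v))⁻¹ by group,
      (ct _).inv_left.eq, inv_mul_cancel_right, h3, ← mul_assoc, (ct _).eq, mul_assoc, mul_assoc,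
      ← mul_assoc (φ _), conj_tv h, hev v hv]
  · intro v κ h6 h7 h8
    by_cases hv : v = 0
    · rw [if_pos hv]; exact Commute.one_right _
    rw [if_neg hv]
    have := (cL h6 (φ_mem h (ev v))).symm
    exact (this.mul_right (h4 κ h6 h7 h8)).mul_right this.inv_right
  · intro v w hw
    have hv := i2_ne hw
    rw [if_neg hv]
    have h6 : I2 P ((ev v)⁻¹.1 w) v0 := by
      have := i2_map h (ev v)⁻¹ hw
      nth_rewrite 3 [← hev v hv] at this
      rwa [einv_apply] at this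
    have h7 := Y.conj _ _ h6 (ev v)
    rw [eapply_inv, hev v hv] at h7
    rw [← h7]
    exact (h5 _ h6).conj (φ (ev v))

theorem y_mv {u v : V} (huv : I2 P u v) : y u v * t * (y u v)⁻¹ = t * Es P φ u v := by
  have e := Y.tact u v huv
  have i := inv_eq_of_mul_eq_one_right (Y.sq u v huv)
  rw [t_inv c.tc] at e
  have : y u v * t * y u v = y u v * (t * y u v * t) * t := by
    rw [mul_assoc (y u v) (t * y u v * t), mul_assoc (t * y u v), tt c.tc, mul_one, mul_assoc]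
  rw [i, this, e, ← mul_assoc, Y.sq u v huv, one_mul, (lt c.tc (ET_mem c.toSG _ _ _)).eq]

theorem y_shear' {u v : V} (huv : I2 P u v) (r : F) :
    y (u + r • v) v = y u v * tv P φ v r := by
  have h := c.toSG
  have e1 := Y.swap _ _ (i2_symm (i2_shear' h huv r))
  have e2 := Y.swap _ _ (i2_symm huv)
  rw [e1, e2, Y.shear _ _ (i2_symm huv), one_smul, one_smul, one_mul, Es_shear h, mul_assoc,
    mul_assoc, (comm_same h v 0 u r 0).eq]

theorem y_add' {u v w : V} (H : I3 P u v w) : y (u + v) w = y u w * y v w := by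
  have h := c.toSG
  have H' : I3 P w u v := i3_swap12 (i3_swap23 H)
  have e1 := Y.swap _ _ (i3_add2 h H')
  have e2 := Y.swap _ _ (i3_12 H')
  have e3 := Y.swap _ _ (i3_13 H')
  have c1 : Commute (Es P φ w u) (y w v) :=
    cET2 h (Y.cent _ _ (i3_13 H')) (fs h _) H'.1 (f_symm_zero H'.2.1) (f_symm_zero H.1) 0
  rw [e1, e2, e3, Y.add _ _ _ H', one_smul, one_smul, one_smul, Es_add0 h H'.1 H'.2.1 H.1,
    mul_assoc, mul_assoc, ← mul_assoc (y w v), ← c1.eq, mul_assoc]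

variable (A : Fam P φ L t y p)
include A

theorem comY0 {u v : V} (huv : I2 P u v) (a b : F) : Commute (p (a • u + b • v)) (y u v) := by
  have h := c.toSG
  by_cases hb : b = 0
  · by_cases ha : a = 0
    · rw [ha, hb, zero_smul, zero_smul, add_zero, A.zero]; exact Commute.one_left _
    rw [hb, zero_smul, add_zero]
    have h1 := A.cy _ _ (i2_smul h (i2_symm huv) (inv_ne_zero ha) ha)
    rw [Y.smul _ _ (i2_smul' h (i2_symm huv) ha) _ (inv_ne_zero ha), inv_smul_smul₀ ha,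
      Y.swap _ _ huv] at h1
    have h2 : Commute (Es P φ u ((1 : F) • v)) (p (a • u)) :=
      cET1 h (A.cent _) (by rw [P.f_smul_left, fs h, mul_zero])
        (by rw [one_smul, P.f_smul_left, huv.1, mul_zero]) 0
    simpa using h1.mul_right h2.symm.inv_right
  have hI : I2 P u (a • u + b • v) := by
    simpa using i2_lin h huv (a := 1) (b := 0) (c := a) (d := b) (by simpa using hb)
  have h1 := A.cy _ _ (i2_symm (i2_smul' h (i2_symm hI) (inv_ne_zero hb)))
  rw [Y.smul _ _ hI _ (inv_ne_zero hb), show b⁻¹ • (a • u + b • v) = v + (b⁻¹ * a) • u by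
    rw [smul_add, inv_smul_smul₀ hb, smul_smul, add_comm], Y.shear _ _ huv] at h1
  have h2 : Commute (tv P φ u (1 * (b⁻¹ * a))) (p (a • u + b • v)) :=
    cET1 h (A.cent _) (f_symm_zero hI.1) (P.f_zero_right _) _
  simpa using h1.mul_right h2.symm.inv_right

theorem comY0' {u v : V} (huv : I2 P u v) : Commute (p u) (y u v) := by
  simpa using comY0 c Y A huv 1 0

variable [Finite F] [Finite G] (r2 : R2 L t)
include r2

theorem sq_mu : ∃ μ : F, ∀ v, p v * p v = tv P φ v μ := by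
  have h := c.toSG
  obtain ⟨b, u, v0, -, -, H, -⟩ := std h c.g1 c.k3
  have hv0 := i2_ne (i3_13 H)
  have c1 : Commute (tv P φ v0 1) (p v0) := cET1 h (A.cent _) (fs h _) (P.f_zero_right _) 1
  have c2 : Commute (p v0 * p v0) t := by
    have : p v0 * p v0 * t * (p v0 * p v0)⁻¹ = t := by
      rw [show p v0 * p v0 * t * (p v0 * p v0)⁻¹ = p v0 * (p v0 * t * (p v0)⁻¹) * (p v0)⁻¹ by group,
        A.mv, show p v0 * (t * tv P φ v0 1) * (p v0)⁻¹ = p v0 * t * (p v0)⁻¹ *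
          (p v0 * tv P φ v0 1 * (p v0)⁻¹) by group, A.mv, ← c1.eq, mul_inv_cancel_right, mul_assoc,
        tv_sq h, mul_one]
    exact mul_inv_eq_iff_eq_mul.1 this
  obtain ⟨s, hs, η, o, hη, ho, e⟩ := kY c r2 c2 (perp_ne hv0 (by rintro _ rfl; exact fs h _))
    (mul_mem (A.cent v0) (A.cent v0))
  have h2 : Is2 (p v0 * p v0) :=
    let ⟨n, hn⟩ := A.two v0; ⟨n, by rw [(Commute.refl _).mul_pow, hn, one_mul]⟩
  have ho1 := two_el c (S2_le h _ hs) hη ho (e ▸ h2)
  obtain ⟨μ, rfl⟩ := (c.g2.crd1 _ _).1 hs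
  rw [ho1, mul_one] at e
  have c3 : Commute (tv P φ v0 μ) (p v0) := cET1 h (A.cent _) (fs h _) (P.f_zero_right _) μ
  have hη1 : η = 1 := by
    refine hη.resolve_right fun e2 => ?_
    have c4 : Commute (p v0) (tv P φ v0 μ * η) := e ▸ (Commute.refl _).mul_right (Commute.refl _)
    have c5 : Commute (p v0) t := by simpa [e2] using c3.symm.inv_right.mul_right c4
    have := A.mv v0
    rw [c5.eq, mul_inv_cancel_right, left_eq_mul, tv_eq_one h hv0] at this
    exact one_ne_zero this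
  rw [hη1, mul_one] at e
  refine ⟨μ, fun v => ?_⟩
  by_cases hv : v = 0
  · rw [hv, A.zero, tv, ET_zero_left h, one_mul]
  obtain ⟨g, rfl⟩ := witt1 h c.g1 hv0 hv
  rw [← A.conj, ← conj_tv h, ← e]
  group

theorem cm3 {b u v : V} (H : I3 P b u v) : ∃ α : F, ⁅p b, y u v⁆ = tv P φ b α := by
  have h := c.toSG
  have huv := i3_23 H
  obtain ⟨a1, a2, a3, a4⟩ := id H
  have b1 := f_symm_zero a1
  have b2 := f_symm_zero a2
  have b3 := f_symm_zero a3
  have hb : b ≠ 0 := i2_ne (i2_symm (i3_12 H))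
  have hS : ∀ x ∈ ({b, u, v} : Set V), ∀ z ∈ ({b, u, v} : Set V), P.f x z = 0 := by
    rintro _ (rfl | rfl | rfl) _ (rfl | rfl | rfl) <;> first | assumption | exact fs h _
  have yc := Y.cent _ _ huv
  have c1 : Commute ⁅p b, y u v⁆ t := cm_ct (A.mv b) (y_mv c Y huv)
    (cET2 h yc b1 (P.f_zero_right _) b2 (P.f_zero_right _) 1) (cET1 h (A.cent b) a1 a2 0)
    (comm_tv_ET h a1 a2 1 0) (cET1 h (A.cent b) (fs h _) (P.f_zero_right _) 1)
    (cET2 h yc (fs h _) a3 b3 (fs h _) 0)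
  have m1 : p b ∈ C[YW P φ {b, u, v}] :=
    cent_mono (by rintro _ rfl; exact Submodule.subset_span (by simp)) (A.cent b)
  have m2 : y u v ∈ C[YW P φ {b, u, v}] :=
    cent_mono (by rintro _ (rfl | rfl) <;> exact Submodule.subset_span (by simp)) yc
  obtain ⟨s, hs, η, o, hη, ho, e⟩ := kY c r2 c1 (perp_ne hb (hS b (by simp)))
    (mul_mem (mul_mem (mul_mem m1 m2) (inv_mem m1)) (inv_mem m2))
  have hE : Es P φ u v ≠ 1 := fun e => by
    have := (Es_eq_one h huv (c := 1)).1 (by rwa [one_smul])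
    exact one_ne_zero this
  obtain ⟨rfl, rfl⟩ := kill c (S2_le h _ hs) ((c.g2.el _ hS).1 s hs) hη ho
    (cS2 h (fun x hx z hz => hS x (Or.inr hx) z hz) yc hs) (ho.co (Y.odd _ _ huv))
    (ET_mem h _ _ _) hE (y_mv c Y huv) (by
      have i := inv_eq_of_mul_eq_one_right (Y.sq u v huv)
      rw [← e, commutatorElement_def, i, show p b * y u v * (p b)⁻¹ * y u v *
        (y u v * (p b * y u v * (p b)⁻¹ * y u v) * y u v) = p b * y u v * (p b)⁻¹ * (y u v * y u v) *
          p b * y u v * (p b)⁻¹ * (y u v * y u v) by group, Y.sq u v huv, mul_one, mul_one,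
        show p b * y u v * (p b)⁻¹ * p b * y u v * (p b)⁻¹ = p b * (y u v * y u v) * (p b)⁻¹ by
          group, Y.sq u v huv, mul_one, mul_inv_cancel])
  rw [mul_one, mul_one] at e
  obtain ⟨σ, rfl⟩ := exists_φ h (S2_le h _ hs)
  have hσ := (c.g2.memS _ σ).1 hs
  have fb : σ.1 b = b := hσ b (mem_perp_span.2 (hS b (by simp)))
  have fu : σ.1 u = u := hσ u (mem_perp_span.2 (hS u (by simp)))
  have fv : σ.1 v = v := hσ v (mem_perp_span.2 (hS v (by simp)))
  have inv : ∀ (g : P.E) (z : G), g.1 b = b → y (g.1 u) (g.1 v) = y u v * z → Commute z (p b) →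
      Commute (φ σ) (φ g) := by
    intro g z g1 g2 g3
    have := conj_cm (φ g) (p b) (y u v)
    rw [A.conj, Y.conj _ _ huv, g1, g2, cm_mul g3, e] at this
    exact (mul_inv_eq_iff_eq_mul.1 this).symm
  obtain ⟨u', v', d1, d2, d3, d4, d5, d6⟩ := ex_dual h c.g1 c.k3 H
  have H1 : I3 P u b v := i3_swap12 H
  have k1 : Commute (φ σ) (Es P φ b u') := inv (eE P b u' 0) (y b v) (eE_fix h (fs h _) d1 0)
    (by rw [eE_fix h b2 d3, Es_apply h d1, b1, d2, zero_smul, add_zero, one_smul, y_add' c Y H1])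
    (comY0' c Y A (i3_13 H)).symm
  have k2 : Commute (φ σ) (Es P φ v u') := inv (eE P v u' 0) (tv P φ v 1) (eE_fix h a2 d1 0)
    (by rw [eE_fix h (fs h _) d3, Es_apply h d3, a3, d2, zero_smul, add_zero, y_shear' c Y huv])
    (cET1 h (A.cent b) a2 (P.f_zero_right _) 1)
  have k3 : Commute (φ σ) (Es P φ b v') := inv (eE P b v' 0) (y u b) (eE_fix h (fs h _) d4 0)
    (by rw [eE_fix h b1 d5, Es_apply h d4, b2, d6, zero_smul, add_zero, one_smul,
      Y.add _ _ _ (i3_swap23 H1)])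
    (A.cy _ _ (i3_12 H1)).symm
  have k4 : Commute (φ σ) (Es P φ u v') := inv (eE P u v' 0) (tv P φ u (1 * 1)) (eE_fix h a1 d4 0)
    (by rw [eE_fix h (fs h _) d5, Es_apply h d5, b3, d6, zero_smul, add_zero, Y.shear _ _ huv])
    (cET1 h (A.cent b) a1 (P.f_zero_right _) _)
  have fx : ∀ {x z w : V}, I2 P x z → P.f x w = 0 → P.f z w = 0 → σ.1 x = x → σ.1 z = z →
      Commute (φ σ) (Es P φ x w) → Commute (φ σ) (Es P φ z w) → σ.1 w = w := by
    intro x z w hI e1 e2 e3 e4 e5 e6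
    obtain ⟨r, hr⟩ := fix_dual h (i2_ne (i2_symm hI)) e1 e3 e5
    obtain ⟨r', hr'⟩ := fix_dual h (i2_ne hI) e2 e4 e6
    have := (LinearIndependent.pair_iff.1 hI.2 r (-r') (by
      rw [neg_smul, ← sub_eq_add_neg, sub_eq_zero]; exact add_left_cancel (hr.symm.trans hr'))).1
    rw [hr, this, zero_smul, add_zero]
  have fu' := fx (i3_13 H) d1 d3 fb fv k1 k2
  have fv' := fx (i3_12 H) d4 d5 fb fu k3 k4
  rw [e]
  refine (c.g2.crd1 _ _).1 ((c.g2.memS _ σ).2 fun x hx => ?_)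
  have hxb : P.f x b = 0 := mem_perp_span.1 hx b rfl
  have := hσ (x + P.f x u • u' + P.f x v • v') (mem_perp_span.2 (by
    rintro _ (rfl | rfl | rfl) <;>
      simp only [P.f_add_left, P.f_smul_left, fc h u', fc h v', d1, d2, d3, d4, d5, d6, hxb,
        mul_zero, mul_one, add_zero, fadd_self h]))
  rw [map_add, map_add, map_smul, map_smul, fu', fv'] at this
  exact add_right_cancel (add_right_cancel this)

theorem cm3c : ∃ α : F, ∀ b u v, I3 P b u v → ⁅p b, y u v⁆ = tv P φ b α := by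
  have h := c.toSG
  obtain ⟨b0, u0, v0, -, -, H0, -⟩ := std h c.g1 c.k3
  obtain ⟨α, hα⟩ := cm3 c Y A r2 H0
  refine ⟨α, fun b u v H => ?_⟩
  obtain ⟨e, rfl, rfl, rfl⟩ := witt3 h c.g1 H0 H
  rw [← A.conj, ← Y.conj _ _ (i3_23 H0), ← conj_cm, hα, conj_tv h]

theorem cm2 {u v : V} (huv : I2 P u v) : ⁅p u, p v⁆ ∈ L := by
  have h := c.toSG
  have a := huv.1
  have b := f_symm_zero a
  have z := P.f_zero_right
  have hS : ∀ x ∈ ({u, v} : Set V), ∀ w ∈ ({u, v} : Set V), P.f x w = 0 := by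
    rintro _ (rfl | rfl) _ (rfl | rfl) <;> first | assumption | exact fs h _
  have c1 : Commute ⁅p u, p v⁆ t := cm_ct (A.mv u) (A.mv v) (cET1 h (A.cent v) b (z _) 1)
    (cET1 h (A.cent u) a (z _) 1) (comm_tv_tv h a 1 1) (cET1 h (A.cent u) (fs h _) (z _) 1)
    (cET1 h (A.cent v) (fs h _) (z _) 1)
  have m1 : p u ∈ C[YW P φ {u, v}] :=
    cent_mono (by rintro _ rfl; exact Submodule.subset_span (by simp)) (A.cent u)
  have m2 : p v ∈ C[YW P φ {u, v}] :=
    cent_mono (by rintro _ rfl; exact Submodule.subset_span (by simp)) (A.cent v)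
  obtain ⟨s, hs, η, o, hη, ho, e⟩ := kY c r2 c1 (perp_ne (i2_ne huv) (hS v (by simp)))
    (mul_mem (mul_mem (mul_mem m1 m2) (inv_mem m1)) (inv_mem m2))
  obtain ⟨μ, hμ⟩ := sq_mu c Y A r2
  obtain ⟨rfl, rfl⟩ := kill c (S2_le h _ hs) ((c.g2.el _ hS).1 s hs) hη ho
    (cS2 h (by rintro _ rfl; exact hS _ (by simp)) (A.cent v) hs) (ho.co (A.odd v))
    (ET_mem h v 0 1) (fun e => one_ne_zero ((tv_eq_one h (i2_ne huv)).1 e)) (A.mv v) (by
      rw [← e, commutatorElement_def, show p u * p v * (p u)⁻¹ * (p v)⁻¹ *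
        (p v * (p u * p v * (p u)⁻¹ * (p v)⁻¹) * (p v)⁻¹) =
          p u * (p v * p v) * (p u)⁻¹ * (p v * p v)⁻¹ by group, hμ,
        ← (cET1 h (A.cent u) a (z _) μ).eq, mul_inv_cancel_right, mul_inv_cancel])
  rw [e, mul_one, mul_one]
  exact S2_le h _ hs

theorem delta {u v : V} (huv : I2 P u v) : ∃ s ∈ S2 P φ {u, v}, ∃ η o, (η = 1 ∨ η = t) ∧
    OK L t o ∧ p u * p v * y u v = p (u + v) * (s * η * o) := by
  have h := c.toSG
  have a := huv.1
  have b := f_symm_zero a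
  have z := P.f_zero_right
  have e1 : p u * p v * y u v * t * (p u * p v * y u v)⁻¹ = p (u + v) * t * (p (u + v))⁻¹ := by
    rw [A.mv, tv_add_vec h a, one_smul, show p u * p v * y u v * t * (p u * p v * y u v)⁻¹ =
      p u * (p v * (y u v * t * (y u v)⁻¹) * (p v)⁻¹) * (p u)⁻¹ by group, y_mv c Y huv,
      show p v * (t * Es P φ u v) * (p v)⁻¹ = p v * t * (p v)⁻¹ * (p v * Es P φ u v * (p v)⁻¹) by
        group, A.mv, ← (cET1 h (A.cent v) b (fs h _) 0).eq, mul_inv_cancel_right,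
      show p u * (t * tv P φ v 1 * Es P φ u v) * (p u)⁻¹ = p u * t * (p u)⁻¹ *
        (p u * tv P φ v 1 * (p u)⁻¹) * (p u * Es P φ u v * (p u)⁻¹) by group, A.mv,
      ← (cET1 h (A.cent u) a (z _) 1).eq, ← (cET1 h (A.cent u) (fs h _) a 0).eq,
      mul_inv_cancel_right, mul_inv_cancel_right]
    group
  have c1 : Commute ((p (u + v))⁻¹ * (p u * p v * y u v)) t := by
    have : p u * p v * y u v * t = p (u + v) * t * (p (u + v))⁻¹ * (p u * p v * y u v) := by
      rw [← e1]; group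
    change _ * _ = _ * _
    rw [mul_assoc, this]
    group
  have m : ∀ {x}, x ∈ Submodule.span F ({u, v} : Set V) → p x ∈ C[YW P φ {u, v}] := fun hx =>
    cent_mono (by rintro _ rfl; exact hx) (A.cent _)
  have su : u ∈ Submodule.span F ({u, v} : Set V) := Submodule.subset_span (by simp)
  have sv : v ∈ Submodule.span F ({u, v} : Set V) := Submodule.subset_span (by simp)
  obtain ⟨s, hs, η, o, hη, ho, e⟩ := kY c r2 c1 (perp_ne (i2_ne huv)
    (by rintro _ (rfl | rfl); exacts [b, fs h _]))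
    (mul_mem (inv_mem (m (add_mem su sv))) (mul_mem (mul_mem (m su) (m sv)) (Y.cent _ _ huv)))
  exact ⟨s, hs, η, o, hη, ho, by rw [← e, mul_inv_cancel_left]⟩

theorem delta1 {u v w : V} (H : I3 P u v w) {α : F}
    (hα : ∀ b u v, I3 P b u v → ⁅p b, y u v⁆ = tv P φ b α) {s η o : G} (hs : s ∈ S2 P φ {u, v})
    (hη : η = 1 ∨ η = t) (ho : OK L t o) (e : p u * p v * y u v = p (u + v) * (s * η * o)) :
    α = 0 ∧ η = 1 := by
  have h := c.toSG
  obtain ⟨a1, a2, a3, -⟩ := id H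
  have b1 := f_symm_zero a1
  have b2 := f_symm_zero a2
  have b3 := f_symm_zero a3
  have z := P.f_zero_right
  have huw := i3_13 H
  have H2 := i3_addL h H
  have q : ∀ {b}, I3 P b u w → p b * y u w * (p b)⁻¹ = tv P φ b α * y u w := fun hb => by
    rw [← hα _ _ _ hb, commutatorElement_def, inv_mul_cancel_right]
  obtain ⟨ε, h1, h2⟩ : ∃ ε : F, η * y u w * η⁻¹ = y u w * Es P φ u (ε • w) ∧ (ε = 0 → η = 1) := by
    rcases hη with rfl | rfl
    · exact ⟨0, by rw [zero_smul, Es_zero]; group, fun _ => rfl⟩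
    · exact ⟨1, by rw [one_smul, Y.tact _ _ huw], fun e => absurd e one_ne_zero⟩
  have e1 : p u * p v * y u v * y u w * (p u * p v * y u v)⁻¹ = tv P φ v α * y u w := by
    rw [show p u * p v * y u v * y u w * (p u * p v * y u v)⁻¹ =
      p u * (p v * (y u v * y u w * (y u v)⁻¹) * (p v)⁻¹) * (p u)⁻¹ by group,
      (Y.com _ _ _ _ (i3_12 H) huw (fs h _) a2 b1 a3).eq, mul_inv_cancel_right, q (i3_swap12 H),
      ((cET1 h (A.cent u) a1 (z _) α).symm.mul_right (comY0' c Y A huw)).eq, mul_inv_cancel_right]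
  have cs : Commute s (y u w) := cS2 h (by
    rintro _ (rfl | rfl) _ (rfl | rfl) <;> first | assumption | exact fs h _) (Y.cent _ _ huw) hs
  have cE : Commute (Es P φ u (ε • w)) (y u w) :=
    cET2 h (Y.cent _ _ huw) (fs h _) (by rw [fr h, a2, mul_zero]) b2 (by rw [fr h, fs h, mul_zero]) 0
  have cse : Commute s (Es P φ u (ε • w)) := by
    obtain ⟨a, b, d, rfl⟩ := (c.g2.crd2 u v a1 s).1 hs
    have f1 : P.f u (ε • w) = 0 := by rw [fr h, a2, mul_zero]
    have f2 : P.f v (ε • w) = 0 := by rw [fr h, a3, mul_zero]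
    exact ((comm_same h _ _ _ _ _).mul_left (comm_tv_ET h b1 f2 _ _)).mul_left
      (comm_same h _ _ _ _ _)
  have e2 : p (u + v) * (s * η * o) * y u w * (p (u + v) * (s * η * o))⁻¹ =
      tv P φ (u + v) α * Es P φ u (ε • w) * y u w := by
    rw [show p (u + v) * (s * η * o) * y u w * (p (u + v) * (s * η * o))⁻¹ =
      p (u + v) * (s * (η * (o * y u w * o⁻¹) * η⁻¹) * s⁻¹) * (p (u + v))⁻¹ by group,
      (ho.co (Y.odd _ _ huw)).eq, mul_inv_cancel_right, h1, (cs.mul_right cse).eq,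
      mul_inv_cancel_right, ← mul_assoc, mul_assoc (p (u + v) * y u w),
      (cET1 h (A.cent (u + v)) H2.1 (by rw [fr h, H2.2.1, mul_zero]) 0).inv_right.eq, ← mul_assoc,
      q H2, mul_assoc, ← cE.eq, mul_assoc]
  rw [← e, e1, tv_add_vec h a1, (comm_tv_tv h a1 α α).eq] at e2
  have e3 := mul_right_cancel e2
  rw [mul_assoc, mul_assoc, left_eq_mul] at e3
  obtain ⟨r1, -, -, -, r2, -⟩ := c.g2.uni3 u v w H α 0 0 α ε 0 (by
    rw [tv_zero, tv_zero, zero_smul, Es_zero, mul_one, mul_one, mul_one, mul_assoc, e3])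
  exact ⟨r1, h2 r2⟩

theorem comY {b u v : V} (huv : I2 P u v) (hu : P.f u b = 0) (hv : P.f v b = 0) :
    Commute (p b) (y u v) := by
  have h := c.toSG
  by_cases hb : ∃ a d : F, b = a • u + d • v
  · obtain ⟨a, d, rfl⟩ := hb
    exact comY0 c Y A huv a d
  obtain ⟨α, hα⟩ := cm3c c Y A r2
  obtain ⟨u0, v0, w0, -, -, H0, -⟩ := std h c.g1 c.k3
  obtain ⟨s, hs, η, o, hη, ho, e⟩ := delta c Y A r2 (i3_12 H0)
  obtain ⟨rfl, -⟩ := delta1 c Y A r2 H0 hα hs hη ho e
  have := hα _ _ _ (i3_of huv hu hv fun a d e => hb ⟨a, d, e⟩)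
  rwa [tv_zero, commutatorElement_eq_one_iff_commute] at this

theorem delta2 {u v : V} (huv : I2 P u v) {μ : F} (hμ : ∀ v, p v * p v = tv P φ v μ) :
    p u * p v = Es P φ u (μ • v) * (p v * p u) ∧
      ∃ s ∈ S2 P φ {u, v}, p u * p v * y u v = p (u + v) * s := by
  have h := c.toSG
  have a := huv.1
  have b := f_symm_zero a
  have z := P.f_zero_right
  obtain ⟨α, hα⟩ := cm3c c Y A r2
  obtain ⟨w, H⟩ := ex_i3 h c.g1 c.k3 huv
  obtain ⟨s, hs, η, o, hη, ho, e⟩ := delta c Y A r2 huv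
  obtain ⟨-, rfl⟩ := delta1 c Y A r2 H hα hs hη ho e
  have hS : ∀ x ∈ ({u, v} : Set V), ∀ w ∈ ({u, v} : Set V), P.f x w = 0 := by
    rintro _ (rfl | rfl) _ (rfl | rfl) <;> first | assumption | exact fs h _
  have cs : Commute s (p (u + v)) := cS2 h (by
    rintro _ rfl _ (rfl | rfl) <;> simp [P.f_add_left, fs h, a, b]) (A.cent _) hs
  have cy : Commute (p u * p v) (y u v) :=
    (comY c Y A r2 huv (fs h _) b).mul_left (comY c Y A r2 huv a (fs h _))
  have e1 : p u * p v * y u v * (p u * p v * y u v) =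
      ⁅p u, p v⁆ * (tv P φ u μ * tv P φ v μ) := by
    rw [cy.symm.mul_mul_mul_comm, Y.sq _ _ huv, mul_one, commutatorElement_def,
      show p u * p v * (p u * p v) = p u * p v * (p u)⁻¹ * (p v)⁻¹ * (p v * (p u * p u) * p v) by
        group, hμ u, ← (cET1 h (A.cent v) b (z _) μ).eq, mul_assoc (tv P φ u μ), hμ v]
  have e2 : p (u + v) * (s * 1 * o) * (p (u + v) * (s * 1 * o)) = tv P φ (u + v) μ * o ^ 2 := by
    rw [mul_one, (cs.mul_left (ho.co (A.odd _))).mul_mul_mul_comm, hμ,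
      (cL ho.1 (S2_le h _ hs)).symm.mul_mul_mul_comm, (c.g2.el _ hS).1 s hs, one_mul, pow_two]
  rw [← e, e1] at e2
  have hl : (⁅p u, p v⁆ * (tv P φ u μ * tv P φ v μ))⁻¹ * tv P φ (u + v) μ ∈ L :=
    mul_mem (inv_mem (mul_mem (cm2 c Y A r2 huv) (mul_mem (ET_mem h _ _ _) (ET_mem h _ _ _))))
      (ET_mem h _ _ _)
  obtain ⟨e3, -, e4⟩ := uniq c hl (Or.inl rfl) (ho.pow 2) (by
    rw [mul_one, mul_assoc, ← e2, inv_mul_cancel])
  have ho1 : o = 1 := odd_sq ho.3 (by rwa [pow_two] at e4)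
  refine ⟨?_, s, hs, by rw [e, ho1, mul_one, mul_one]⟩
  rw [inv_mul_eq_one, tv_add_vec h a, ← ((comm_same h u (μ • v) 0 0 μ).mul_right
    (comm_tv_ET h b (by rw [fr h, fs h, mul_zero]) μ 0).symm).eq] at e3
  rw [← show ⁅p u, p v⁆ = Es P φ u (μ • v) from mul_right_cancel e3, commutatorElement_def]
  group

theorem delta3 : (∀ v, p v * p v = tv P φ v 1) ∧ (∀ u v, I2 P u v → ⁅p u, p v⁆ = Es P φ u v) ∧
    ∃ a ζ : F, ∀ u v, I2 P u v →
      p u * p v * y u v = p (u + v) * (tv P φ u a * tv P φ v a * Es P φ u (ζ • v)) := by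
  have h := c.toSG
  obtain ⟨μ, hμ⟩ := sq_mu c Y A r2
  obtain ⟨u0, v0, w0, -, -, H0, -⟩ := std h c.g1 c.k3
  have I0 := i3_12 H0
  have a0 := I0.1
  have b0 := f_symm_zero a0
  obtain ⟨k1, s, hs, e⟩ := delta2 c Y A r2 I0 hμ
  obtain ⟨a, b, ζ, rfl⟩ := (c.g2.crd2 _ _ a0 s).1 hs
  have all : ∀ u v, I2 P u v →
      p u * p v * y u v = p (u + v) * (tv P φ u a * tv P φ v b * Es P φ u (ζ • v)) := by
    intro u v huv
    obtain ⟨g, rfl, rfl⟩ := witt2 h c.g1 I0 huv
    rw [← map_add, ← map_smul, ← A.conj, ← A.conj, ← A.conj, ← Y.conj _ _ I0, ← conj_tv h,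
      ← conj_tv h, ← conj_Es h, show φ g * p u0 * (φ g)⁻¹ * (φ g * p v0 * (φ g)⁻¹) *
        (φ g * y u0 v0 * (φ g)⁻¹) = φ g * (p u0 * p v0 * y u0 v0) * (φ g)⁻¹ by group, e]
    group
  have e' := all _ _ (i2_symm I0)
  rw [Y.swap _ _ I0, add_comm v0, ← Es_smul h ζ, Es_symm h (ζ • v0), ← mul_assoc,
    (comm_tv_tv h b0 a b).eq] at e'
  have cE : Commute (Es P φ u0 (μ • v0)) (p (u0 + v0)) :=
    cET1 h (A.cent _) (by rw [P.f_add_left, fs h, b0, add_zero])
      (by simp only [P.f_add_left, fr h, fs h, a0, mul_zero, add_zero]) 0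
  have e2 : p (u0 + v0) * (tv P φ u0 a * tv P φ v0 b * Es P φ u0 (ζ • v0) * Es P φ u0 ((1 : F) • v0)) =
      p (u0 + v0) * (Es P φ u0 (μ • v0) * (tv P φ u0 b * tv P φ v0 a * Es P φ u0 (ζ • v0))) := by
    rw [← mul_assoc, ← e, k1, ← mul_assoc (p (u0 + v0)), ← cE.eq, mul_assoc _ (p (u0 + v0)), ← e']
    group
  rw [mul_right_inj, n2_E h u0 v0 1, n2_E h u0 v0 μ, n2_mul h a0, n2_mul h a0] at e2
  obtain ⟨r1, -, r3⟩ := n2_inj h c.g2 I0 e2
  rw [add_zero, zero_add] at r1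
  rw [add_comm, add_left_inj] at r3
  subst r1 r3
  refine ⟨hμ, fun u v huv => ?_, a, ζ, all⟩
  rw [commutatorElement_def, (delta2 c Y A r2 huv hμ).1, one_smul]
  group

omit r2 in
theorem shift (ζ : F) : Fam P φ L t y fun v => p v * tv P φ v ζ := by
  have h := c.toSG
  have z := P.f_zero_right
  have c1 : ∀ v, Commute (tv P φ v ζ) (p v) := fun v => cET1 h (A.cent v) (fs h _) (z _) ζ
  refine ⟨by rw [A.zero, one_mul, tv, ET_zero_left h], fun v e => ?_, fun v => ?_,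
    fun v => is2_mul (A.two v) (tv_sq h _ _) (c1 v).symm, fun v => ?_, fun v κ h1 h2 h3 => ?_,
    fun v w hw => ?_⟩
  · rw [← A.conj, ← conj_tv h]; group
  · exact mul_mem (A.cent v) ((c.g2.el {v} (by rintro _ rfl _ rfl; exact fs h _)).2.2.2.1
      (tv_mem_S2 (Submodule.subset_span (Set.mem_singleton v)) ζ))
  · rw [← A.mv, show p v * tv P φ v ζ * t * (p v * tv P φ v ζ)⁻¹ =
      p v * (tv P φ v ζ * t * (tv P φ v ζ)⁻¹) * (p v)⁻¹ by group, (lt c.tc (ET_mem h v 0 ζ)).eq,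
      mul_inv_cancel_right]
  · exact (A.odd v κ h1 h2 h3).mul_right (cL h1 (ET_mem h _ _ _)).symm
  · exact (A.cy v w hw).mul_left (cET2 h (Y.cent _ _ hw) hw.1 (z _) (fs h _) (z _) ζ)

omit r2 in
theorem shift_add {a ζ : F} (H : ∀ u v, I2 P u v →
      p u * p v * y u v = p (u + v) * (tv P φ u a * tv P φ v a * Es P φ u (ζ • v)))
    {u v : V} (huv : I2 P u v) : p u * tv P φ u ζ * (p v * tv P φ v ζ) * y u v =
      p (u + v) * tv P φ (u + v) ζ * (tv P φ u a * tv P φ v a) := by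
  have h := c.toSG
  have z := P.f_zero_right
  have a0 := huv.1
  have b0 := f_symm_zero a0
  have c1 : Commute (tv P φ u ζ * tv P φ v ζ) (y u v) :=
    (cET2 h (Y.cent _ _ huv) (fs h _) (z _) b0 (z _) ζ).mul_left
      (cET2 h (Y.cent _ _ huv) a0 (z _) (fs h _) (z _) ζ)
  rw [(cET1 h (A.cent v) b0 (z _) ζ).mul_mul_mul_comm, mul_assoc, c1.eq, ← mul_assoc, H u v huv,
    mul_assoc, mul_assoc (p (u + v)), tv_add_vec h a0]
  congr 1
  have e : ∀ b : F, tv P φ u b * tv P φ v b = tv P φ u b * tv P φ v b * Es P φ u ((0 : F) • v) :=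
    fun b => by rw [zero_smul, Es_zero, mul_one]
  nth_rewrite 1 [e ζ]
  nth_rewrite 2 [e a]
  rw [n2_mul h a0, n2_mul h a0, add_comm a]

theorem a_zero {a : F} (H : ∀ u v, I2 P u v →
    p u * p v * y u v = p (u + v) * (tv P φ u a * tv P φ v a)) : a = 0 := by
  have h := c.toSG
  have z := P.f_zero_right
  obtain ⟨u, v, w, -, -, I, -⟩ := std h c.g1 c.k3
  obtain ⟨a1, a2, a3, -⟩ := id I
  have b1 := f_symm_zero a1
  have b2 := f_symm_zero a2
  have b3 := f_symm_zero a3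
  have H' : ∀ u v, I2 P u v → p (u + v) = p u * p v * y u v * (tv P φ u a * tv P φ v a) := by
    intro u v huv
    rw [H u v huv, mul_assoc, (comm_tv_tv h (f_symm_zero huv.1) a a).mul_mul_mul_comm, tv_sq h,
      tv_sq h, mul_one, mul_one]
  have I' : I3 P w u v := i3_swap12 (i3_swap23 I)
  have e1 := H' _ _ (i3_add2 h I)
  have e2 := H' _ _ (i2_symm (i3_add2 h I'))
  rw [H' _ _ (i3_23 I), Y.add _ _ _ I, ← add_assoc] at e1
  rw [H' _ _ (i3_12 I), y_add' c Y I, e1] at e2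
  have ty : ∀ {x u v}, I2 P u v → P.f u x = 0 → P.f v x = 0 → Commute (tv P φ x a) (y u v) :=
    fun huv h1 h2 => cET2 h (Y.cent _ _ huv) h1 (z _) h2 (z _) a
  have c1 : Commute (y v w * (tv P φ v a * tv P φ w a)) (y u v * y u w) :=
    ((Y.com _ _ _ _ (i3_23 I) (i3_12 I) b1 (fs h _) b2 b3).mul_right
      (Y.com _ _ _ _ (i3_23 I) (i3_13 I) b1 a3 b2 (fs h _))).mul_left
      (((ty (i3_12 I) a1 (fs h _)).mul_right (ty (i3_13 I) a1 b3)).mul_left
        ((ty (i3_12 I) a2 a3).mul_right (ty (i3_13 I) a2 (fs h _))))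
  have c2 : Commute (y u v * (tv P φ u a * tv P φ v a)) (p w) :=
    (comY c Y A r2 (i3_12 I) a2 a3).symm.mul_left
      ((cET1 h (A.cent w) b2 (z _) a).mul_left (cET1 h (A.cent w) b3 (z _) a))
  have c3 : Commute (tv P φ u a * tv P φ v a) (y u w * y v w) :=
    ((ty (i3_13 I) (fs h _) b2).mul_right (ty (i3_23 I) b1 b2)).mul_left
      ((ty (i3_13 I) a1 b3).mul_right (ty (i3_23 I) (fs h _) b3))
  have e3 : p u * p v * p w * (y u v * y u w * y v w) *
      (tv P φ v a * tv P φ w a * (tv P φ u a * tv P φ (v + w) a)) =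
      p u * p v * p w * (y u v * y u w * y v w) *
        (tv P φ u a * tv P φ v a * (tv P φ (u + v) a * tv P φ w a)) := by
    calc _ = p u * p v * p w * ((y u v * y u w) * (y v w * (tv P φ v a * tv P φ w a))) *
          (tv P φ u a * tv P φ (v + w) a) := by group
      _ = p u * p v * (y u v * (tv P φ u a * tv P φ v a) * p w) * (y u w * y v w) *
          (tv P φ (u + v) a * tv P φ w a) := by rw [← c1.eq]; simpa only [mul_assoc] using e2
      _ = p u * p v * p w * y u v * (tv P φ u a * tv P φ v a * (y u w * y v w)) *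
          (tv P φ (u + v) a * tv P φ w a) := by rw [c2.eq]; group
      _ = _ := by rw [c3.eq]; group
  have sq2 : ∀ {x w}, P.f x w = 0 → tv P φ x a * tv P φ w a * (tv P φ x a * tv P φ w a) = 1 :=
    fun hx => by rw [(comm_tv_tv h (f_symm_zero hx) a a).mul_mul_mul_comm, tv_sq h, tv_sq h, mul_one]
  rw [mul_right_inj, ← mul_assoc, ((comm_tv_tv h b1 a a).mul_left (comm_tv_tv h b2 a a)).eq,
    tv_add_vec h a3, tv_add_vec h a1, mul_assoc, ← mul_assoc _ _ (Es P φ v (a • w)), sq2 a3,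
    one_mul, ← mul_assoc, ← mul_assoc, sq2 a1, one_mul] at e3
  exact (c.g2.uni3 u v w I a 0 a a 0 a (by
    rw [tv_zero, zero_smul, Es_zero, mul_one, mul_one, mul_assoc (tv P φ u a),
      (comm_tv_ET h b2 (by rw [fr h, b3, mul_zero]) a 0).eq]
    change tv P φ u a * (Es P φ u (a • v) * tv P φ w a) * _ = 1
    rw [← e3, ← mul_assoc, tv_sq h, one_mul, Es_sq h])).1

omit r2 in
theorem p_adds (r2 : R2 L t) (sq : ∀ v, p v * p v = tv P φ v 1)
    (H : ∀ u v, I2 P u v → p (u + v) = p u * p v * y u v) (v : V) (a b : F) :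
    p ((a + b) • v) = p (a • v) * p (b • v) * tv P φ v (a * b) := by
  have h := c.toSG
  have z := P.f_zero_right
  by_cases hv : v = 0
  · rw [hv, smul_zero, smul_zero, smul_zero, A.zero, tv, ET_zero_left h, one_mul, one_mul]
  by_cases ha : a = 0
  · rw [ha, zero_add, zero_smul, zero_mul, A.zero, tv_zero, one_mul, mul_one]
  by_cases hb : b = 0
  · rw [hb, add_zero, zero_smul, mul_zero, A.zero, tv_zero, mul_one, mul_one]
  by_cases hab : a + b = 0
  · have : a = b := by rwa [← fsub h, sub_eq_zero] at hab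
    rw [hab, zero_smul, A.zero, this, sq, tv_smul h, mul_one, tv_sq h]
  obtain ⟨u, huv⟩ := ex_i2 h c.g1 c.k3 hv
  have Ia := i2_smul' h huv ha
  have Ib := i2_smul' h huv hb
  have r : a • v = (a * b⁻¹) • b • v := by rw [smul_smul, inv_mul_cancel_right₀ hb]
  have e1 := H _ _ (i2_smul' h huv hab)
  have e2 := H _ _ (i2_shear' h Ib (a * b⁻¹))
  rw [y_shear' c Y Ib, ← r, H _ _ Ia, add_assoc, ← add_smul, e1, Y.adds _ _ huv, tv_smul h,
    show b * b * (a * b⁻¹) = a * b by field_simp] at e2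
  have c1 : Commute (y u (a • v)) (p (b • v)) :=
    (comY c Y A r2 Ia Ib.1 (by rw [P.f_smul_left, fr h, fs h, mul_zero, mul_zero])).symm
  have c2 : Commute (y u (a • v) * y u (b • v)) (tv P φ v (a * b)) :=
    ((cET2 h (Y.cent _ _ Ia) huv.1 (z _) (by rw [P.f_smul_left, fs h, mul_zero]) (z _) _).mul_right
      (cET2 h (Y.cent _ _ Ib) huv.1 (z _) (by rw [P.f_smul_left, fs h, mul_zero]) (z _) _)).symm
  have e3 : p u * p ((a + b) • v) * (y u (a • v) * y u (b • v)) =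
      p u * (p (a • v) * p (b • v) * tv P φ v (a * b)) * (y u (a • v) * y u (b • v)) := by
    rw [e2, mul_assoc _ (y u (a • v)), c1.eq, mul_assoc (p u) (_ * tv P φ v (a * b)),
      mul_assoc (p (a • v) * p (b • v)), ← c2.eq]
    group
  exact mul_left_cancel (mul_right_cancel e3)

theorem p_canon {v : V} (hv : v ≠ 0) (x : G) :
    x ∈ BL P φ t v ↔ ∃ s a : F, x = p (s • v) * tv P φ v a := by
  have h := c.toSG
  have z := P.f_zero_right
  have m : ∀ s : F, p (s • v) ∈ C[YW P φ {v}] := fun s => cent_mono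
    (by rintro _ rfl; exact Submodule.smul_mem _ _ (Submodule.subset_span rfl)) (A.cent _)
  have c1 : ∀ s a : F, Commute (tv P φ v a) (p (s • v)) := fun s a =>
    cET1 h (m s) (fs h _) (z _) a
  have mv : ∀ s : F, p (s • v) * t * (p (s • v))⁻¹ = t * tv P φ v (s * s) := fun s => by
    rw [A.mv, tv_smul h, mul_one]
  have cy : ∀ {w x} (s : F), I2 P w x → P.f w v = 0 → P.f x v = 0 → Commute (p (s • v)) (y w x) :=
    fun s hw h1 h2 => comY c Y A r2 hw (by rw [fr h, h1, mul_zero]) (by rw [fr h, h2, mul_zero])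
  constructor
  · rintro ⟨h1, h2, ⟨a, h3⟩, h4⟩
    haveI : CharP F 2 := CharTwo.of_one_ne_zero_of_two_eq_zero one_ne_zero h.two
    obtain ⟨s, rfl⟩ := FiniteField.isSquare_of_char_two (ringChar.eq F 2) a
    have c2 : Commute ((p (s • v))⁻¹ * x) t := by
      have : x * t = p (s • v) * t * (p (s • v))⁻¹ * x := by rw [mv, ← h3]; group
      change _ * _ = _ * _
      rw [mul_assoc, this]
      group
    obtain ⟨s', hs, η, o, hη, ho, e⟩ := kY c r2 c2 (perp_ne hv (by rintro _ rfl; exact fs h _))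
      (mul_mem (inv_mem (m s)) h1)
    obtain ⟨a, rfl⟩ := (c.g2.crd1 _ _).1 hs
    obtain ⟨w, hw⟩ := ex_i2 h c.g1 c.k3 hv
    have c3 : Commute ((p (s • v))⁻¹ * x) (y w v) := (cy s hw hw.1 (fs h _)).inv_left.mul_left
      (h4 w hw _ ((Y.canon _ _ hw _).2 ⟨1, 1, one_mem _, by rw [one_smul, mul_one]⟩))
    have c4 : Commute (tv P φ v a) (y w v) := cET2 h (Y.cent _ _ hw) hw.1 (z _) (fs h _) (z _) a
    have hη1 : η = 1 := by
      refine hη.resolve_right fun e2 => ?_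
      rw [e, e2] at c3
      have c5 : Commute t (y w v) := by
        simpa [mul_assoc] using (c4.inv_left.mul_left c3).mul_left (ho.co (Y.odd _ _ hw)).inv_left
      have := y_mv c Y hw
      rw [← c5.eq, mul_inv_cancel_right, left_eq_mul] at this
      exact one_ne_zero ((Es_eq_one h hw (c := 1)).1 (by rwa [one_smul]))
    rw [hη1, mul_one, inv_mul_eq_iff_eq_mul, ← mul_assoc] at e
    obtain ⟨n, hn⟩ := h2
    obtain ⟨n', hn'⟩ := is2_mul (A.two (s • v)) (tv_sq h v a) (c1 s a).symm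
    have c6 : Commute (p (s • v) * tv P φ v a) o :=
      (ho.co (A.odd _)).symm.mul_left (cL ho.1 (ET_mem h _ _ _))
    have ho1 : o = 1 := odd_two_pow ho.3 (n := n + n') (by
      have : x ^ 2 ^ (n + n') = 1 := by rw [pow_add, pow_mul, hn, one_pow]
      rwa [e, c6.mul_pow, add_comm, pow_add, pow_mul, hn', one_pow, one_mul, ← pow_add,
        add_comm] at this)
    exact ⟨s, a, by rw [e, ho1, mul_one]⟩
  · rintro ⟨s, a, rfl⟩
    have m2 : p (s • v) * tv P φ v a ∈ C[YW P φ {v}] :=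
      mul_mem (m s) ((c.g2.el {v} (by rintro _ rfl _ rfl; exact fs h _)).2.2.2.1
        (tv_mem_S2 (Submodule.subset_span (Set.mem_singleton v)) a))
    refine ⟨m2, is2_mul (A.two _) (tv_sq h v a) (c1 s a).symm, ⟨s * s, ?_⟩, fun w hw x hx => ?_⟩
    · rw [← mv, show p (s • v) * tv P φ v a * t * (p (s • v) * tv P φ v a)⁻¹ =
        p (s • v) * (tv P φ v a * t * (tv P φ v a)⁻¹) * (p (s • v))⁻¹ by group,
        (lt c.tc (ET_mem h v 0 a)).eq, mul_inv_cancel_right]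
    obtain ⟨b, s', hs, rfl⟩ := (Y.canon _ _ hw _).1 hx
    refine Commute.mul_right ?_ (cS2 h (by
      rintro _ rfl _ (rfl | rfl); exacts [f_symm_zero hw.1, fs h _]) m2 hs).symm
    by_cases hb : b = 0
    · rw [hb, zero_smul, Y.zero]; exact Commute.one_right _
    have Ib := i2_smul' h hw hb
    have f1 : P.f (b • v) v = 0 := by rw [P.f_smul_left, fs h, mul_zero]
    exact (cy s Ib hw.1 f1).mul_left (cET2 h (Y.cent _ _ Ib) hw.1 (z _) f1 (z _) a)

theorem exists_pc : ∃ p, PC P φ L t y p := by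
  have h := c.toSG
  obtain ⟨-, -, a, ζ, H⟩ := delta3 c Y A r2
  have A' := shift c Y A ζ
  have H' := fun u v (huv : I2 P u v) => shift_add c Y A H huv
  obtain rfl := a_zero c Y A' r2 H'
  obtain ⟨sq, com, -⟩ := delta3 c Y A' r2
  have add : ∀ u v, I2 P u v → p (u + v) * tv P φ (u + v) ζ =
      p u * tv P φ u ζ * (p v * tv P φ v ζ) * y u v := fun u v huv => by
    rw [H' u v huv, tv_zero, tv_zero, mul_one, mul_one]
  refine ⟨_, A'.zero, A'.conj, fun v => ?_, A'.cent, fun b u v => comY c Y A' r2, sq, add,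
    p_adds c Y A' r2 sq add, com, fun v hv => p_canon c Y A' r2 hv, A'.odd⟩
  have e := A'.mv v
  have c1 := cET1 h (A'.cent v) (fs h v) (P.f_zero_right _) 1
  generalize p v * tv P φ v ζ = q at e c1 ⊢
  rw [mul_inv_eq_iff_eq_mul, mul_assoc, c1.eq, ← inv_mul_eq_iff_eq_mul, ← mul_assoc,
    t_inv c.tc] at e
  rw [t_inv c.tc, e]

omit c Y A r2

/-- **C2B** -/
theorem c2b : C2bStmt.{u, v} := by
  intro F V _ _ _ _ _ G _ _ P φ L k t c r2 y Y H
  obtain ⟨p, A⟩ := exists_fam c.toCtx0 Y H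
  exact exists_pc c.toCtx0 Y A r2

end Cfsg.Agent.H51.SpC2b
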